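import Groth.Agent.Lib.DerComp.Push

/-!
# The telescope condition along derived adjunctions
-/

set_option linter.style.haveILetI false
set_option linter.unusedSectionVars false

universe u

open CategoryTheory CategoryTheory.Limits Opposite
attribute [local instance] HasDerivedCategory.standard

namespace Groth.Agent.Lib.DerComp.AdjGood

open Groth.Agent.Lib.DerCat Crit

variable {C D : Type u} [SmallCategory C] [SmallCategory D] {J : GrothendieckTopology C}
  {J' : GrothendieckTopology D} {O_C : Sheaf J CommRingCat.{u}} {O_D : Sheaf J' CommRingCat.{u}}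

section FreeIso

variable {L : _root_.ModSite.Mod O_C ⥤ _root_.ModSite.Mod O_D} [L.Additive]
  {Rr : _root_.ModSite.Mod O_D ⥤ _root_.ModSite.Mod O_C} (adj : L ⊣ Rr) {W : C} {V : D}
  (σ : ∀ M, _root_.ModSite.sect (Rr.obj M) W ≃+ _root_.ModSite.sect M V)
  (hσ : ∀ {M N} (p : M ⟶ N) x, σ N ((Rr.map p).val.app (op W) x) = p.val.app (op V) (σ M x))

/-- Sections read through the adjunction. -/
noncomputable def α (M : _root_.ModSite.Mod O_D) :
    (L.obj (_root_.ModSite.freeOn O_C W) ⟶ M) ≃+ _root_.ModSite.sect M V :=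
  ((adj.homAddEquiv _ M).trans (ExtZero.Restr.freeOnEquiv W (Rr.obj M))).trans (σ M)

include hσ in
lemma α_comp {M N : _root_.ModSite.Mod O_D} (x : L.obj (_root_.ModSite.freeOn O_C W) ⟶ M)
    (p : M ⟶ N) : α adj σ N (x ≫ p) = p.val.app (op V) (α adj σ M x) := by
  change σ N (ExtZero.Restr.freeOnEquiv _ _ (adj.homEquiv _ _ (x ≫ p))) = _
  rw [Adjunction.homEquiv_naturality_right, ExtZero.Restr.freeOnEquiv_comp]
  exact hσ p _

/-- Free modules correspond. -/
noncomputable def freeIso : _root_.ModSite.freeOn O_D V ≅ L.obj (_root_.ModSite.freeOn O_C W) where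
  hom := (ExtZero.Restr.freeOnEquiv V _).symm (α adj σ _ (𝟙 _))
  inv := (α adj σ _).symm (ExtZero.Restr.freeOnEquiv V _ (𝟙 _))
  hom_inv_id := (ExtZero.Restr.freeOnEquiv V _).injective (by
    rw [ExtZero.Restr.freeOnEquiv_comp, AddEquiv.apply_symm_apply, ← α_comp adj σ hσ, Category.id_comp,
      AddEquiv.apply_symm_apply])
  inv_hom_id := (α adj σ _).injective (by
    rw [α_comp adj σ hσ, AddEquiv.apply_symm_apply, ← ExtZero.Restr.freeOnEquiv_comp, Category.id_comp,
      AddEquiv.apply_symm_apply])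

lemma ρ_freeIso {a : O_C.obj.obj (op W)} {b : O_D.obj.obj (op V)}
    (hab : ∀ M x, σ M ((show (_root_.ModSite.ringSh O_C).obj.obj (op W) from a) • x) =
      (show (_root_.ModSite.ringSh O_D).obj.obj (op V) from b) • σ M x) :
    ρ O_D V b ≫ (freeIso adj σ hσ).hom = (freeIso adj σ hσ).hom ≫ L.map (ρ O_C W a) := by
  apply (ExtZero.Restr.freeOnEquiv V _).injective
  rw [Local.freeOnEquiv_ρ, ExtZero.Restr.freeOnEquiv_comp]
  have h₀ : ExtZero.Restr.freeOnEquiv V (L.obj (_root_.ModSite.freeOn O_C W)) (freeIso adj σ hσ).hom =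
      α adj σ _ (𝟙 _) := AddEquiv.apply_symm_apply _ _
  rw [h₀, ← α_comp adj σ hσ, Category.id_comp]
  refine Eq.symm ?_
  change σ _ (ExtZero.Restr.freeOnEquiv _ _ (adj.homEquiv _ _ (L.map _))) = _
  rw [← Category.comp_id (L.map _), Adjunction.homEquiv_naturality_left, Local.freeOnEquiv_ρ]
  exact hab _ _

end FreeIso

variable (L : _root_.ModSite.Mod O_C ⥤ _root_.ModSite.Mod O_D) [L.Additive]
  [PreservesFiniteLimits L] [PreservesFiniteColimits L]
  (G : DerivedCategory (_root_.ModSite.Mod O_D) ⥤ DerivedCategory (_root_.ModSite.Mod O_C))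
  (adj : L.mapDerivedCategory ⊣ G) [G.CommShift ℤ] {W : C} {V : D}
  (t : _root_.ModSite.freeOn O_D V ≅ L.obj (_root_.ModSite.freeOn O_C W))

/-- Morphism groups out of free modules along the adjunction. -/
noncomputable def homEquiv (K : DerivedCategory (_root_.ModSite.Mod O_D)) (n : ℤ) :
    (SiteCmp.inD O_C (_root_.ModSite.freeOn O_C W) ⟶ (G.obj K)⟦n⟧) ≃+
      (SiteCmp.inD O_D (_root_.ModSite.freeOn O_D V) ⟶ K⟦n⟧) :=
  let d : SiteCmp.inD O_D (_root_.ModSite.freeOn O_D V) ≅
      L.mapDerivedCategory.obj (SiteCmp.inD O_C (_root_.ModSite.freeOn O_C W)) :=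
    (DerivedCategory.singleFunctor (_root_.ModSite.Mod O_D) 0).mapIso t ≪≫
      ((L.mapDerivedCategorySingleFunctor 0).app _).symm
  { toFun := fun x => d.hom ≫ (adj.homEquiv _ _).symm (x ≫ (G.commShiftIso n).inv.app K)
    invFun := fun y => adj.homEquiv _ _ (d.inv ≫ y) ≫ (G.commShiftIso n).hom.app K
    left_inv := fun x => by simp
    right_inv := fun y => by simp
    map_add' := fun x y => by
      simp [Adjunction.homEquiv_counit, Functor.map_add] }

variable {a : O_C.obj.obj (op W)} {b : O_D.obj.obj (op V)}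
  (ht : ρ O_D V b ≫ t.hom = t.hom ≫ L.map (ρ O_C W a))

include ht in
lemma homEquiv_act (K : DerivedCategory (_root_.ModSite.Mod O_D)) (n : ℤ)
    (x : SiteCmp.inD O_C (_root_.ModSite.freeOn O_C W) ⟶ (G.obj K)⟦n⟧) :
    homEquiv L G adj t K n (act O_C (G.obj K) W a n x) = act O_D K V b n (homEquiv L G adj t K n x) := by
  let FC := DerivedCategory.singleFunctor (_root_.ModSite.Mod O_C) 0
  let FD := DerivedCategory.singleFunctor (_root_.ModSite.Mod O_D) 0
  let d : SiteCmp.inD O_D (_root_.ModSite.freeOn O_D V) ≅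
      L.mapDerivedCategory.obj (SiteCmp.inD O_C (_root_.ModSite.freeOn O_C W)) :=
    FD.mapIso t ≪≫ ((L.mapDerivedCategorySingleFunctor 0).app _).symm
  have hd : FD.map (ρ O_D V b) ≫ d.hom =
      d.hom ≫ L.mapDerivedCategory.map (FC.map (ρ O_C W a)) := by
    have hn := (L.mapDerivedCategorySingleFunctor 0).inv.naturality (ρ O_C W a)
    simp only [Functor.comp_map] at hn
    simp only [d, Iso.trans_hom, Iso.symm_hom, Iso.app_inv, Functor.mapIso_hom, Category.assoc]
    rw [← FD.map_comp_assoc, ht, FD.map_comp_assoc]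
    exact congrArg (FD.map t.hom ≫ ·) hn
  change d.hom ≫ (adj.homEquiv _ _).symm ((FC.map (ρ O_C W a) ≫ x) ≫ _) =
    FD.map (ρ O_D V b) ≫ d.hom ≫ _
  rw [Category.assoc, Adjunction.homEquiv_naturality_left_symm, ← Category.assoc, ← hd, Category.assoc]

include ht adj in
/-- The telescope condition passes through the adjunction. -/
theorem good_iff (K : DerivedCategory (_root_.ModSite.Mod O_D)) :
    Good O_C (G.obj K) W a ↔ Good O_D K V b := by
  refine forall_congr' fun n => ?_
  let E := Equiv.piCongrRight fun _ : ℕ => (homEquiv L G adj t K n).toEquiv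
  refine (Equiv.comp_bijective _ E).symm.trans (Iff.trans ?_ (Equiv.bijective_comp E _))
  refine Iff.of_eq (congrArg Function.Bijective (funext fun x => funext fun k => ?_))
  change homEquiv L G adj t K n (x k - act O_C _ W a n (x (k + 1))) =
    homEquiv L G adj t K n (x k) - act O_D K V b n (homEquiv L G adj t K n (x (k + 1)))
  rw [map_sub, homEquiv_act L G adj t ht]

section Orth

variable (L₀ : _root_.ModSite.Mod O_C ⥤ _root_.ModSite.Mod O_D) [L₀.Additive]
  [PreservesFiniteLimits L₀] [PreservesFiniteColimits L₀]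
  (Rr : _root_.ModSite.Mod O_D ⥤ _root_.ModSite.Mod O_C) [Rr.Additive] (adj₀ : L₀ ⊣ Rr)
  (fn : C → D) (φ : ∀ V, O_C.obj.obj (op V) → O_D.obj.obj (op (fn V)))
  (σ : ∀ V M, _root_.ModSite.sect (Rr.obj M) V ≃+ _root_.ModSite.sect M (fn V))
  (hσ : ∀ V {M N} (p : M ⟶ N) x, σ V N ((Rr.map p).val.app (op V) x) = p.val.app (op (fn V)) (σ V M x))
  (hab : ∀ V (a : O_C.obj.obj (op V)) M x,
    σ V M ((show (_root_.ModSite.ringSh O_C).obj.obj (op V) from a) • x) =
      (show (_root_.ModSite.ringSh O_D).obj.obj (op (fn V)) from φ V a) • σ V M x)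

include adj₀ σ hσ hab in
/-- Orthogonality to complete objects passes to exact left adjoints. -/
theorem orth_map (I : _root_.DerComp.IdealSh O_C) (I' : _root_.DerComp.IdealSh O_D)
    (hI : ∀ V f, f ∈ I.ideal V → φ V f ∈ I'.ideal (fn V))
    {Cn : DerivedCategory (_root_.ModSite.Mod O_C)}
    (hC : ∀ E, _root_.DerComp.IsDerComp O_C I E → Subsingleton (Cn ⟶ E))
    (E : DerivedCategory (_root_.ModSite.Mod O_D)) (hE : _root_.DerComp.IsDerComp O_D I' E) :
    Subsingleton (L₀.mapDerivedCategory.obj Cn ⟶ E) := by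
  haveI : (DerivedCategory.Qh (C := _root_.ModSite.Mod O_D)).IsLeftAdjoint := inferInstance
  let adj := DerAdj.derivedAdj adj₀
  letI := adj.rightAdjointCommShift ℤ
  haveI := hC _ (show _root_.DerComp.IsDerComp O_C I _ from fun V f hf =>
    (van_iff_good O_C _ V f).2 ((good_iff L₀ _ adj (freeIso adj₀ (σ V) (hσ V))
      (ρ_freeIso adj₀ (σ V) (hσ V) (hab V f)) E).2
        ((van_iff_good O_D E _ _).1 (hE _ _ (hI V f hf)))))
  exact (adj.homEquiv Cn E).subsingleton

end Orth

end Groth.Agent.Lib.DerComp.AdjGood
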