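import Groth.Agent.Lib.DerComp.AffineFinite
import Groth.Agent.Lib.DR.DComp.Classical
import Mathlib.RingTheory.AdicCompletion.Completeness

/-!
# Cohomology of derived completions on a Noetherian affine scheme is the classical completion
-/

set_option linter.style.haveILetI false

universe u

open CategoryTheory CategoryTheory.Limits Opposite Pretriangulated AlgebraicGeometry
attribute [local instance] HasDerivedCategory.standard

namespace Groth.Agent.Lib.DerComp.AffineAdic

open Groth.Agent.Lib Groth.Agent.Lib.DerComp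

/-- Linear maps preserve the adic filtration. -/
theorem map_pow_smul_top {A P Q : Type*} [CommRing A] [AddCommGroup P] [Module A P] [AddCommGroup Q]
    [Module A Q] {I : Ideal A} (g : P →ₗ[A] Q) (n : ℕ) (z : P) (hz : z ∈ (I ^ n • ⊤ : Submodule A P)) :
    g z ∈ (I ^ n • ⊤ : Submodule A Q) := by
  have h := Submodule.mem_map_of_mem (f := g) hz
  rw [Submodule.map_smul''] at h
  exact Submodule.smul_mono le_rfl le_top h

/-- Transfer of adic completeness along a compatible identification with the completion. -/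
theorem adic_of_equiv {A M N N' : Type*} [CommRing A] [AddCommGroup M] [Module A M] [AddCommGroup N]
    [Module A N] [AddCommGroup N'] [Module A N'] (I : Ideal A) (hI : I.FG) (u : M ≃ₗ[A] N)
    (Ψ : N' ≃ₗ[A] AdicCompletion I M) (f : N →ₗ[A] N')
    (hf : ∀ m, Ψ (f (u m)) = AdicCompletion.of I M m) :
    IsAdicComplete I N' ∧ ∀ n : ℕ,
      (∀ y : N', ∃ x : N, f x - y ∈ (I ^ n • ⊤ : Submodule A N')) ∧
      (∀ x : N, f x ∈ (I ^ n • ⊤ : Submodule A N') → x ∈ (I ^ n • ⊤ : Submodule A N)) := by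
  have hc := AdicCompletion.isAdicComplete (M := M) hI
  refine ⟨?_, fun n => ⟨fun y => ?_, fun x hx => ?_⟩⟩
  · exact
      { haus' := fun x hx => Ψ.injective <| by
          rw [map_zero]
          exact hc.haus' _ fun n => by
            rw [SModEq.zero]
            exact map_pow_smul_top Ψ.toLinearMap n x (SModEq.zero.1 (hx n))
        prec' := fun g hg => by
          obtain ⟨L, hL⟩ := hc.prec' (fun n => Ψ (g n)) fun {m n} hmn => by
            rw [SModEq.sub_mem, ← map_sub]
            exact map_pow_smul_top Ψ.toLinearMap m _ (SModEq.sub_mem.1 (hg hmn))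
          refine ⟨Ψ.symm L, fun n => SModEq.sub_mem.2 ?_⟩
          have h := map_pow_smul_top Ψ.symm.toLinearMap n _ (SModEq.sub_mem.1 (hL n))
          simpa using h }
  · obtain ⟨m, hm⟩ := Submodule.Quotient.mk_surjective _ (AdicCompletion.eval I M n (Ψ y))
    refine ⟨u m, ?_⟩
    have h : Ψ (f (u m) - y) ∈ (I ^ n • ⊤ : Submodule A (AdicCompletion I M)) := by
      rw [AdicCompletion.pow_smul_top_eq_ker_eval hI, LinearMap.mem_ker, map_sub, map_sub, hf,
        AdicCompletion.eval_of, Submodule.mkQ_apply, hm, sub_self]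
    simpa using map_pow_smul_top Ψ.symm.toLinearMap n _ h
  · obtain ⟨m, rfl⟩ := u.surjective x
    refine map_pow_smul_top u.toLinearMap n m ?_
    have h : AdicCompletion.of I M m ∈ (I ^ n • ⊤ : Submodule A (AdicCompletion I M)) := by
      rw [← hf]
      exact map_pow_smul_top Ψ.toLinearMap n _ hx
    rw [AdicCompletion.pow_smul_top_eq_ker_eval hI, LinearMap.mem_ker, AdicCompletion.eval_of,
      Submodule.mkQ_apply, Submodule.Quotient.mk_eq_zero] at h
    exact h

/-- Cohomology of any object with the universal property of the completion is the adic completion. -/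
theorem core (X : Scheme.{u}) [IsAffine X] [IsNoetherian X] (I : Ideal (_root_.DerComp.GSec X.sheaf))
    (𝓘 : _root_.DerComp.IdealSh X.sheaf) (h𝓘 : 𝓘.IsGenBy (fun a : I => (a : _root_.DerComp.GSec X.sheaf)))
    {K K' Cn : DerivedCategory (ModSite.Mod X.sheaf)} (hK : ∀ m : ℤ, DCoh.IsPseudoCoherentD (X := X) m K)
    (c : K ⟶ K') {m₂ : K' ⟶ Cn} {m₃ : Cn ⟶ K⟦(1 : ℤ)⟧} (hT : Triangle.mk c m₂ m₃ ∈ distinguishedTriangles)
    (hK' : _root_.DerComp.IsDerComp X.sheaf 𝓘 K')
    (horth : ∀ E, _root_.DerComp.IsDerComp X.sheaf 𝓘 E → Subsingleton (Cn ⟶ E)) (p : ℤ) :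
    IsAdicComplete I (AffineCompl.O₀ X ⟶ K'⟦p⟧) ∧ ∀ n : ℕ,
      (∀ y : AffineCompl.O₀ X ⟶ K'⟦p⟧, ∃ x : AffineCompl.O₀ X ⟶ K⟦p⟧,
        Linear.rightComp (_root_.DerComp.GSec X.sheaf) (AffineCompl.O₀ X) (c⟦p⟧') x - y ∈
          (I ^ n • ⊤ : Submodule (_root_.DerComp.GSec X.sheaf) (AffineCompl.O₀ X ⟶ K'⟦p⟧))) ∧
      (∀ x : AffineCompl.O₀ X ⟶ K⟦p⟧,
        Linear.rightComp (_root_.DerComp.GSec X.sheaf) (AffineCompl.O₀ X) (c⟦p⟧') x ∈
          (I ^ n • ⊤ : Submodule (_root_.DerComp.GSec X.sheaf) (AffineCompl.O₀ X ⟶ K'⟦p⟧)) →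
        x ∈ (I ^ n • ⊤ : Submodule (_root_.DerComp.GSec X.sheaf) (AffineCompl.O₀ X ⟶ K⟦p⟧))) := by
  haveI := AffineG.isNoetherianRing X
  have hfg : I.FG := IsNoetherian.noetherian I
  obtain ⟨r, s, hs⟩ := Submodule.fg_iff_exists_fin_generating_family.1 hfg
  have hsI : ∀ i, s i ∈ I := fun i => hs ▸ Submodule.subset_span ⟨i, rfl⟩
  have hgen : 𝓘.IsGenBy s := ⟨fun i U => h𝓘.1 ⟨s i, hsI i⟩ U, fun I' hI' => h𝓘.2 I' fun a U => by
    have h : ∀ b ∈ Submodule.span (_root_.DerComp.GSec X.sheaf) (Set.range s), ∀ U, b.1 U ∈ I'.ideal U := by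
      intro b hb
      induction hb using Submodule.span_induction with
      | mem x hx => obtain ⟨i, rfl⟩ := hx; exact hI' i
      | zero => exact fun U => Ideal.zero_mem _
      | add x y _ _ hx hy => exact fun U => Ideal.add_mem _ (hx U) (hy U)
      | smul c x _ hx => exact fun U => Ideal.mul_mem_left _ _ (hx U)
    exact h _ (hs.symm ▸ a.2) U⟩
  have hI : ∀ a ∈ I, a.1 ⊤ ∈ 𝓘.ideal ⊤ := fun a ha => h𝓘.1 ⟨a, ha⟩ ⊤
  have hY := KosTest.nilp_kos s (List.finRange r).reverse (KosTest.u₀ X.sheaf)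
    fun i hi => absurd (List.mem_reverse.2 (List.mem_finRange i)) hi
  have hperp : RGamma.Perp I ((AffineG.G X).obj Cn) :=
    AffineCompl.perp_of_orth s hs fun Y hY' => AffineCompl.subsingleton_of_test X s (List.finRange r) Cn
      (fun n => AffineCompl.subsingleton_test s hgen horth n _ hY) Y hY'
  have hb : RGamma.PBij I ((AffineG.G X).map c) :=
    RGamma.pBij_of_triangle _ ((AffineG.G X).map_distinguished _ hT) hperp
  have hc : DRing.IsDerivedComplete I ((AffineG.G X).obj K') :=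
    AffineCompl.isDerivedComplete_G X 𝓘 I hI hK'
  haveI := DR.DComp.hasDerivedCompletion hfg
  obtain ⟨e, he⟩ := DR.DComp.exists_iso_of_pBij hb (DR.DComp.pBij_toDerivedCompletion' _) hc
    (DR.DComp.isDerivedComplete_completion _)
  obtain ⟨e', he'⟩ := DR.DComp.exists_equiv_adicCompletion hfg ((AffineG.G X).obj K)
    (fun i => haveI := AffineFinite.finite_HD X K hK i
      ⟨DR.DComp.ar_of_finite, DR.DComp.bd_of_finite⟩) p
  let u := AffineCompl.hEquiv X K p
  let u' := AffineCompl.hEquiv X K' p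
  let Ψ := (u'.symm.trans
    (((DerivedCategory.homologyFunctor (ModuleCat.{u} (AffineG.A X)) p).mapIso e).toLinearEquiv)).trans e'
  refine adic_of_equiv I hfg u Ψ _ fun m => ?_
  have h1 : u'.symm (u m ≫ c⟦p⟧') = DMod.Basic.mapHD ((AffineG.G X).map c) p m :=
    u'.symm_apply_eq.2 (AffineCompl.hEquiv_naturality X c p m).symm
  refine (congrArg (fun z => e' ((((DerivedCategory.homologyFunctor (ModuleCat.{u} (AffineG.A X)) p).mapIso
    e).toLinearEquiv) z)) h1).trans ?_
  refine Eq.trans (congrArg e' ?_) (he' m)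
  rw [← he, Functor.map_comp]
  rfl


end Groth.Agent.Lib.DerComp.AffineAdic
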