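import Mathlib.Algebra.Homology.HomotopyCategory.Pretriangulated
import Mathlib.Algebra.Homology.Linear

/-!
# Iterated mapping cones of multiplications

`kos s l X` is the complex obtained from `X` by successively taking the cones of the
multiplications by `s i`, `i ∈ l`.  An isomorphism between the images of two starting complexes
that intertwines the multiplications extends to the iterated cones.
-/

universe v v' v'' u u' u''

open CategoryTheory CategoryTheory.Limits CategoryTheory.Category CochainComplex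

namespace Groth.Agent.Lib.DerComp.Kos

variable {A : Type u} [Category.{v} A] [Preadditive A] [HasBinaryBiproducts A]
  {A' : Type u'} [Category.{v'} A'] [Preadditive A'] [HasBinaryBiproducts A']
  {B : Type u''} [Category.{v''} B] [Preadditive B] [HasBinaryBiproducts B]
  {R : Type*} [Semiring R] [Linear R A] {R' : Type*} [Semiring R'] [Linear R' A']

/-- The iterated cone. -/
noncomputable def kos {ι : Type*} (s : ι → R) :
    List ι → CochainComplex A ℤ → CochainComplex A ℤ
  | [], X => X
  | g :: l, X => kos s l (mappingCone (s g • 𝟙 X))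

@[simp] lemma kos_nil {ι : Type*} (s : ι → R) (X : CochainComplex A ℤ) : kos s [] X = X := rfl

@[simp] lemma kos_cons {ι : Type*} (s : ι → R) (g : ι) (l : List ι) (X : CochainComplex A ℤ) :
    kos s (g :: l) X = kos s l (mappingCone (s g • 𝟙 X)) := rfl

lemma smul_id_comm (r : R) {X Y : CochainComplex A ℤ} (φ : X ⟶ Y) :
    φ ≫ (r • 𝟙 Y) = (r • 𝟙 X) ≫ φ := by
  rw [Linear.comp_smul, Linear.smul_comp, comp_id, id_comp]

lemma smul_map {X Y : CochainComplex A ℤ} (φ : X ⟶ Y) (r : R) :
    r • 𝟙 (mappingCone φ) = mappingCone.map φ φ (r • 𝟙 X) (r • 𝟙 Y)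
      (smul_id_comm r φ) := by
  ext n
  simp [mappingCone.ext_from_iff _ (n + 1) n rfl, mappingCone.map]

lemma map_congr {X Y X' Y' : CochainComplex B ℤ} {φ : X ⟶ Y} {ψ : X' ⟶ Y'} {a a' : X ⟶ X'}
    {b b' : Y ⟶ Y'} {h : φ ≫ b = a ≫ ψ} {h' : φ ≫ b' = a' ≫ ψ} (ha : a = a') (hb : b = b') :
    mappingCone.map φ ψ a b h = mappingCone.map φ ψ a' b' h' := by
  subst ha
  subst hb
  rfl

/-- An isomorphism of cones from isomorphisms of sources and targets. -/
@[simps]
noncomputable def coneIso {X Y X' Y' : CochainComplex B ℤ} (φ : X ⟶ Y) (ψ : X' ⟶ Y') (a : X ≅ X')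
    (b : Y ≅ Y') (h : φ ≫ b.hom = a.hom ≫ ψ) : mappingCone φ ≅ mappingCone ψ where
  hom := mappingCone.map φ ψ a.hom b.hom h
  inv := mappingCone.map ψ φ a.inv b.inv (by rw [Iso.comp_inv_eq, assoc, h, a.inv_hom_id_assoc])
  hom_inv_id := by
    rw [← mappingCone.map_comp, ← mappingCone.map_id φ]
    exact map_congr a.hom_inv_id b.hom_inv_id
  inv_hom_id := by
    rw [← mappingCone.map_comp, ← mappingCone.map_id ψ]
    exact map_congr a.inv_hom_id b.inv_hom_id

set_option backward.defeqAttrib.useBackward true in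
set_option backward.isDefEq.respectTransparency false in
/-- Naturality of the comparison of cones. -/
lemma map_mapHomologicalComplexIso (H : A ⥤ B) [H.Additive] {X Y : CochainComplex A ℤ}
    (φ : X ⟶ Y) (a : X ⟶ X) (b : Y ⟶ Y) (h : φ ≫ b = a ≫ φ) :
    (H.mapHomologicalComplex (ComplexShape.up ℤ)).map (mappingCone.map φ φ a b h) ≫
        (mappingCone.mapHomologicalComplexIso φ H).hom =
      (mappingCone.mapHomologicalComplexIso φ H).hom ≫
        mappingCone.map _ _ ((H.mapHomologicalComplex (ComplexShape.up ℤ)).map a)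
          ((H.mapHomologicalComplex (ComplexShape.up ℤ)).map b)
          (by rw [← Functor.map_comp, ← Functor.map_comp, h]) := by
  ext n
  dsimp [mappingCone.mapHomologicalComplexIso]
  simp only [mappingCone.mapHomologicalComplexXIso_eq φ H n (n + 1) rfl,
    mappingCone.mapHomologicalComplexXIso'_hom, mappingCone.ext_to_iff _ _ _ rfl]
  constructor
  all_goals
    dsimp [mappingCone.map]
    simp only [mappingCone.desc_f _ _ _ _ n (n + 1) rfl, Functor.map_add, Functor.map_comp,
      Preadditive.add_comp, Preadditive.comp_add, assoc, HomComplex.Cochain.zero_cochain_comp_v,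
      HomComplex.Cochain.ofHom_v, HomologicalComplex.comp_f, Functor.mapHomologicalComplex_map_f,
      mappingCone.inl_v_fst_v, mappingCone.inr_f_fst_v, mappingCone.inl_v_snd_v,
      mappingCone.inr_f_snd_v, mappingCone.inl_v_fst_v_assoc, mappingCone.inr_f_fst_v_assoc,
      mappingCone.inl_v_snd_v_assoc, mappingCone.inr_f_snd_v_assoc, comp_id, id_comp, comp_zero,
      zero_comp, add_zero, zero_add]
    simp only [← H.map_comp, ← H.map_comp_assoc, mappingCone.inl_v_fst_v, mappingCone.inr_f_fst_v,
      mappingCone.inl_v_snd_v, mappingCone.inr_f_snd_v, comp_id, comp_zero, H.map_zero, zero_comp,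
      add_zero, zero_add]
    exact comp_id _

/-- Isomorphic starting complexes give isomorphic iterated cones. -/
theorem nonempty_transport (F : A ⥤ B) [F.Additive] (G : A' ⥤ B) [G.Additive] {ι : Type*}
    (s : ι → R) (s' : ι → R') : ∀ (l : List ι) (X : CochainComplex A ℤ) (Y : CochainComplex A' ℤ)
      (e : (F.mapHomologicalComplex (ComplexShape.up ℤ)).obj X ≅
        (G.mapHomologicalComplex (ComplexShape.up ℤ)).obj Y),
      (∀ i, (F.mapHomologicalComplex (ComplexShape.up ℤ)).map (s i • 𝟙 X) ≫ e.hom =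
        e.hom ≫ (G.mapHomologicalComplex (ComplexShape.up ℤ)).map (s' i • 𝟙 Y)) →
      Nonempty ((F.mapHomologicalComplex (ComplexShape.up ℤ)).obj (kos s l X) ≅
        (G.mapHomologicalComplex (ComplexShape.up ℤ)).obj (kos s' l Y))
  | [], _, _, e, _ => ⟨e⟩
  | g :: l, X, Y, e, h => by
    refine nonempty_transport F G s s' l _ _
      (mappingCone.mapHomologicalComplexIso (s g • 𝟙 X) F ≪≫
        coneIso _ _ e e (h g) ≪≫ (mappingCone.mapHomologicalComplexIso (s' g • 𝟙 Y) G).symm)
      fun i => ?_
    simp only [Iso.trans_hom, Iso.symm_hom, coneIso_hom, assoc]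
    rw [smul_map, smul_map, reassoc_of% (map_mapHomologicalComplexIso F _ _ _ _)]
    refine congrArg ((mappingCone.mapHomologicalComplexIso (s g • 𝟙 X) F).hom ≫ ·) ?_
    rw [← mappingCone.map_comp_assoc]
    refine (congrArg (· ≫ _) (map_congr (h i) (h i)
      (h' := ?_))).trans ((congrArg (· ≫ _) (mappingCone.map_comp _ _ _ e.hom e.hom (h g)
        ((G.mapHomologicalComplex (ComplexShape.up ℤ)).map (s' i • 𝟙 Y))
        ((G.mapHomologicalComplex (ComplexShape.up ℤ)).map (s' i • 𝟙 Y)) ?_)).trans ?_)
    · rw [reassoc_of% (h g), assoc, ← Functor.map_comp, ← Functor.map_comp, smul_id_comm]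
    · rw [← Functor.map_comp, ← Functor.map_comp, smul_id_comm]
    rw [assoc]
    refine congrArg (mappingCone.map _ _ e.hom e.hom (h g) ≫ ·) ?_
    rw [← cancel_mono (mappingCone.mapHomologicalComplexIso (s' g • 𝟙 Y) G).hom, assoc,
      Iso.inv_hom_id, comp_id, assoc, map_mapHomologicalComplexIso, Iso.inv_hom_id_assoc]

end Groth.Agent.Lib.DerComp.Kos
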