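import Groth.Agent.Lib.DerComp.NilpTest
import Groth.Agent.Lib.DerComp.Kos

/-!
# Koszul test objects for derived completeness on a site
-/

set_option linter.style.haveILetI false

universe u

open CategoryTheory CategoryTheory.Limits Opposite Pretriangulated
attribute [local instance] HasDerivedCategory.standard

namespace Groth.Agent.Lib.DerComp.KosTest

open Groth.Agent.Lib Groth.Agent.Lib.DerCat Crit Local NilpTest Kos

variable {C : Type u} [SmallCategory C] {J : GrothendieckTopology C} {O : Sheaf J CommRingCat.{u}}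

/-- The structure sheaf as a complex. -/
noncomputable abbrev u₀ (O : Sheaf J CommRingCat.{u}) : CochainComplex (ModSite.Mod O) ℤ :=
  (CochainComplex.singleFunctor (ModSite.Mod O) 0).obj (ModSite.unit O)

/-- The triangle on the cone of a multiplication. -/
theorem exists_triangle (t : _root_.DerComp.GSec O) (X : CochainComplex (ModSite.Mod O) ℤ) :
    ∃ (a : DerivedCategory.Q.obj X ⟶ DerivedCategory.Q.obj (CochainComplex.mappingCone (t • 𝟙 X)))
      (b : DerivedCategory.Q.obj (CochainComplex.mappingCone (t • 𝟙 X)) ⟶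
        (DerivedCategory.Q.obj X)⟦(1 : ℤ)⟧),
      Triangle.mk (t • 𝟙 (DerivedCategory.Q.obj X)) a b ∈ distinguishedTriangles := by
  let T := DerivedCategory.Q.mapTriangle.obj (CochainComplex.mappingCone.triangle (t • 𝟙 X))
  have hT : T ∈ distinguishedTriangles := DerivedCategory.mappingCone_triangle_distinguished _
  refine ⟨T.mor₂, T.mor₃, ?_⟩
  have e : t • 𝟙 (DerivedCategory.Q.obj X) = DerivedCategory.Q.map (t • 𝟙 X) := by
    rw [Functor.map_smul, CategoryTheory.Functor.map_id]
  rw [e]
  exact hT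

/-- The iterated cone is killed by powers of every member of the family. -/
theorem nilp_kos {ι : Type*} (s : ι → _root_.DerComp.GSec O) :
    ∀ (l : List ι) (X : CochainComplex (ModSite.Mod O) ℤ),
      (∀ i, i ∉ l → Kills (s i) (DerivedCategory.Q.obj X)) →
      Nilp s (DerivedCategory.Q.obj (kos s l X))
  | [], _, h => fun i => h i List.not_mem_nil
  | g :: l, X, h => by
    obtain ⟨a, b, hT⟩ := exists_triangle (s g) X
    refine nilp_kos s l _ fun i hi => ?_
    by_cases hig : i = g
    · subst hig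
      exact kills_cone hT
    · exact kills_obj₃ hT (h i (by simp [hig, hi])) (h i (by simp [hig, hi]))

/-- An object whose iterated cone vanishes has no maps to objects killed by powers of the
family. -/
theorem subsingleton_of_kos {ι : Type*} (s : ι → _root_.DerComp.GSec O) :
    ∀ (l : List ι) (X : CochainComplex (ModSite.Mod O) ℤ),
      IsZero (DerivedCategory.Q.obj (kos s l X)) →
      ∀ E, Nilp s E → Subsingleton (DerivedCategory.Q.obj X ⟶ E)
  | [], _, h, _, _ => ⟨fun a b => IsZero.eq_of_src h a b⟩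
  | g :: l, X, h, E, hE => by
    obtain ⟨a, b, hT⟩ := exists_triangle (s g) X
    have hb := (TriVan.subsingleton_iff_bijective hT E).1
      (fun n => subsingleton_of_kos s l _ h _ fun i => (hE i).shift n) 0
    let z := (shiftFunctorZero (DerivedCategory (ModSite.Mod O)) ℤ).app E
    have hdiv : ∀ x : DerivedCategory.Q.obj X ⟶ E, ∃ y, s g • y = x := fun x => by
      obtain ⟨y, hy⟩ : ∃ y : DerivedCategory.Q.obj X ⟶ E⟦(0 : ℤ)⟧,
          (s g • 𝟙 (DerivedCategory.Q.obj X)) ≫ y = x ≫ z.inv := hb.2 (x ≫ z.inv)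
      refine ⟨y ≫ z.hom, ?_⟩
      rw [Linear.smul_comp, Category.id_comp] at hy
      rw [← Linear.smul_comp, hy, Category.assoc, Iso.inv_hom_id, Category.comp_id]
    obtain ⟨N, hN⟩ := hE g
    have hdivN : ∀ (m : ℕ) (x : DerivedCategory.Q.obj X ⟶ E), ∃ y, s g ^ m • y = x := fun m => by
      induction m with
      | zero => exact fun x => ⟨x, by rw [pow_zero, one_smul]⟩
      | succ m ih =>
        intro x
        obtain ⟨y, rfl⟩ := ih x
        obtain ⟨z, rfl⟩ := hdiv y
        exact ⟨z, by rw [pow_succ, mul_smul]⟩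
    refine subsingleton_of_forall_eq 0 fun x => ?_
    obtain ⟨y, rfl⟩ := hdivN N x
    calc s g ^ N • y = y ≫ (s g ^ N • 𝟙 E) := by rw [Linear.comp_smul, Category.comp_id]
      _ = 0 := by rw [hN, comp_zero]

variable {I : _root_.DerComp.IdealSh O} {ι : Type*}

/-- An object with no maps to objects killed by the family has no maps from them either. -/
theorem subsingleton_hom_of_nilp' (s : ι → _root_.DerComp.GSec O) :
    ∀ (l : List ι) (D : DerivedCategory (ModSite.Mod O)),
    (∀ E, Nilp s E → Subsingleton (D ⟶ E)) → (∀ i, i ∉ l → Kills (s i) D) →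
    ∀ Y, Nilp s Y → Subsingleton (Y ⟶ D)
  | [], D, h0, hl, Y, _ => by
    haveI := h0 D fun i => hl i List.not_mem_nil
    exact ⟨fun a b => by rw [← Category.comp_id a, ← Category.comp_id b, Subsingleton.elim (𝟙 D) 0,
      comp_zero, comp_zero]⟩
  | g :: l, D, h0, hl, Y, hY => by
    obtain ⟨D', m₂, m₃, hT⟩ := distinguished_cocone_triangle (s g • 𝟙 D)
    have h0' : ∀ E, Nilp s E → Subsingleton (D' ⟶ E) := fun E hE => by
      have := (TriVan.subsingleton_iff_bijective hT E).2 (fun n => by
        haveI := h0 _ (fun i => (hE i).shift n)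
        exact ⟨fun a b _ => Subsingleton.elim (α := D ⟶ E⟦n⟧) a b,
          fun y => ⟨0, Subsingleton.elim (α := D ⟶ E⟦n⟧) _ _⟩⟩) 0
      exact ⟨fun a b => (cancel_mono ((shiftFunctorZero (DerivedCategory (ModSite.Mod O)) ℤ).inv.app E)).1
        (this.elim _ _)⟩
    haveI := subsingleton_hom_of_nilp' s l D' h0' (fun i hi => by
      by_cases hig : i = g
      · subst hig
        exact kills_cone hT
      · exact kills_obj₃ hT (hl i (by simp [hig, hi])) (hl i (by simp [hig, hi]))) Y hY
    have hdiv : ∀ x : Y ⟶ D, ∃ y, s g • y = x := fun x => by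
      obtain ⟨y, hy⟩ : ∃ y : Y ⟶ D, x = y ≫ (s g • 𝟙 D) :=
        (Triangle.mk (s g • 𝟙 D) m₂ m₃).coyoneda_exact₂ hT x (Subsingleton.elim (α := Y ⟶ D') _ _)
      exact ⟨y, by rw [hy, Linear.comp_smul, Category.comp_id]⟩
    obtain ⟨N, hN⟩ := hY g
    have hdivN : ∀ (m : ℕ) (x : Y ⟶ D), ∃ y, s g ^ m • y = x := fun m => by
      induction m with
      | zero => exact fun x => ⟨x, by rw [pow_zero, one_smul]⟩
      | succ m ih =>
        intro x
        obtain ⟨y, rfl⟩ := ih x
        obtain ⟨z, rfl⟩ := hdiv y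
        exact ⟨z, by rw [pow_succ, mul_smul]⟩
    refine subsingleton_of_forall_eq 0 fun x => ?_
    obtain ⟨y, rfl⟩ := hdivN N x
    calc s g ^ N • y = (s g ^ N • 𝟙 Y) ≫ y := by rw [Linear.smul_comp, Category.id_comp]
      _ = 0 := by rw [hN, zero_comp]

/-- The sections `a i` seen on `C/U`. -/
abbrev S {U : C} (a : ι → O.obj.obj (op U)) : ι → _root_.DerComp.GSec (O.over U) :=
  fun i => _root_.DerComp.GSec.ofSect O U (a i)

/-- The test object attached to a family of sections over `U`. -/
noncomputable abbrev KU {U : C} {r : ℕ} (a : Fin r → O.obj.obj (op U)) :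
    DerivedCategory (ModSite.Mod (O.over U)) :=
  DerivedCategory.Q.obj (kos (S a) (List.finRange r) (u₀ (O.over U)))

theorem nilp_KU {U : C} {r : ℕ} (a : Fin r → O.obj.obj (op U)) : Nilp (S a) (KU a) :=
  nilp_kos _ _ _ fun i hi => absurd (List.mem_finRange i) hi

/-- If all test maps out of the iterated cone vanish, so do those out of the first term. -/
theorem subsingleton_hom_kos {U : C} {a : ι → O.obj.obj (op U)}
    (ha : ∀ i, a i ∈ I.ideal U) {K : DerivedCategory (ModSite.Mod O)} (hK : _root_.DerComp.IsDerComp O I K) :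
    ∀ (l : List ι) (X : CochainComplex (ModSite.Mod (O.over U)) ℤ),
      (∀ n : ℤ, Subsingleton (DerivedCategory.Q.obj (kos (S a) l X) ⟶ (R U).obj (K⟦n⟧))) →
      ∀ n : ℤ, Subsingleton (DerivedCategory.Q.obj X ⟶ (R U).obj (K⟦n⟧))
  | [], _, h, n => h n
  | g :: l, X, h, n => by
    let t := _root_.DerComp.GSec.ofSect O U (a g)
    obtain ⟨m₂, m₃, hT⟩ := exists_triangle t X
    have h' := subsingleton_hom_kos ha hK l _ h
    let Z := (R U).obj (K⟦n⟧)
    have hb := (TriVan.subsingleton_iff_bijective hT Z).1 (fun m => by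
      let e : Z⟦m⟧ ≅ (R U).obj (K⟦n + m⟧) :=
        ((R U).commShiftIso m).symm.app (K⟦n⟧) ≪≫ (R U).mapIso ((shiftFunctorAdd _ n m).symm.app K)
      exact ⟨fun p q => (cancel_mono e.hom).1 ((h' (n + m)).elim _ _)⟩) 0
    let z := (shiftFunctorZero (DerivedCategory (ModSite.Mod (O.over U))) ℤ).app Z
    have hmul : Function.Bijective (fun χ : DerivedCategory.Q.obj X ⟶ Z => t • χ) := by
      have e : (fun χ : DerivedCategory.Q.obj X ⟶ Z => t • χ) =
          (fun χ : DerivedCategory.Q.obj X ⟶ Z⟦(0 : ℤ)⟧ => χ ≫ z.hom) ∘ (fun χ => (t • 𝟙 _) ≫ χ) ∘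
            fun χ => χ ≫ z.inv := by
        funext χ
        simp [Linear.smul_comp]
      rw [e]
      exact z.homToEquiv.bijective.comp (hb.comp z.symm.homToEquiv.bijective)
    have hgood : ∀ ⦃V : C⦄ (p : V ⟶ U), Good O (K⟦n⟧) V ((O.obj.map p.op).hom (a g)) := fun V p =>
      (van_iff_good O _ V _).1 (isDerComp_shift hK n V _ (I.map_mem p (ha g)))
    refine subsingleton_of_forall_eq 0 fun x => ?_
    exact eq_zero_of_tele (fun χ : DerivedCategory.Q.obj X ⟶ Z => t • χ) hmul
      (RHomComplete.bijective_of_good (K⟦n⟧) hgood _) (smul_zero _) x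

/-- A derived complete object seen by no test object is zero. -/
theorem isZero_of_test {K : DerivedCategory (ModSite.Mod O)} (hK : _root_.DerComp.IsDerComp O I K)
    (hI : I.IsFiniteType)
    (h : ∀ (U : C) (r : ℕ) (a : Fin r → O.obj.obj (op U)), (I.over U).IsGenBy (S a) →
      ∀ n : ℤ, Subsingleton (KU a ⟶ (R U).obj (K⟦n⟧))) : IsZero K := by
  let S₀ : Set C := {U | ∃ (r : ℕ) (a : Fin r → O.obj.obj (op U)),
    (I.over U).IsGenBy fun i => _root_.DerComp.GSec.ofSect O U (a i)}
  refine TriVan.isZero_of_separating (fun U : S₀ => ModSite.freeOn O (U : C))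
    (ExtZero.Restr.isSeparating_freeOn S₀ fun X => ?_) K fun U m => ?_
  · obtain ⟨T, hT', hgen⟩ := hI X
    refine ⟨Σ Z : C, {k : Z ⟶ X // T k}, fun p => p.1, fun p => p.2.1, ?_, fun p => hgen p.2.1 p.2.2⟩
    refine J.superset_covering (fun Z k hk => ?_) hT'
    exact Sieve.ofArrows_mk _ _ (⟨Z, k, hk⟩ : Σ Z : C, {k : Z ⟶ X // T k})
  obtain ⟨U, r, a, hgen⟩ := U
  have ha : ∀ i, a i ∈ I.ideal U := fun i => by
    have := hgen.1 i (Over.mk (𝟙 U))
    simp [_root_.DerComp.GSec.ofSect, _root_.DerComp.IdealSh.over] at this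
    exact this
  have hW := subsingleton_hom_kos ha hK (List.finRange r) (u₀ (O.over U)) (h U r a hgen) m
  let e : DerivedCategory.Q.obj (u₀ (O.over U)) ≅
      SiteCmp.inD (O.over U) (ModSite.unit (O.over U)) :=
    (((SingleFunctors.evaluation _ _ 0).mapIso
      (DerivedCategory.singleFunctorsPostcompQIso (ModSite.Mod (O.over U)))).app _).symm
  let adj := adjD (_root_.ModSite.extZeroAdj O U)
  let t : (_root_.ModSite.extZero O U).mapDerivedCategory.obj (DerivedCategory.Q.obj (u₀ (O.over U))) ≅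
      SiteCmp.inD O (ModSite.freeOn O U) :=
    (_root_.ModSite.extZero O U).mapDerivedCategory.mapIso e ≪≫
      ((_root_.ModSite.extZero O U).mapDerivedCategorySingleFunctor 0).app _
  exact ⟨fun p q => (cancel_epi t.hom).1 ((adj.homEquiv _ _).injective (hW.elim _ _))⟩

end Groth.Agent.Lib.DerComp.KosTest
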