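import Groth.Agent.Lib.DerComp.AffineG
import Groth.Agent.Lib.DerComp.KosTest
import Groth.Agent.Lib.DR.DComp.Completion

/-!
# Derived completion commutes with derived global sections on an affine scheme
-/

set_option linter.style.haveILetI false
set_option linter.unusedSectionVars false

universe u

open CategoryTheory CategoryTheory.Limits Opposite Pretriangulated AlgebraicGeometry
attribute [local instance] HasDerivedCategory.standard

namespace Groth.Agent.Lib.DerComp.AffineCompl

open Groth.Agent.Lib Groth.Agent.Lib.DerCat Crit NilpTest Kos KosTest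

section Site

variable {C : Type u} [SmallCategory C] {J : GrothendieckTopology C} {O : Sheaf J CommRingCat.{u}}

/-- A telescope of a nilpotent map is bijective. -/
theorem bijective_Φ_of_pow {M : Type u} [AddCommGroup M] (f : M →+ M) (N : ℕ)
    (hf : ∀ m, f^[N] m = 0) : Function.Bijective (Tele.Φ f) := by
  refine ⟨(injective_iff_map_eq_zero _).2 fun x hx => funext fun k => ?_, fun y => ?_⟩
  · have h : ∀ j, x k = f^[j] (x (k + j)) := fun j => by
      induction j with
      | zero => rfl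
      | succ j ih =>
        have := congrFun hx (k + j)
        rw [Tele.Φ_apply, Pi.zero_apply, sub_eq_zero] at this
        rw [ih, this, Function.iterate_succ_apply]
        rfl
    rw [h N, hf]
    rfl
  · refine ⟨fun j => ∑ i ∈ Finset.range N, f^[i] (y (j + i)), funext fun j => ?_⟩
    rw [Tele.Φ_apply, map_sum]
    have h1 : ∀ i, f (f^[i] (y (j + 1 + i))) = f^[i + 1] (y (j + (i + 1))) := fun i => by
      rw [Function.iterate_succ_apply', show j + 1 + i = j + (i + 1) by omega]
    simp only [h1]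
    rw [← Finset.sum_sub_distrib, Finset.sum_range_sub' (fun i => f^[i] (y (j + i))) N, hf, sub_zero]
    rfl

variable {r : ℕ} (s : Fin r → _root_.DerComp.GSec O)

theorem ρ_eq_smulEnd (t : _root_.DerComp.GSec O) (U : C) :
    ρ O U (t.1 U) = _root_.DerComp.smulEnd t (_root_.ModSite.freeOn O U) := by
  apply (ExtZero.Restr.freeOnEquiv U _).injective
  rw [← Category.comp_id (ρ O U (t.1 U)), Local.freeOnEquiv_ρ,
    ← Category.id_comp (_root_.DerComp.smulEnd t _), ExtZero.Restr.freeOnEquiv_comp]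
  rfl

theorem act_eq_smul (t : _root_.DerComp.GSec O) (U : C) (E : DerivedCategory (ModSite.Mod O)) (n : ℤ)
    (x : SiteCmp.inD O (ModSite.freeOn O U) ⟶ E⟦n⟧) : act O E U (t.1 U) n x = t • x := by
  have h : _root_.DerComp.smulEnd t (_root_.ModSite.freeOn O U) = t • 𝟙 _ := by
    rw [_root_.DerComp.smul_def, Category.comp_id]
  change (DerivedCategory.singleFunctor (ModSite.Mod O) 0).map (ρ O U (t.1 U)) ≫ x = t • x
  rw [ρ_eq_smulEnd, h, Functor.map_smul, CategoryTheory.Functor.map_id, Linear.smul_comp,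
    Category.id_comp]

variable {I : _root_.DerComp.IdealSh O}

/-- Objects killed by powers of global generators are derived complete. -/
theorem isDerComp_of_nilp (hI : I.IsGenBy s) {E : DerivedCategory (ModSite.Mod O)} (hE : Nilp s E) :
    _root_.DerComp.IsDerComp O I E := by
  have hgood : ∀ i U, Good O E U ((s i).1 U) := fun i U n => by
    obtain ⟨N, hN⟩ := (hE i).shift n
    refine bijective_Φ_of_pow _ N fun x => ?_
    have h : ∀ j, (act O E U ((s i).1 U) n)^[j] x = s i ^ j • x := fun j => by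
      induction j with
      | zero => rw [pow_zero, one_smul]; rfl
      | succ j ih => rw [Function.iterate_succ_apply', ih, act_eq_smul, ← mul_smul, ← pow_succ']
    rw [h N]
    calc s i ^ N • x = x ≫ (s i ^ N • 𝟙 _) := by rw [Linear.comp_smul, Category.comp_id]
      _ = 0 := by rw [hN, comp_zero]
  let Iv : _root_.DerComp.IdealSh O :=
    { ideal := fun U =>
        { carrier := {a | ∀ (V : C) (g : V ⟶ U), Good O E V ((O.obj.map g.op).hom a)}
          add_mem' := fun {a b} ha hb V g => by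
            rw [map_add]
            exact good_add V (ha V g) (hb V g)
          zero_mem' := fun V g => by
            rw [map_zero]
            exact good_zero V
          smul_mem' := fun a b hb V g => by
            rw [smul_eq_mul, map_mul]
            exact good_mul V _ (hb V g) }
      map_mem := fun {U V} g b hb W g' => by
        rw [← CommRingCat.comp_apply, ← Functor.map_comp, ← op_comp]
        exact hb W (g' ≫ g)
      glue := fun {U b} S hS hb V g => Local.good_of_cover hS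
        (fun W k hk => by simpa using hb k hk W (𝟙 W)) g }
  intro U a ha
  refine (van_iff_good O E U a).2 ?_
  have := hI.2 Iv (fun i U V g => (s i).2 g ▸ hgood i V) U ha U (𝟙 U)
  simpa using this

/-- The cone of a completion is invisible to objects killed by the generators. -/
theorem subsingleton_test (hI : I.IsGenBy s) {Cn : DerivedCategory (ModSite.Mod O)}
    (hC : ∀ E, _root_.DerComp.IsDerComp O I E → Subsingleton (Cn ⟶ E)) (n : ℤ)
    (Y : DerivedCategory (ModSite.Mod O)) (hY : Nilp s Y) : Subsingleton (Y ⟶ Cn⟦n⟧) := by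
  refine subsingleton_hom_of_nilp' s (List.finRange r) _ (fun E hE => ?_)
    (fun i hi => absurd (List.mem_finRange i) hi) _ hY
  have hE' := NilpTest.isDerComp_shift (isDerComp_of_nilp s hI hE) (-n)
  haveI := hC _ hE'
  let F := shiftFunctor (DerivedCategory (ModSite.Mod O)) n
  let c := (shiftFunctorCompIsoId (DerivedCategory (ModSite.Mod O)) (-n) n (by omega)).app E
  refine ⟨fun p q => (cancel_mono c.inv).1 ?_⟩
  obtain ⟨p', hp'⟩ := F.map_surjective (p ≫ c.inv)
  obtain ⟨q', hq'⟩ := F.map_surjective (q ≫ c.inv)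
  rw [← hp', ← hq', Subsingleton.elim p' q']

/-- If `g` is bijective on maps into all shifts of `D`, the cone of `g` on `D` receives no maps. -/
theorem subsingleton_cone_smul {g : _root_.DerComp.GSec O} {Z D D' : DerivedCategory (ModSite.Mod O)}
    {m₂ : D ⟶ D'} {m₃ : D' ⟶ D⟦(1 : ℤ)⟧} (hT : Triangle.mk (g • 𝟙 D) m₂ m₃ ∈ distinguishedTriangles)
    (h : ∀ m : ℤ, Function.Bijective (fun x : Z ⟶ D⟦m⟧ => g • x)) (n : ℤ) :
    Subsingleton (Z ⟶ D'⟦n⟧) := by
  let F := shiftFunctor (DerivedCategory (ModSite.Mod O)) n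
  let c := (shiftFunctorCompIsoId (DerivedCategory (ModSite.Mod O)) (-n) n (by omega)).app Z
  have hb : ∀ (W : DerivedCategory (ModSite.Mod O)) (m : ℤ) (_ : W⟦n⟧ ≅ D⟦m⟧),
      Function.Bijective (fun x : Z⟦-n⟧ ⟶ W => g • x) := by
    intro W m e
    let E : (Z⟦-n⟧ ⟶ W) → (Z ⟶ D⟦m⟧) := fun x => c.inv ≫ F.map x ≫ e.hom
    have hE : Function.Bijective E := by
      refine ⟨fun x y hxy => F.map_injective ?_, fun y => ?_⟩
      · exact (cancel_mono e.hom).1 ((cancel_epi c.inv).1 hxy)
      · obtain ⟨x, hx⟩ := F.map_surjective (c.hom ≫ y ≫ e.inv)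
        exact ⟨x, by simp [E, hx]⟩
    have hc : E ∘ (fun x => g • x) = (fun y => g • y) ∘ E := funext fun x => by
      simp [E, Functor.map_smul, Linear.smul_comp, Linear.comp_smul]
    exact (Function.Bijective.of_comp_iff' hE _).1 (hc ▸ (h m).comp hE)
  have h₀ := hb D n (Iso.refl _)
  have h₁ := hb (D⟦(1 : ℤ)⟧) (1 + n)
    ((shiftFunctorAdd (DerivedCategory (ModSite.Mod O)) 1 n).symm.app D)
  have hsub : Subsingleton (Z⟦-n⟧ ⟶ D') := by
    refine subsingleton_of_forall_eq 0 fun x => ?_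
    have hx : x ≫ m₃ = 0 := h₁.1 (show g • (x ≫ m₃) = g • 0 by
      have h31 : m₃ ≫ (g • 𝟙 D)⟦(1 : ℤ)⟧' = 0 := comp_distTriang_mor_zero₃₁ _ hT
      rw [Functor.map_smul, CategoryTheory.Functor.map_id, Linear.comp_smul, Category.comp_id] at h31
      rw [← Linear.comp_smul, h31, comp_zero, smul_zero])
    obtain ⟨y, hy⟩ : ∃ y : Z⟦-n⟧ ⟶ D, x = y ≫ m₂ :=
      (Triangle.mk (g • 𝟙 D) m₂ m₃).coyoneda_exact₃ hT x hx
    obtain ⟨w, hw⟩ := h₀.2 y
    change g • w = y at hw
    rw [hy, ← hw, show g • w = w ≫ (g • 𝟙 D) by rw [Linear.comp_smul, Category.comp_id], Category.assoc,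
      show (g • 𝟙 D) ≫ m₂ = 0 from comp_distTriang_mor_zero₁₂ _ hT, comp_zero]
  refine ⟨fun p q => (cancel_epi c.hom).1 ?_⟩
  obtain ⟨p', hp'⟩ := F.map_surjective (c.hom ≫ p)
  obtain ⟨q', hq'⟩ := F.map_surjective (c.hom ≫ q)
  rw [← hp', ← hq', hsub.elim p' q']

theorem kos_snoc {ι : Type*} (t : ι → _root_.DerComp.GSec O) (g : ι) :
    ∀ (l : List ι) (X : CochainComplex (ModSite.Mod O) ℤ),
      kos t (l ++ [g]) X = CochainComplex.mappingCone (t g • 𝟙 (kos t l X))
  | [], _ => rfl
  | _ :: l, _ => kos_snoc t g l _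

end Site

section Affine

variable (X : Scheme.{u}) [IsAffine X]

open AffineG

/-- A morphism out of the structure sheaf with a given global section. -/
noncomputable def secTop (M : ModSite.Mod X.sheaf) (x : M.val.obj (op (⊤ : X.Opens))) :
    ModSite.unit X.sheaf ⟶ M :=
  M.unitHomEquiv.symm (PresheafOfModules.sectionsMk
    (fun U => M.val.map (homOfLE (le_top : U.unop ≤ ⊤)).op x)
    (fun {U V} g => (ConcreteCategory.congr_hom (M.val.presheaf.map_comp _ g) x).symm.trans
      (congrArg (fun q => (M.val.presheaf.map q).hom x) (Subsingleton.elim _ _))))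

lemma secTop_app (M : ModSite.Mod X.sheaf) (x : M.val.obj (op (⊤ : X.Opens))) :
    (secTop X M x).val.app (op ⊤) (1 : X.sheaf.obj.obj (op (⊤ : X.Opens))) = x := by
  refine (congrArg (fun t => t.val (op (⊤ : X.Opens))) (M.unitHomEquiv.apply_symm_apply _)).trans ?_
  exact (congrArg (fun q => (M.val.presheaf.map q).hom x) (Subsingleton.elim _ (𝟙 _))).trans
    (ConcreteCategory.congr_hom (M.val.presheaf.map_id _) x)

lemma unit_hom_ext {M : ModSite.Mod X.sheaf} {f g : ModSite.unit X.sheaf ⟶ M}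
    (h : f.val.app (op ⊤) (1 : X.sheaf.obj.obj (op (⊤ : X.Opens))) =
      g.val.app (op ⊤) (1 : X.sheaf.obj.obj (op (⊤ : X.Opens)))) : f = g := by
  apply M.unitHomEquiv.injective
  refine Subtype.ext (funext fun U => ?_)
  refine ((M.unitHomEquiv f).2 (homOfLE (le_top : U.unop ≤ ⊤)).op).symm.trans ?_
  exact (congrArg (M.val.map (homOfLE (le_top : U.unop ≤ ⊤)).op) h).trans
    ((M.unitHomEquiv g).2 (homOfLE (le_top : U.unop ≤ ⊤)).op)

/-- The free module on the whole space. -/
noncomputable def freeTop : ModSite.freeOn X.sheaf (⊤ : X.Opens) ≅ ModSite.unit X.sheaf where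
  hom := (ExtZero.Restr.freeOnEquiv ⊤ _).symm (1 : X.sheaf.obj.obj (op (⊤ : X.Opens)))
  inv := secTop X _ (ExtZero.Restr.freeOnEquiv ⊤ _ (𝟙 _))
  hom_inv_id := (ExtZero.Restr.freeOnEquiv ⊤ _).injective (by
    rw [ExtZero.Restr.freeOnEquiv_comp, AddEquiv.apply_symm_apply]
    exact secTop_app X _ _)
  inv_hom_id := unit_hom_ext X (by
    change ((ExtZero.Restr.freeOnEquiv ⊤ _).symm _).val.app (op ⊤) ((secTop X _ _).val.app (op ⊤) _) = _
    rw [secTop_app, ← ExtZero.Restr.freeOnEquiv_comp, Category.id_comp, AddEquiv.apply_symm_apply]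
    rfl)

/-- The structure sheaf in degree zero. -/
noncomputable abbrev O₀ : DerivedCategory (ModSite.Mod X.sheaf) :=
  SiteCmp.inD X.sheaf (ModSite.unit X.sheaf)

variable (𝓘 : _root_.DerComp.IdealSh X.sheaf)

/-- Morphism groups out of the structure sheaf into complete objects are complete modules. -/
theorem dc_hom {E : DerivedCategory (ModSite.Mod X.sheaf)} (hE : _root_.DerComp.IsDerComp X.sheaf 𝓘 E)
    (a : A X) (ha : a.1 ⊤ ∈ 𝓘.ideal ⊤) (n : ℤ) : DR.DComp.DC a (O₀ X ⟶ E⟦n⟧) := by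
  have h := (van_iff_good X.sheaf E ⊤ (a.1 ⊤)).1 (hE ⊤ _ ha) n
  let z := (DerivedCategory.singleFunctor (ModSite.Mod X.sheaf) 0).mapIso (freeTop X)
  let P : (ℕ → (O₀ X ⟶ E⟦n⟧)) ≃
      (ℕ → (SiteCmp.inD X.sheaf (ModSite.freeOn X.sheaf (⊤ : X.Opens)) ⟶ E⟦n⟧)) :=
    Equiv.piCongrRight fun _ => z.symm.homFromEquiv
  have e : (DR.DComp.phi (LinearMap.lsmul (A X) (O₀ X ⟶ E⟦n⟧) a) : _ → _) =
      P.symm ∘ Tele.Φ (act X.sheaf E ⊤ (a.1 ⊤) n) ∘ P := by
    funext x
    refine P.injective ?_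
    rw [Function.comp_apply, Function.comp_apply, P.apply_symm_apply]
    funext k
    rw [Tele.Φ_apply, act_eq_smul]
    change z.hom ≫ (x k - a • x (k + 1)) = z.hom ≫ x k - a • (z.hom ≫ x (k + 1))
    rw [Preadditive.comp_sub, Linear.comp_smul]
  change Function.Bijective _
  rw [e]
  exact P.symm.bijective.comp (h.comp P.bijective)

noncomputable instance commShiftG : (G X).CommShift ℤ := (adjG X).rightAdjointCommShift ℤ

instance commShiftAdj : (adjG X).CommShift ℤ := (adjG X).commShift_of_leftAdjoint ℤ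

instance triangulatedG : (G X).IsTriangulated := (adjG X).isTriangulated_rightAdjoint

instance additiveG : (G X).Additive := (adjG X).right_adjoint_additive

/-- `H^n` of derived global sections. -/
noncomputable def hEquiv (K : DerivedCategory (ModSite.Mod X.sheaf)) (n : ℤ) :
    Dual.HD (A X) ((G X).obj K) n ≃ₗ[A X] (O₀ X ⟶ K⟦n⟧) :=
  (DMod.Basic.homUnitShiftEquiv ((G X).obj K) n).symm.trans
    ((Linear.homCongr (A X) (Iso.refl (Dual.inD (A X) (A X))) (((G X).commShiftIso n).app K).symm).trans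
      (homEquiv X (K⟦n⟧)))

theorem hEquiv_naturality {K L : DerivedCategory (ModSite.Mod X.sheaf)} (c : K ⟶ L) (n : ℤ)
    (x : Dual.HD (A X) ((G X).obj K) n) :
    hEquiv X L n (DMod.Basic.mapHD ((G X).map c) n x) = hEquiv X K n x ≫ c⟦n⟧' := by
  obtain ⟨f, rfl⟩ := (DMod.Basic.homUnitShiftEquiv ((G X).obj K) n).surjective x
  have h1 : DMod.Basic.mapHD ((G X).map c) n (DMod.Basic.homUnitShiftEquiv ((G X).obj K) n f) =
      DMod.Basic.homUnitShiftEquiv ((G X).obj L) n (f ≫ ((G X).map c)⟦n⟧') := by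
    change DMod.Basic.mapHD ((G X).map c) n (DMod.Basic.HDShift _ n 0 n (add_zero n)
        (DMod.Basic.mapHD f 0 _)) =
      DMod.Basic.HDShift _ n 0 n (add_zero n) (DMod.Basic.mapHD (f ≫ ((G X).map c)⟦n⟧') 0 _)
    simp only [DMod.Basic.mapHD, Functor.map_comp]
    exact (congr($(((DerivedCategory.homologyFunctor (ModuleCat.{u} (A X)) 0).shiftIso n 0 n
      (add_zero n)).hom.naturality ((G X).map c)) _)).symm
  simp only [hEquiv, LinearEquiv.trans_apply, h1, LinearEquiv.symm_apply_apply]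
  have h2 : ∀ (g : Dual.inD (A X) (A X) ⟶ (G X).obj (K⟦n⟧)),
      homEquiv X (L⟦n⟧) (g ≫ (G X).map (c⟦n⟧')) = homEquiv X (K⟦n⟧) g ≫ c⟦n⟧' := fun g => by
    change (LdUnit X).inv ≫ ((adjG X).homEquiv _ _).symm _ = ((LdUnit X).inv ≫ _) ≫ _
    rw [Adjunction.homEquiv_naturality_right_symm, Category.assoc]
  rw [← h2]
  refine congrArg (homEquiv X (L⟦n⟧)) ?_
  have h3 := ((G X).commShiftIso n).inv.naturality c
  simp only [Linear.homCongr_apply, Iso.refl_inv, Category.id_comp, Iso.symm_hom, Iso.app_inv,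
    Category.assoc]
  exact congrArg (f ≫ ·) h3

variable (I : Ideal (A X)) (hI : ∀ a ∈ I, a.1 ⊤ ∈ 𝓘.ideal ⊤)

include hI in
/-- Derived global sections of complete objects are complete. -/
theorem isDerivedComplete_G {E : DerivedCategory (ModSite.Mod X.sheaf)}
    (hE : _root_.DerComp.IsDerComp X.sheaf 𝓘 E) : DRing.IsDerivedComplete I ((G X).obj E) :=
  DR.DComp.isDerivedComplete_iff.2 fun f hf n => (dc_hom X 𝓘 hE f (hI f hf) n).congr (hEquiv X E n).symm

variable {r : ℕ} (s : Fin r → A X)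

instance linearG : (G X).Linear (A X) := by
  rw [Functor.linear_iff]
  intro K a
  apply ((adjG X).homEquiv _ _).symm.injective
  rw [Adjunction.homEquiv_counit, Adjunction.homEquiv_counit]
  refine ((adjG X).counit.naturality (a • 𝟙 K)).trans ?_
  simp [Functor.map_smul, Linear.smul_comp, Linear.comp_smul]

/-- No maps from the derived sections of an object invisible to the Koszul test into killed objects. -/
theorem subsingleton_of_test : ∀ (l : List (Fin r)) (C : DerivedCategory (ModSite.Mod X.sheaf)),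
    (∀ n : ℤ, Subsingleton (DerivedCategory.Q.obj (kos s l.reverse (u₀ X.sheaf)) ⟶ C⟦n⟧)) →
    ∀ Y : Dual.D (A X), (∀ i, ∃ N : ℕ, s i ^ N • 𝟙 Y = 0) → Subsingleton ((G X).obj C ⟶ Y)
  | [], C, h, Y, _ => by
    let e : DerivedCategory.Q.obj (u₀ X.sheaf) ≅ O₀ X :=
      (((SingleFunctors.evaluation _ _ 0).mapIso
        (DerivedCategory.singleFunctorsPostcompQIso (ModSite.Mod X.sheaf))).app _).symm
    have hz : IsZero ((G X).obj C) := (DMod.Basic.isZero_iff_HD _).2 fun n => by
      haveI : Subsingleton (O₀ X ⟶ C⟦n⟧) :=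
        ⟨fun p q => (cancel_epi e.hom).1 ((h n).elim _ _)⟩
      exact (hEquiv X C n).toEquiv.subsingleton
    exact ⟨fun p q => hz.eq_of_src p q⟩
  | g :: l, C, h, Y, hY => by
    let Z := kos s l.reverse (u₀ X.sheaf)
    have h' : ∀ n : ℤ, Subsingleton (DerivedCategory.Q.obj (CochainComplex.mappingCone (s g • 𝟙 Z)) ⟶ C⟦n⟧) := by
      intro n
      have := h n
      rwa [List.reverse_cons, kos_snoc] at this
    obtain ⟨a, b, hT⟩ := exists_triangle (s g) Z
    have hbij : ∀ n : ℤ, Function.Bijective (fun x : DerivedCategory.Q.obj Z ⟶ C⟦n⟧ => s g • x) := fun n => by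
      have := (TriVan.subsingleton_iff_bijective hT C).1 h' n
      have e : (fun x : DerivedCategory.Q.obj Z ⟶ C⟦n⟧ => (s g • 𝟙 (DerivedCategory.Q.obj Z)) ≫ x) =
          fun x => s g • x := funext fun x => by rw [Linear.smul_comp, Category.id_comp]
      rw [← e]
      exact this
    obtain ⟨C', m₂, m₃, hC⟩ := distinguished_cocone_triangle (s g • 𝟙 C)
    have hC' : ∀ n : ℤ, Subsingleton (DerivedCategory.Q.obj Z ⟶ C'⟦n⟧) :=
      subsingleton_cone_smul hC hbij
    have hGT := (G X).map_distinguished _ hC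
    have hG : ∀ n : ℤ, Function.Bijective (fun χ : (G X).obj C ⟶ Y⟦n⟧ => (G X).map (s g • 𝟙 C) ≫ χ) :=
      (TriVan.subsingleton_iff_bijective hGT Y).1 fun n =>
        subsingleton_of_test l C' hC' _ fun i => by
          obtain ⟨N, hN⟩ := hY i
          exact ⟨N, by rw [← CategoryTheory.Functor.map_id, ← Functor.map_smul, hN, Functor.map_zero]⟩
    let z := (shiftFunctorZero (Dual.D (A X)) ℤ).app Y
    have hdiv : ∀ x : (G X).obj C ⟶ Y, ∃ y, s g • y = x := fun x => by
      obtain ⟨y, hy⟩ : ∃ y : (G X).obj C ⟶ Y⟦(0 : ℤ)⟧, (G X).map (s g • 𝟙 C) ≫ y = x ≫ z.inv :=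
        (hG 0).2 (x ≫ z.inv)
      refine ⟨y ≫ z.hom, ?_⟩
      rw [Functor.map_smul, CategoryTheory.Functor.map_id, Linear.smul_comp, Category.id_comp] at hy
      rw [← Linear.smul_comp, hy, Category.assoc, Iso.inv_hom_id, Category.comp_id]
    obtain ⟨N, hN⟩ := hY g
    have hdivN : ∀ (m : ℕ) (x : (G X).obj C ⟶ Y), ∃ y, s g ^ m • y = x := fun m => by
      induction m with
      | zero => exact fun x => ⟨x, by rw [pow_zero, one_smul]⟩
      | succ m ih =>
        intro x
        obtain ⟨y, rfl⟩ := ih x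
        obtain ⟨w, rfl⟩ := hdiv y
        exact ⟨w, by rw [pow_succ, mul_smul]⟩
    refine subsingleton_of_forall_eq 0 fun x => ?_
    obtain ⟨y, rfl⟩ := hdivN N x
    calc s g ^ N • y = y ≫ (s g ^ N • 𝟙 Y) := by rw [Linear.comp_smul, Category.comp_id]
      _ = 0 := by rw [hN, comp_zero]

end Affine

section Ring

variable {A : Type u} [CommRing A] {I : Ideal A} {r : ℕ} (s : Fin r → A)

/-- A complete object with no maps to killed objects is zero. -/
theorem isZero_of_orth (hs : Ideal.span (Set.range s) = I) : ∀ (l : List (Fin r)) (K : Dual.D A),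
    DRing.IsDerivedComplete I K →
    (∀ Y : Dual.D A, (∀ i, ∃ N : ℕ, s i ^ N • 𝟙 Y = 0) → Subsingleton (K ⟶ Y)) →
    (∀ i, i ∉ l → ∃ N : ℕ, s i ^ N • 𝟙 K = 0) → IsZero K
  | [], K, _, h, hl => (IsZero.iff_id_eq_zero K).2
      ((h K fun i => hl i List.not_mem_nil).elim _ _)
  | g :: l, K, hK, h, hl => by
    obtain ⟨K', m₂, m₃, hT⟩ := distinguished_cocone_triangle (s g • 𝟙 K)
    have hK' : DRing.IsDerivedComplete I K' := DR.DComp.isDerivedComplete_obj₃ _ hT hK hK
    have h' : ∀ Y : Dual.D A, (∀ i, ∃ N : ℕ, s i ^ N • 𝟙 Y = 0) → Subsingleton (K' ⟶ Y) := fun Y hY => by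
      have := (TriVan.subsingleton_iff_bijective hT Y).2 (fun n => by
        haveI := h (Y⟦n⟧) fun i => by
          obtain ⟨N, hN⟩ := hY i
          exact ⟨N, by rw [← CategoryTheory.Functor.map_id, ← Functor.map_smul, hN, Functor.map_zero]⟩
        exact ⟨fun a b _ => Subsingleton.elim (α := K ⟶ Y⟦n⟧) a b,
          fun y => ⟨0, Subsingleton.elim (α := K ⟶ Y⟦n⟧) _ _⟩⟩) 0
      exact ⟨fun a b => (cancel_mono ((shiftFunctorZero (Dual.D A) ℤ).inv.app Y)).1 (this.elim _ _)⟩
    have h₂₃ : s g • m₂ = 0 := by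
      calc s g • m₂ = (s g • 𝟙 K) ≫ m₂ := by rw [Linear.smul_comp, Category.id_comp]
        _ = 0 := comp_distTriang_mor_zero₁₂ _ hT
    have h₃₁ : s g • m₃ = 0 := by
      calc s g • m₃ = m₃ ≫ (s g • 𝟙 K)⟦(1 : ℤ)⟧' := by
            rw [Functor.map_smul, CategoryTheory.Functor.map_id, Linear.comp_smul, Category.comp_id]
        _ = 0 := comp_distTriang_mor_zero₃₁ _ hT
    have hkill : ∀ i, i ∉ l → ∃ N : ℕ, s i ^ N • 𝟙 K' = 0 := fun i hi => by
      by_cases hig : i = g
      · subst hig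
        obtain ⟨ω, hω⟩ := (Triangle.mk (s i • 𝟙 K) m₂ m₃).yoneda_exact₃ hT (s i • 𝟙 K') (by
          change m₂ ≫ (s i • 𝟙 K') = 0
          rw [Linear.comp_smul, Category.comp_id, h₂₃])
        refine ⟨2, ?_⟩
        change s i • 𝟙 K' = m₃ ≫ ω at hω
        rw [pow_two, mul_smul, hω, ← Linear.smul_comp, h₃₁, zero_comp]
      · obtain ⟨N, hN⟩ := hl i (by simp [hig, hi])
        obtain ⟨ω, hω⟩ := (Triangle.mk (s g • 𝟙 K) m₂ m₃).yoneda_exact₃ hT (s i ^ N • 𝟙 K') (by
          change m₂ ≫ (s i ^ N • 𝟙 K') = 0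
          rw [Linear.comp_smul, Category.comp_id]
          calc s i ^ N • m₂ = (s i ^ N • 𝟙 K) ≫ m₂ := by rw [Linear.smul_comp, Category.id_comp]
            _ = 0 := by rw [hN, zero_comp])
        refine ⟨N + N, ?_⟩
        change s i ^ N • 𝟙 K' = m₃ ≫ ω at hω
        rw [pow_add, mul_smul, hω]
        calc s i ^ N • (m₃ ≫ ω) = m₃ ≫ (s i ^ N • 𝟙 K)⟦(1 : ℤ)⟧' ≫ ω := by
              rw [Functor.map_smul, CategoryTheory.Functor.map_id, Linear.smul_comp, Category.id_comp,
                Linear.comp_smul]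
          _ = 0 := by rw [hN, Functor.map_zero, zero_comp, comp_zero]
    have hz := isZero_of_orth hs l K' hK' h' hkill
    have hiso : IsIso (s g • 𝟙 K) := (Triangle.isZero₃_iff_isIso₁ _ hT).1 hz
    refine (DMod.Basic.isZero_iff_HD K).2 fun i => ?_
    have hdc := (DR.DComp.isDerivedComplete_iff.1 hK) (s g) (hs ▸ Ideal.subset_span ⟨g, rfl⟩) i
    refine DR.DComp.subsingleton_of_surjective hdc.1 fun m => ?_
    haveI : IsIso ((DerivedCategory.homologyFunctor (ModuleCat.{u} A) i).map (s g • 𝟙 K)) := inferInstance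
    obtain ⟨y, hy⟩ := ((ConcreteCategory.isIso_iff_bijective _).1 this).2 m
    refine ⟨y, ?_⟩
    rw [← hy, Functor.map_smul, CategoryTheory.Functor.map_id]
    rfl

theorem isDerivedComplete_of_nilp (hs : Ideal.span (Set.range s) = I) {Y : Dual.D A}
    (hY : ∀ i, ∃ N : ℕ, s i ^ N • 𝟙 Y = 0) : DRing.IsDerivedComplete I Y :=
  DR.DComp.isDerivedComplete_iff.2 fun f hf n => DR.DComp.forall_dc_of_span hs (by
    rintro _ ⟨i, rfl⟩
    obtain ⟨N, hN⟩ := hY i
    have h0 : ∀ x : Dual.HD A Y n, s i ^ N • x = 0 := fun x => by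
      have := congrArg (fun q => ((DerivedCategory.homologyFunctor (ModuleCat.{u} A) n).map q).hom x) hN
      simpa [Functor.map_smul] using this
    refine bijective_Φ_of_pow (LinearMap.lsmul A (Dual.HD A Y n) (s i)).toAddMonoidHom N fun x => ?_
    have hit : ∀ m : ℕ, (⇑(LinearMap.lsmul A (Dual.HD A Y n) (s i)).toAddMonoidHom)^[m] x = s i ^ m • x :=
      fun m => by
        induction m with
        | zero => simp
        | succ m ih => rw [Function.iterate_succ_apply', ih, pow_succ', mul_smul]; rfl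
    rw [hit]
    exact h0 x) f hf

/-- Orthogonality to killed objects gives orthogonality to complete ones. -/
theorem perp_of_orth (hs : Ideal.span (Set.range s) = I) {D : Dual.D A}
    (h : ∀ Y : Dual.D A, (∀ i, ∃ N : ℕ, s i ^ N • 𝟙 Y = 0) → Subsingleton (D ⟶ Y)) :
    RGamma.Perp I D := by
  haveI := DR.DComp.hasDerivedCompletion (hs ▸ Submodule.fg_span (Set.finite_range s) : I.FG)
  have hb := DR.DComp.pBij_toDerivedCompletion' (I := I) D
  have hc := DR.DComp.isDerivedComplete_completion (I := I) D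
  have hz := isZero_of_orth s hs (List.finRange r) _ hc
    (fun Y hY => ⟨fun p q => (hb Y (isDerivedComplete_of_nilp s hs hY)).1 ((h Y hY).elim _ _)⟩)
    (fun i hi => absurd (List.mem_finRange i) hi)
  intro Y hY φ
  obtain ⟨ψ, hψ⟩ := (hb Y hY).2 φ
  rw [← hψ, hz.eq_of_src ψ 0]
  exact comp_zero

end Ring

end Groth.Agent.Lib.DerComp.AffineCompl
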