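import Groth.Agent.Lib.DerComp.AffineCompl
import Groth.Agent.Lib.DerivedOX.TildeEquiv
import Groth.Agent.Lib.DerivedOX.QCohLocal
import Groth.Agent.Lib.Perfect.PCCoh
import Groth.Agent.Lib.Perfect.QCohD
import Groth.Agent.Lib.Perfect.Triangle
import Groth.Agent.Lib.Perfect.TildeD
import Groth.Agent.Lib.Perfect.TildeFT

/-!
# Cohomology of pseudo-coherent objects on a Noetherian affine scheme is finite
-/

set_option linter.style.haveILetI false
set_option linter.unusedSectionVars false

universe u

open CategoryTheory CategoryTheory.Limits Opposite Pretriangulated AlgebraicGeometry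
attribute [local instance] HasDerivedCategory.standard

namespace Groth.Agent.Lib.DerComp.AffineFinite

open Groth.Agent.Lib Groth.Agent.Lib.Perfect.Basic Groth.Agent.Lib.Perfect.PseudoCoh AffineG

/-- Pseudo-coherent objects have quasi-coherent cohomology. -/
theorem isQCohD_of_isPseudoCoherent {X : Scheme.{u}} {K : DCoh.D X}
    (hK : ∀ m : ℤ, DCoh.IsPseudoCoherentD m K) : DCoh.IsQCohD K := fun i =>
  Perfect.QCohD.isQCoh_of_cover fun x => by
    obtain ⟨U, j, _, y, E, α, hy, ⟨-, hlf⟩, hα⟩ := (iff_forall (i - 1) K).1 (hK (i - 1)) x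
    haveI : ∀ n, (E.X n).IsQuasicoherent := fun n => TensorMod.QCohInv.isQCoh_of_isFinLocFree (hlf n)
    have h1 : (E.cycles i).IsQuasicoherent := by
      haveI := QCoh.Closure.isQCoh_kernel (E.d i ((ComplexShape.up ℤ).next i))
      exact @CohBasics.Closure.isQCoh_of_iso _ _ _
        ((E.cyclesIsKernel i _ rfl).conePointUniqueUpToIso (kernelIsKernel _)).symm ‹_›
    have h2 : (E.homology i).IsQuasicoherent := by
      haveI := h1
      haveI := QCoh.Closure.isQCoh_cokernel (E.toCycles ((ComplexShape.up ℤ).prev i) i)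
      exact @CohBasics.Closure.isQCoh_of_iso _ _ _
        ((E.homologyIsCokernel _ i rfl).coconePointUniqueUpToIso (cokernelIsCokernel _)).symm ‹_›
    haveI := h2
    haveI := hα.1 i (by omega)
    exact ⟨U, j, inferInstance, y, hy, @CohBasics.Closure.isQCoh_of_iso _ _ _
      (((DerivedCategory.homologyFunctorFactors U.Modules i).app E).symm ≪≫
        asIso ((DerivedCategory.homologyFunctor U.Modules i).map α) ≪≫ Perfect.Coherent.homologyIso j K i) h2⟩

variable (X : Scheme.{u}) [IsAffine X]

instance preservesFiniteLimits_tildeR : PreservesFiniteLimits (tilde.functor (R X)) :=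
  QCoh.Tilde.tildeFunctor_preservesFiniteLimits ..

instance additive_tildeR : (tilde.functor (R X)).Additive := by
  haveI : (tilde.functor (R X)).IsLeftAdjoint := (tilde.adjunction (R := R X)).isLeftAdjoint
  haveI := Limits.preservesBinaryBiproducts_of_preservesBinaryCoproducts (tilde.functor (R X))
  exact Functor.additive_of_preservesBinaryBiproducts _

instance preservesFiniteColimits_tildeR : PreservesFiniteColimits (tilde.functor (R X)) :=
  haveI : (tilde.functor (R X)).IsLeftAdjoint := (tilde.adjunction (R := R X)).isLeftAdjoint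
  PreservesColimitsOfSize.preservesFiniteColimits.{0, 0} _

/-- `Ld` through the derived tilde functor. -/
noncomputable def LdIso : Ld X ≅ DCoh.tildeD (R X) ⋙ RD (e X).hom :=
  let W := HomologicalComplex.quasiIso (ModuleCat.{u} (A X)) (ComplexShape.up ℤ)
  letI : Localization.Lifting DerivedCategory.Q W (DerivedCategory.Q ⋙ Ld X) (Ld X) := ⟨Iso.refl _⟩
  letI : Localization.Lifting DerivedCategory.Q W
      (DerivedCategory.Q ⋙ DCoh.tildeD (R X) ⋙ RD (e X).hom)
      (DCoh.tildeD (R X) ⋙ RD (e X).hom) := ⟨Iso.refl _⟩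
  Localization.liftNatIso DerivedCategory.Q W _ _ _ _
    ((F X).mapDerivedCategoryFactors ≪≫
      (show (F X).mapHomologicalComplex (ComplexShape.up ℤ) ⋙ DerivedCategory.Q ≅
        ((tilde.functor (R X)).mapHomologicalComplex (ComplexShape.up ℤ) ⋙ rC (e X).hom) ⋙
          DerivedCategory.Q from
        Functor.isoWhiskerRight (NatIso.ofComponents
          (fun _ => HomologicalComplex.Hom.isoOfComponents (fun _ => Iso.refl _))) DerivedCategory.Q) ≪≫
      Functor.associator _ _ _ ≪≫
      Functor.isoWhiskerLeft _ (Scheme.Modules.restrictFunctor (e X).hom).mapDerivedCategoryFactors.symm ≪≫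
      (Functor.associator _ _ _).symm ≪≫
      Functor.isoWhiskerRight (tilde.functor (R X)).mapDerivedCategoryFactors.symm _ ≪≫
      Functor.associator _ _ _)

/-- Restriction along the isomorphism is full on derived categories. -/
theorem full_RD : (RD (e X).hom).Full := by
  haveI := SiteCmp29.GammaZ.isEquivalence_restrict (e X)
  let E := (Scheme.Modules.restrictFunctor (e X).hom).asEquivalence
  haveI : E.functor.Additive := inferInstanceAs (Scheme.Modules.restrictFunctor (e X).hom).Additive
  haveI : E.inverse.Additive := E.toAdjunction.right_adjoint_additive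
  haveI : E.inverse.IsEquivalence := inferInstance
  haveI : PreservesFiniteLimits E.inverse := inferInstance
  haveI : PreservesFiniteColimits E.inverse := inferInstance
  let adj := Local.adjD (F := Scheme.Modules.restrictFunctor (e X).hom) (G := E.inverse) E.toAdjunction
  haveI hu : ∀ K, IsIso (adj.unit.app K) := fun K => by
    let ε := DerivedCategory.Q.objObjPreimageIso K
    have hn := adj.unit.naturality ε.hom
    haveI : IsIso (adj.unit.app (DerivedCategory.Q.obj (DerivedCategory.Q.objPreimage K))) := by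
      simp only [adj, Local.adjD, Adjunction.localization_unit_app]
      haveI : ∀ P : CochainComplex (Spec (R X)).Modules ℤ,
          IsIso ((DerCat.DerAdj.adjC E.toAdjunction (ComplexShape.up ℤ)).unit.app P) := fun P => by
        haveI : ∀ n, IsIso (((DerCat.DerAdj.adjC E.toAdjunction (ComplexShape.up ℤ)).unit.app P).f n) :=
          fun n => inferInstanceAs (IsIso (E.toAdjunction.unit.app (P.X n)))
        exact HomologicalComplex.Hom.isIso_of_components _
      infer_instance
    exact IsIso.of_isIso_fac_left hn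
  haveI : IsIso adj.unit := NatIso.isIso_of_isIso_app _
  exact adj.fullyFaithfulLOfIsIsoUnit.full

/-- `Ld` is full. -/
theorem full_Ld : (Ld X).Full := by
  haveI := full_RD X
  haveI := DerivedOX.TildeEquiv.full (R X)
  haveI : (DCoh.tildeD (R X) ⋙ RD (e X).hom).Full := Functor.Full.comp _ _
  exact @Functor.Full.of_iso _ _ _ _ _ _ this (LdIso X).symm

variable [IsNoetherian X]

/-- Objects with quasi-coherent cohomology come from modules. -/
theorem exists_model (K : DCoh.D X) (hQ : DCoh.IsQCohD K) :
    ∃ M : Dual.D (A X), Nonempty ((Ld X).obj M ≅ K) ∧ ∀ p : ℤ, Nonempty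
      ((Scheme.Modules.restrictFunctor (e X).inv).obj (DCoh.HD K p) ≅
        tilde (R := R X) ((DerivedCategory.homologyFunctor (ModuleCat.{u} (R X)) p).obj M)) := by
  let K' := (RD (e X).inv).obj K
  have hQ' : DCoh.IsQCohD K' := DerivedOX.QCohLocal.isQCohD_restrictD (e X).inv hQ
  obtain ⟨M, ⟨eM⟩⟩ := DerivedOX.TildeEquiv.exists_preimage (R X) K' hQ'
  let eId : (RD (𝟙 X)).obj K ≅ K :=
    let ε := DerivedCategory.Q.objObjPreimageIso K
    (RD (𝟙 X)).mapIso ε.symm ≪≫ RDQ _ _ ≪≫ DerivedCategory.Q.mapIso ((rCId X).app _) ≪≫ ε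
  exact ⟨M, ⟨(LdIso X).app M ≪≫ (RD (e X).hom).mapIso eM ≪≫
    (Perfect.Triangle.RDComp (e X).hom (e X).inv K).symm ≪≫
      Perfect.Triangle.RDCongr (e X).hom_inv_id K ≪≫ eId⟩,
    fun p => ⟨(Perfect.Coherent.homologyIso (e X).inv K p).symm ≪≫
      (DerivedCategory.homologyFunctor _ p).mapIso eM.symm ≪≫ Perfect.TildeD.HIso M p⟩⟩

/-- Cohomology of the model surjects onto the cohomology. -/
theorem exists_surjection {K : DerivedCategory (ModSite.Mod X.sheaf)} {M : Dual.D (A X)} (eK : (Ld X).obj M ≅ K) (p : ℤ) :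
    ∃ θ : Dual.HD (A X) M p →ₗ[A X] (AffineCompl.O₀ X ⟶ K⟦p⟧), Function.Surjective θ := by
  haveI := full_Ld X
  let φ := Linear.homCongr (A X) (LdUnit X)
      (((Ld X).commShiftIso p).app M ≪≫ (shiftFunctor _ p).mapIso eK)
  refine ⟨(φ.toLinearMap ∘ₗ (Ld X).mapLinearMap (A X)) ∘ₗ
    (DMod.Basic.homUnitShiftEquiv M p).symm.toLinearMap, fun y => ?_⟩
  obtain ⟨f, hf⟩ := φ.surjective y
  obtain ⟨g, rfl⟩ := (Ld X).map_surjective f
  refine ⟨DMod.Basic.homUnitShiftEquiv M p g, Eq.trans ?_ hf⟩
  exact congrArg (fun z => φ ((Ld X).map z)) ((DMod.Basic.homUnitShiftEquiv M p).symm_apply_apply g)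

/-- Vanishing cohomology sheaves give vanishing hypercohomology in the same degree. -/
theorem subsingleton_hom (K : DCoh.D X) (hQ : DCoh.IsQCohD K) (p : ℤ) (hz : IsZero (DCoh.HD K p)) :
    Subsingleton (AffineCompl.O₀ X ⟶ K⟦p⟧) := by
  obtain ⟨M, ⟨eK⟩, hH⟩ := exists_model X K hQ
  obtain ⟨eH⟩ := hH p
  obtain ⟨θ, hθ⟩ := exists_surjection X eK p
  have hz' := IsZero.of_iso ((Scheme.Modules.restrictFunctor (e X).inv).map_isZero hz) eH.symm
  haveI : Subsingleton (Dual.HD (A X) M p) := ModuleCat.subsingleton_of_isZero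
    ((IsZero.iff_id_eq_zero _).2 ((tilde.fullyFaithfulFunctor (R := R X)).map_injective (hz'.eq_of_src _ _)))
  exact hθ.subsingleton

/-- The cohomology of pseudo-coherent objects is finite. -/
theorem finite_HD (K : DCoh.D X) (hK : ∀ m : ℤ, DCoh.IsPseudoCoherentD m K) (p : ℤ) :
    Module.Finite (A X) (Dual.HD (A X) ((G X).obj K) p) := by
  haveI := isNoetherianRing X
  haveI : IsNoetherianRing (R X) := isNoetherianRing X
  have hQ := isQCohD_of_isPseudoCoherent hK
  obtain ⟨M, ⟨eK⟩, hH⟩ := exists_model X K hQ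
  obtain ⟨eH⟩ := hH p
  have hM : Module.Finite (A X) (Dual.HD (A X) M p) := by
    have hc := ((Perfect.PCCoh.isPseudoCoherentD_iff_coh K hQ p).1 (hK p)).1 p le_rfl
    have hc' : Coh.IsCoh ((Scheme.Modules.restrictFunctor (e X).inv).obj (DCoh.HD K p)) := by
      haveI := hc.1
      haveI : Coh.IsQCoh ((DCoh.HD K p).restrict (e X).inv) := inferInstance
      refine CohBasics.Closure.isCoh_of_finite_sections fun V hV => ?_
      exact (TensorMod.TensorQCoh.finite_restrict_iff (e X).inv _ V).2
        (CohBasics.Closure.finite_sections hc (hV.image_of_isOpenImmersion (e X).inv))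
    exact Perfect.TildeFT.finite_of_isFT _ (CohBasics.Closure.isCoh_of_iso eH hc').2
  haveI := hM
  obtain ⟨θ, hθ⟩ := exists_surjection X eK p
  haveI : Module.Finite (A X) (AffineCompl.O₀ X ⟶ K⟦p⟧) := Module.Finite.of_surjective θ hθ
  exact Module.Finite.equiv (AffineCompl.hEquiv X K p).symm

end Groth.Agent.Lib.DerComp.AffineFinite
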