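import Mathlib.Algebra.Group.Pi.Lemmas
import Mathlib.Data.Nat.Choose.Basic
import Mathlib.Algebra.Group.Hom.Instances
import Mathlib.Tactic.Abel
import Mathlib.Tactic.Ring

/-!
# Telescopes of abelian groups

`x ↦ (x_k - f x_{k+1})` on sequences: the elements `f` for which it is bijective form an ideal.
-/

universe u

namespace Groth.Agent.Lib.DerComp.Tele

variable {M : Type u} [AddCommGroup M]

/-- `x ↦ (x_k - f x_{k+1})`. -/
def Φ (f : M →+ M) : (ℕ → M) →+ (ℕ → M) where
  toFun x k := x k - f (x (k + 1))
  map_zero' := by ext k; simp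
  map_add' x y := by ext k; simp; abel

lemma Φ_apply (f : M →+ M) (x : ℕ → M) (k : ℕ) : Φ f x k = x k - f (x (k + 1)) := rfl

/-- The criterion. -/
theorem bijective_of_sum (h : M →+ M) (T : (ℕ → M) →+ M)
    (hT : ∀ y, T y = y 0 + h (T fun k => y (k + 1))) (hc : ∀ y, T (fun k => h (y k)) = h (T y)) :
    Function.Bijective (Φ h) := by
  refine ⟨fun x x' e => ?_, fun y => ⟨fun j => T fun k => y (j + k), ?_⟩⟩
  · have key : ∀ x : ℕ → M, T (Φ h x) = x 0 := fun x => by
      have e₁ : Φ h x = x - fun k => h (x (k + 1)) := rfl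
      rw [e₁, map_sub, hc (fun k => x (k + 1)), hT x]
      abel
    funext j
    have := key (fun k => x (j + k))
    have e₂ : Φ h (fun k => x (j + k)) = fun k => Φ h x (j + k) := rfl
    have e₃ : Φ h (fun k => x' (j + k)) = fun k => Φ h x' (j + k) := rfl
    rw [e₂, e, ← e₃, key] at this
    simpa using this.symm
  · funext j
    rw [Φ_apply, hT fun k => y (j + k)]
    simp only [add_zero]
    rw [show (fun k => y (j + (k + 1))) = fun k => y (j + 1 + k) from funext fun k => by congr 1; ring]
    abel

section

variable {f : M →+ M} (hf : Function.Bijective (Φ f))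

/-- The first term of the solution. -/
noncomputable def S : (ℕ → M) →+ M :=
  AddMonoidHom.mk' (fun y => (AddEquiv.ofBijective (Φ f) hf).symm y 0) fun y y' => by simp

lemma S_eq (y : ℕ → M) : S hf y = y 0 + f (S hf fun k => y (k + 1)) := by
  let e := AddEquiv.ofBijective (Φ f) hf
  have h₁ : Φ f (e.symm y) = y := e.apply_symm_apply y
  have h₂ : e.symm (fun k => y (k + 1)) = fun k => e.symm y (k + 1) := by
    apply e.injective
    rw [AddEquiv.apply_symm_apply]
    funext k
    exact (congrFun h₁ (k + 1)).symm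
  change e.symm y 0 = y 0 + f (e.symm (fun k => y (k + 1)) 0)
  rw [h₂, ← congrFun h₁ 0, Φ_apply]
  simp

lemma S_comm {a : M →+ M} (ha : ∀ m, a (f m) = f (a m)) (y : ℕ → M) :
    S hf (fun k => a (y k)) = a (S hf y) := by
  let e := AddEquiv.ofBijective (Φ f) hf
  have h₁ : Φ f (e.symm y) = y := e.apply_symm_apply y
  have : e.symm (fun k => a (y k)) = fun k => a (e.symm y k) := by
    apply e.injective
    rw [AddEquiv.apply_symm_apply]
    funext k
    change _ = a (e.symm y k) - f (a (e.symm y (k + 1)))
    rw [← congrFun h₁ k, Φ_apply, map_sub, ha]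
  exact congrFun this 0

end

theorem bijective_zero : Function.Bijective (Φ (0 : M →+ M)) :=
  bijective_of_sum 0 (Pi.evalAddMonoidHom (fun _ => M) 0) (fun y => by simp) (fun y => by simp)

/-- Multiples. -/
theorem bijective_comp {f : M →+ M} (hf : Function.Bijective (Φ f)) (a : M →+ M)
    (ha : ∀ m, a (f m) = f (a m)) : Function.Bijective (Φ (a.comp f)) := by
  let tw : (ℕ → M) →+ (ℕ → M) := AddMonoidHom.mk' (fun y k => a^[k] (y k)) fun y y' => by
    funext k
    exact iterate_map_add a k _ _
  refine bijective_of_sum _ ((S hf).comp tw) (fun y => ?_) (fun y => ?_)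
  · simp only [AddMonoidHom.comp_apply]
    rw [S_eq]
    refine congrArg (y 0 + ·) ?_
    rw [ha, ← S_comm hf ha]
    refine congrArg f (congrArg (S hf) (funext fun k => ?_))
    exact Function.iterate_succ_apply' a k _
  · simp only [AddMonoidHom.comp_apply]
    rw [← S_comm hf (a := f) (fun _ => rfl), ← S_comm hf ha]
    refine congrArg (S hf) (funext fun k => ?_)
    have h₁ : ∀ m, a^[k] (f m) = f (a^[k] m) := fun m => (Function.Commute.iterate_left ha k) m
    change a^[k] (a (f (y k))) = a (f (a^[k] (y k)))
    rw [← Function.iterate_succ_apply, Function.iterate_succ_apply', h₁]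

/-- Sums. -/
theorem bijective_add {f g : M →+ M} (hf : Function.Bijective (Φ f)) (hg : Function.Bijective (Φ g))
    (hfg : ∀ m, f (g m) = g (f m)) : Function.Bijective (Φ (f + g)) := by
  let F : (ℕ → M) →+ (ℕ → M) :=
    AddMonoidHom.mk' (fun y a => S hg fun b => (a + b).choose a • y (a + b)) fun y y' => by
      funext a
      exact (congrArg (S hg) (funext fun b => nsmul_add _ _ _)).trans (map_add (S hg) _ _)
  have hF₀ : ∀ y, F y 0 = y 0 + g (F (fun k => y (k + 1)) 0) := fun y => by
    change S hg _ = _ + g (S hg _)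
    rw [S_eq]
    simp [one_nsmul]
  have hF₁ : ∀ y a, F y (a + 1) = g (F (fun k => y (k + 1)) (a + 1)) + F (fun k => y (k + 1)) a := by
    intro y a
    change S hg _ = g (S hg _) + S hg _
    rw [S_eq hg (fun b => (a + 1 + b).choose (a + 1) • y (a + 1 + b)),
      S_eq hg (fun b => (a + b).choose a • y (a + b + 1))]
    simp only [add_zero, Nat.choose_self, one_nsmul]
    rw [add_left_comm, ← map_add, ← map_add]
    refine congrArg (y (a + 1) + ·) (congrArg g (congrArg (S hg) (funext fun b => ?_)))
    change _ = (a + 1 + b).choose (a + 1) • y (a + 1 + b + 1) + (a + (b + 1)).choose a • y (a + (b + 1) + 1)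
    rw [show a + 1 + (b + 1) = (a + 1 + b) + 1 by ring, show a + (b + 1) = a + 1 + b by ring,
      Nat.choose_succ_succ' (a + 1 + b) a, add_nsmul, add_comm]
  refine bijective_of_sum _ ((S hf).comp F) (fun y => ?_) (fun y => ?_)
  · simp only [AddMonoidHom.comp_apply, AddMonoidHom.add_apply]
    let y' := fun k => y (k + 1)
    rw [S_eq hf (F y), hF₀]
    have e : (fun a => F y (a + 1)) = fun a => g (F y' (a + 1)) + F y' a := funext fun a => hF₁ y a
    have e' : S hf (fun a => g (F y' (a + 1))) = g (S hf fun a => F y' (a + 1)) :=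
      S_comm hf (fun m => (hfg m).symm) _
    rw [e, show (fun a => g (F y' (a + 1)) + F y' a) =
      (fun a => g (F y' (a + 1))) + fun a => F y' a from rfl, map_add, map_add, e', hfg]
    have hs : S hf (F y') = F y' 0 + f (S hf fun a => F y' (a + 1)) := S_eq hf _
    rw [show (fun a => F y' a) = F y' from rfl]
    conv_rhs => arg 2; arg 2; rw [hs, map_add]
    abel
  · simp only [AddMonoidHom.comp_apply]
    rw [← S_comm hf (a := f + g) (fun m => by simp [hfg])]
    refine congrArg (S hf) (funext fun a => ?_)
    change S hg _ = (f + g) (S hg _)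
    rw [← S_comm hg (a := f + g) (fun m => by simp [hfg])]
    refine congrArg (S hg) (funext fun b => ?_)
    exact (map_nsmul (f + g) _ _).symm

end Groth.Agent.Lib.DerComp.Tele
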