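import Mathlib.Algebra.Homology.DerivedCategory.ShortExact
import Mathlib.Algebra.Homology.DerivedCategory.SingleTriangle
import Mathlib.Algebra.Homology.DerivedCategory.KInjective
import Mathlib.CategoryTheory.Triangulated.Pretriangulated
import Mathlib.CategoryTheory.Generator.Basic
import Groth.Agent.Lib.DerCat.HProd
import Groth.Agent.Lib.DerCat.KInjFunctor
import Groth.Agent.Lib.DerCat.OrthLocal
import Groth.Agent.Lib.DerivedOX.Exists

/-!
# Vanishing of morphism groups in triangulated and derived categories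
-/

set_option linter.style.haveILetI false

universe w v u

open CategoryTheory CategoryTheory.Limits

namespace Groth.Agent.Lib.DerComp.TriVan

open Pretriangulated

section Tri

variable {T : Type u} [Category.{v} T] [Preadditive T] [HasZeroObject T] [HasShift T ℤ]
  [∀ n : ℤ, (shiftFunctor T n).Additive] [Pretriangulated T]
  {S : Triangle T} (hS : S ∈ distinguishedTriangles)

include hS in
/-- `Hom(cone, Z[n]) = 0` for all `n` iff precomposition with the first map is bijective. -/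
theorem subsingleton_iff_bijective (Z : T) :
    (∀ n : ℤ, Subsingleton (S.obj₃ ⟶ Z⟦n⟧)) ↔
      ∀ n : ℤ, Function.Bijective (fun χ : S.obj₂ ⟶ Z⟦n⟧ => S.mor₁ ≫ χ) := by
  refine ⟨fun h n => ⟨fun χ χ' e => ?_, fun χ => ?_⟩, fun h n => ⟨fun ψ ψ' => ?_⟩⟩
  · haveI := h n
    rw [← sub_eq_zero]
    obtain ⟨ω, hω⟩ := S.yoneda_exact₂ hS (χ - χ') (by
      rw [Preadditive.comp_sub, sub_eq_zero]; exact e)
    rw [hω, Subsingleton.elim ω 0, comp_zero]
  · haveI := h (n + 1)
    obtain ⟨ω, hω⟩ := S.invRotate.yoneda_exact₂ (inv_rot_of_distTriang _ hS) χ (by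
      apply (shiftFunctor T (1 : ℤ)).map_injective
      let e : (S.obj₃⟦(-1 : ℤ)⟧)⟦(1 : ℤ)⟧ ≅ S.obj₃ := (shiftEquiv T (1 : ℤ)).counitIso.app S.obj₃
      let c : Z⟦n + 1⟧ ≅ (Z⟦n⟧)⟦(1 : ℤ)⟧ := (shiftFunctorAdd' T n 1 (n + 1) rfl).app Z
      exact (cancel_epi e.inv).1 ((cancel_mono c.inv).1 (Subsingleton.elim _ _)))
    exact ⟨ω, hω.symm⟩
  · suffices key : ∀ ψ : S.obj₃ ⟶ Z⟦n⟧, ψ = 0 from (key ψ).trans (key ψ').symm
    intro ψ
    have h₀ : S.mor₂ ≫ ψ = 0 := (h n).1 (by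
      change S.mor₁ ≫ S.mor₂ ≫ ψ = S.mor₁ ≫ 0
      rw [← Category.assoc, comp_distTriang_mor_zero₁₂ _ hS, zero_comp, comp_zero])
    obtain ⟨ω, rfl⟩ := S.yoneda_exact₃ hS ψ h₀
    let a : (Z⟦n - 1⟧)⟦(1 : ℤ)⟧ ≅ Z⟦n⟧ := ((shiftFunctorAdd' T (n - 1) 1 n (by omega)).app Z).symm
    obtain ⟨ω', hω'⟩ := (shiftFunctor T (1 : ℤ)).map_surjective (ω ≫ a.inv)
    obtain ⟨θ, hθ⟩ := (h (n - 1)).2 ω'
    have h₁ : ω = (S.mor₁⟦(1 : ℤ)⟧') ≫ (shiftFunctor T (1 : ℤ)).map θ ≫ a.hom := by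
      rw [← Functor.map_comp_assoc, show S.mor₁ ≫ θ = ω' from hθ, hω', Category.assoc,
        Iso.inv_hom_id, Category.comp_id]
    rw [h₁, ← Category.assoc]
    exact (congrArg (· ≫ _) (comp_distTriang_mor_zero₃₁ _ hS)).trans zero_comp

include hS in
/-- If postcomposition with the second shifted map is bijective, the fibre is invisible. -/
theorem subsingleton_fibre (X : T)
    (h : ∀ n : ℤ, Function.Bijective (fun χ : X ⟶ S.obj₂⟦n⟧ => χ ≫ S.mor₂⟦n⟧')) (n : ℤ) :
    Subsingleton (X ⟶ S.obj₁⟦n⟧) := by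
  refine ⟨fun ψ ψ' => ?_⟩
  suffices key : ∀ ψ : X ⟶ S.obj₁⟦n⟧, ψ = 0 from (key ψ).trans (key ψ').symm
  intro ψ
  have hS' := Triangle.shift_distinguished _ hS n
  have h₀ : ψ ≫ S.mor₁⟦n⟧' = 0 := (h n).1 (by
    change (ψ ≫ S.mor₁⟦n⟧') ≫ S.mor₂⟦n⟧' = 0 ≫ S.mor₂⟦n⟧'
    rw [Category.assoc, ← Functor.map_comp, comp_distTriang_mor_zero₁₂ _ hS, Functor.map_zero,
      comp_zero, zero_comp])
  obtain ⟨ω, hω⟩ := ((Triangle.shiftFunctor T n).obj S).invRotate.coyoneda_exact₂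
    (inv_rot_of_distTriang _ hS') ψ (by
      change ψ ≫ (n.negOnePow • S.mor₁⟦n⟧') = 0
      rw [Linear.comp_units_smul, h₀, smul_zero])
  let a : (S.obj₂⟦n - 1⟧) ≅ (S.obj₂⟦n⟧)⟦(-1 : ℤ)⟧ :=
    (shiftFunctorAdd' T n (-1) (n - 1) (by omega)).app _
  let b : (S.obj₃⟦n - 1⟧) ≅ (S.obj₃⟦n⟧)⟦(-1 : ℤ)⟧ :=
    (shiftFunctorAdd' T n (-1) (n - 1) (by omega)).app _
  obtain ⟨θ, hθ⟩ := (h (n - 1)).2 (n.negOnePow • (ω ≫ b.inv))
  have h₁ : ω = (θ ≫ a.hom) ≫ (n.negOnePow • S.mor₂⟦n⟧')⟦(-1 : ℤ)⟧' := by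
    rw [Functor.map_units_smul, Linear.comp_units_smul, Category.assoc]
    have hn : a.hom ≫ (S.mor₂⟦n⟧')⟦(-1 : ℤ)⟧' = S.mor₂⟦n - 1⟧' ≫ b.hom :=
      ((shiftFunctorAdd' T n (-1) (n - 1) (by omega)).hom.naturality S.mor₂).symm
    rw [hn, ← Category.assoc, show θ ≫ S.mor₂⟦n - 1⟧' = _ from hθ, Linear.units_smul_comp,
      smul_smul, Int.units_mul_self, one_smul, Category.assoc]
    exact ((congrArg (ω ≫ ·) b.inv_hom_id).trans (Category.comp_id ω)).symm
  rw [hω, h₁]
  refine ((Category.assoc (θ ≫ a.hom) _ _).trans (congrArg ((θ ≫ a.hom) ≫ ·) ?_)).trans comp_zero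
  simp only [Triangle.invRotate_mor₁]
  erw [Preadditive.comp_neg, ← Category.assoc, ← Functor.map_comp]
  erw [comp_distTriang_mor_zero₂₃ _ hS']
  simp
  exact (congrArg (· ≫ _) (Functor.map_zero _ _ _)).trans zero_comp

end Tri

section Derived

variable {A : Type u} [Category.{v} A] [Abelian A] [IsGrothendieckAbelian.{v} A]
  [HasDerivedCategory.{w} A]

/-- An object of `D(A)` invisible to a separating family is zero. -/
theorem isZero_of_separating {ι : Type v} (G : ι → A)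
    (hG : ObjectProperty.IsSeparating (ObjectProperty.ofObj G)) (Y : DerivedCategory A)
    (h : ∀ i (n : ℤ), Subsingleton ((DerivedCategory.singleFunctor A 0).obj (G i) ⟶ Y⟦n⟧)) :
    IsZero Y := by
  let M := DerivedCategory.Q.objPreimage Y
  obtain ⟨hI, hinj⟩ := DerCat.KInjFunctor.kinj_R M
  haveI := DerCat.KInjFunctor.quasiIso_j M
  let I := (DerCat.KInjFunctor.R A).obj M
  haveI : I.IsKInjective := hI
  let eI : DerivedCategory.Q.obj I ≅ Y :=
    (asIso (DerivedCategory.Q.map ((DerCat.KInjFunctor.j A).app M))).symm ≪≫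
      DerivedCategory.Q.objObjPreimageIso Y
  have hsub : ∀ i (m : ℤ), Subsingleton ((DerivedCategory.singleFunctor A m).obj (G i) ⟶ Y) := by
    intro i m
    haveI := h i m
    let e := ((DerivedCategory.singleFunctors A).shiftIso m 0 m (add_zero m)).app (G i)
    exact ⟨fun a b => (shiftFunctor (DerivedCategory A) m).map_injective
      ((cancel_epi e.inv).1 (Subsingleton.elim _ _))⟩
  suffices hac : I.Acyclic from
    haveI : (DerivedCategory.Qh (C := A)).IsLeftAdjoint := inferInstance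
    ((DerivedOX.RightDerived.isZero_Qh_obj_of_acyclic hac).of_iso
      ((DerivedCategory.quotientCompQhIso A).app I).symm).of_iso eI.symm
  intro m
  rw [HomologicalComplex.exactAt_iff_isZero_homology]
  haveI : (DerivedCategory.Qh (C := A)).IsLeftAdjoint := inferInstance
  haveI : Epi (I.toCycles (m - 1) m) := by
    refine Preadditive.epi_of_cancel_zero _ fun {Z} k hk => hG _ _ ?_
    rintro _ ⟨i⟩ l
    let f : (CochainComplex.singleFunctor A m).obj (G i) ⟶ I :=
      HomologicalComplex.mkHomFromSingle (l ≫ I.iCycles m) (fun j _ => by simp)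
    let e := ((SingleFunctors.evaluation _ _ m).mapIso
      (DerivedCategory.singleFunctorsPostcompQIso A)).app (G i)
    haveI := hsub i m
    have hf : DerivedCategory.Q.map f = DerivedCategory.Q.map 0 :=
      (cancel_mono eI.hom).1 ((cancel_epi e.hom).1 (@Subsingleton.elim _ (hsub i m) _ _))
    obtain ⟨H⟩ := DerCat.OrthLocal.homotopy_of_Q_map_eq f 0 hf
    have hc := H.comm m
    rw [dNext_eq _ (show (ComplexShape.up ℤ).Rel m (m + 1) from rfl),
      prevD_eq _ (show (ComplexShape.up ℤ).Rel (m - 1) m from sub_add_cancel m 1)] at hc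
    have hl : l = ((HomologicalComplex.singleObjXSelf (ComplexShape.up ℤ) m (G i)).inv ≫
        H.hom m (m - 1)) ≫ I.toCycles (m - 1) m := by
      rw [← cancel_mono (I.iCycles m), Category.assoc, Category.assoc, I.toCycles_i]
      have hz : ((CochainComplex.singleFunctor A m).obj (G i)).d m (m + 1) = 0 := by simp
      simp only [hz, zero_comp, zero_add, HomologicalComplex.zero_f, add_zero] at hc
      refine Eq.trans ?_ (congrArg (_ ≫ ·) hc)
      simp [f]
    rw [hl, Category.assoc, hk, comp_zero, comp_zero]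
  rw [IsZero.iff_id_eq_zero, ← cancel_epi (I.homologyπ m), ← cancel_epi (I.toCycles (m - 1) m)]
  simp

end Derived

end Groth.Agent.Lib.DerComp.TriVan
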