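import Groth.Prelude.Def_DerComp
import Groth.Agent.Lib.DerComp.Tele
import Groth.Agent.Lib.DerComp.TriVan
import Groth.Agent.Lib.DerCat.SeqColim
import Groth.Agent.Lib.SiteKFlat.Basic
import Groth.Agent.Lib.ExtZero.Restr

/-!
# The vanishing condition in the definition of derived completeness, through free modules
-/

set_option linter.style.haveILetI false

universe w v u u'

open CategoryTheory CategoryTheory.Limits Opposite
attribute [local instance] HasDerivedCategory.standard

namespace Groth.Agent.Lib.DerComp.Crit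

open Groth.Agent.Lib.DerCat

section General

variable {A : Type u'} [Category.{v} A] [Abelian A] [IsGrothendieckAbelian.{v} A]
  [HasDerivedCategory.{w} A]

/-- Maps out of a countable sum placed in degree zero. -/
theorem bijective_single_coprod {G : ℕ → A} (c : Cofan G) (hc : IsColimit c)
    (Z : DerivedCategory A) :
    Function.Bijective (fun (χ : (DerivedCategory.singleFunctor A 0).obj c.pt ⟶ Z) (k : ℕ) =>
      (DerivedCategory.singleFunctor A 0).map (c.inj k) ≫ χ) := by
  let M := DerivedCategory.Q.objPreimage Z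
  obtain ⟨hI, -⟩ := KInjFunctor.kinj_R M
  haveI := KInjFunctor.quasiIso_j M
  let I := (KInjFunctor.R A).obj M
  haveI : I.IsKInjective := hI
  let eI : DerivedCategory.Q.obj I ≅ Z :=
    (asIso (DerivedCategory.Q.map ((KInjFunctor.j A).app M))).symm ≪≫
      DerivedCategory.Q.objObjPreimageIso Z
  let S := CochainComplex.singleFunctor A 0
  let e : DerivedCategory.singleFunctor A 0 ≅ S ⋙ DerivedCategory.Q :=
    (SingleFunctors.evaluation _ _ 0).mapIso (DerivedCategory.singleFunctorsPostcompQIso A)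
  haveI : PreservesColimit (Discrete.functor G) S :=
    inferInstanceAs (PreservesColimit (Discrete.functor G) (HomologicalComplex.single A (ComplexShape.up ℤ) 0))
  let cS := isColimitCofanMkObjOfIsColimit S G c.inj (IsColimit.ofIsoColimit hc (Cocone.ext (Iso.refl _)))
  let K : ℕ → CochainComplex A ℤ := fun k => S.obj (G k)
  let φ : S.obj c.pt ≅ ∐ K := cS.coconePointUniqueUpToIso (coproductIsCoproduct K)
  have hφ : ∀ k, S.map (c.inj k) ≫ φ.hom = Sigma.ι K k := fun k =>
    cS.comp_coconePointUniqueUpToIso_hom (coproductIsCoproduct K) ⟨k⟩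
  have key : Function.Bijective (fun (χ : DerivedCategory.Q.obj (∐ K) ⟶ DerivedCategory.Q.obj I) (k : ℕ) =>
      DerivedCategory.Q.map (Sigma.ι K k) ≫ χ) := by
    refine ⟨fun a b h => ?_, fun y => ?_⟩
    · obtain ⟨f, rfl⟩ := OrthLocal.exists_Q_map a
      obtain ⟨g, rfl⟩ := OrthLocal.exists_Q_map b
      refine DerivedCategory.Q_map_eq_of_homotopy _ (HProd.homotopyDesc K f g fun k =>
        (OrthLocal.homotopy_of_Q_map_eq _ _ ?_).some)
      rw [Functor.map_comp, Functor.map_comp]
      exact congrFun h k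
    · choose f hf using fun k => OrthLocal.exists_Q_map (y k)
      exact ⟨DerivedCategory.Q.map (Sigma.desc f), funext fun k => by
        change DerivedCategory.Q.map _ ≫ _ = _
        rw [← Functor.map_comp, Sigma.ι_desc, hf]⟩
  have heq : ∀ (χ : DerivedCategory.Q.obj (∐ K) ⟶ DerivedCategory.Q.obj I) (k : ℕ),
      (DerivedCategory.singleFunctor A 0).map (c.inj k) ≫
        e.hom.app c.pt ≫ DerivedCategory.Q.map φ.hom ≫ χ ≫ eI.hom =
      e.hom.app (G k) ≫ (DerivedCategory.Q.map (Sigma.ι K k) ≫ χ) ≫ eI.hom := fun χ k => by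
    rw [← Category.assoc, e.hom.naturality, Category.assoc, Functor.comp_map,
      ← Functor.map_comp_assoc, hφ, Category.assoc]
  let pre : (DerivedCategory.singleFunctor A 0).obj c.pt ≅ DerivedCategory.Q.obj (∐ K) :=
    e.app c.pt ≪≫ DerivedCategory.Q.mapIso φ
  refine ⟨fun a b h => ?_, fun y => ?_⟩
  · rw [← cancel_epi pre.inv, ← cancel_mono eI.inv]
    refine key.1 (funext fun k => ?_)
    have hre : ∀ a : (DerivedCategory.singleFunctor A 0).obj c.pt ⟶ Z,
        e.hom.app c.pt ≫ DerivedCategory.Q.map φ.hom ≫ ((pre.inv ≫ a) ≫ eI.inv) ≫ eI.hom = a :=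
      fun a => by
        rw [Category.assoc (pre.inv ≫ a), Iso.inv_hom_id, Category.comp_id, ← Category.assoc]
        exact pre.hom_inv_id_assoc a
    have h₁ := heq ((pre.inv ≫ a) ≫ eI.inv) k
    have h₂ := heq ((pre.inv ≫ b) ≫ eI.inv) k
    rw [hre] at h₁ h₂
    rw [← cancel_epi (e.hom.app (G k)), ← cancel_mono eI.hom]
    simp only [Category.assoc] at h₁ h₂ ⊢
    exact h₁.symm.trans ((congrFun h k).trans h₂)
  · obtain ⟨χ, hχ⟩ := key.2 fun k => e.inv.app (G k) ≫ y k ≫ eI.inv
    refine ⟨e.hom.app c.pt ≫ DerivedCategory.Q.map φ.hom ≫ χ ≫ eI.hom, funext fun k => ?_⟩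
    change _ ≫ _ = _
    rw [heq, show DerivedCategory.Q.map (Sigma.ι K k) ≫ χ = _ from congrFun hχ k]
    simp

end General

variable {C : Type u} [SmallCategory C] {J : GrothendieckTopology C} (O : Sheaf J CommRingCat.{u})

/-- The action of a section on the free module. -/
noncomputable def ρ (U : C) (f : O.obj.obj (op U)) : ModSite.freeOn O U ⟶ ModSite.freeOn O U :=
  (ModSite.extZero O U).map
    (_root_.DerComp.smulEnd (_root_.DerComp.GSec.ofSect O U f) (ModSite.unit (O.over U)))

lemma ofSect_mul (U : C) (f g : O.obj.obj (op U)) :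
    _root_.DerComp.GSec.ofSect O U (f * g) =
      _root_.DerComp.GSec.ofSect O U f * _root_.DerComp.GSec.ofSect O U g :=
  Subtype.ext (funext fun _ => map_mul _ _ _)

lemma ofSect_add (U : C) (f g : O.obj.obj (op U)) :
    _root_.DerComp.GSec.ofSect O U (f + g) =
      _root_.DerComp.GSec.ofSect O U f + _root_.DerComp.GSec.ofSect O U g :=
  Subtype.ext (funext fun _ => map_add _ _ _)

lemma ofSect_zero (U : C) :
    _root_.DerComp.GSec.ofSect O U (0 : O.obj.obj (op U)) = 0 :=
  Subtype.ext (funext fun _ => map_zero _)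

lemma ρ_mul (U : C) (f g : O.obj.obj (op U)) : ρ O U (f * g) = ρ O U f ≫ ρ O U g := by
  rw [ρ, ofSect_mul, ← _root_.DerComp.smulEnd_comp, Functor.map_comp]
  rfl

lemma ρ_comm (U : C) (f g : O.obj.obj (op U)) : ρ O U f ≫ ρ O U g = ρ O U g ≫ ρ O U f := by
  rw [← ρ_mul, ← ρ_mul, mul_comm]

lemma ρ_add (U : C) (f g : O.obj.obj (op U)) : ρ O U (f + g) = ρ O U f + ρ O U g := by
  rw [ρ, ofSect_add, _root_.DerComp.smulEnd_add, Functor.map_add]
  rfl

lemma ρ_zero (U : C) : ρ O U 0 = 0 := by
  rw [ρ, ofSect_zero, _root_.DerComp.smulEnd_zero, Functor.map_zero]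

variable (K : DerivedCategory (ModSite.Mod O))

/-- Precomposition with the action. -/
noncomputable def act (U : C) (f : O.obj.obj (op U)) (n : ℤ) :
    (SiteCmp.inD O (ModSite.freeOn O U) ⟶ K⟦n⟧) →+ (SiteCmp.inD O (ModSite.freeOn O U) ⟶ K⟦n⟧) :=
  AddMonoidHom.mk' (fun x => (DerivedCategory.singleFunctor (ModSite.Mod O) 0).map (ρ O U f) ≫ x)
    fun _ _ => Preadditive.comp_add _ _ _ _ _ _

/-- The vanishing condition of derived completeness. -/
def Van (U : C) (f : O.obj.obj (op U)) : Prop :=
  ∀ n : ℤ, Subsingleton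
    (SiteCmp.inD O ((ModSite.extZero O U).obj (_root_.DerComp.awayOver O U f)) ⟶ K⟦n⟧)

/-- The telescope condition. -/
def Good (U : C) (f : O.obj.obj (op U)) : Prop :=
  ∀ n : ℤ, Function.Bijective (Tele.Φ (act O K U f n))

theorem mono_awayMap {D : Type u} [SmallCategory D] {K' : GrothendieckTopology D}
    {R : Sheaf K' CommRingCat.{u}} (s : _root_.DerComp.GSec R) (F : ModSite.Mod R) :
    Mono (_root_.DerComp.awayMap s F) := by
  haveI : HasExactColimitsOfShape ℕ (ModSite.Mod R) :=
    haveI := AB5OfSize_of_univLE.{0, 0, u, u} (ModSite.Mod R)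
    AB5OfSize.ofShape ℕ
  let seq : ℕ ⥤ ModSite.Mod R :=
    Functor.ofSequence (X := fun _ => F) fun _ => _root_.DerComp.smulEnd s _
  have e : _root_.DerComp.awayMap s F = 𝟙 _ - SeqColim.sh seq := by
    apply Sigma.hom_ext
    intro n
    refine (Sigma.ι_desc _ n).trans (Eq.trans ?_
      (Preadditive.comp_sub (Sigma.ι seq.obj n) (𝟙 _) (SeqColim.sh seq)).symm)
    refine congrArg₂ (· - ·) (Category.comp_id _).symm ?_
    rw [SeqColim.ι_sh, Functor.ofSequence_map_homOfLE_succ]
    rfl
  rw [e]
  exact inferInstanceAs (Mono (𝟙 (∐ seq.obj) - SeqColim.sh seq))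

theorem van_iff_good (U : C) (f : O.obj.obj (op U)) : Van O K U f ↔ Good O K U f := by
  let s := _root_.DerComp.GSec.ofSect O U f
  let u₀ := ModSite.unit (O.over U)
  let T := ModSite.extZero O U
  haveI := ExtZero.ModSite.preservesFiniteLimits_extZero O U
  haveI : T.IsLeftAdjoint := (ModSite.extZeroAdj O U).isLeftAdjoint
  haveI : PreservesFiniteColimits T := PreservesColimitsOfSize.preservesFiniteColimits.{0, 0} _
  haveI : Mono (_root_.DerComp.awayMap s u₀) := mono_awayMap s u₀
  let S₀ : ShortComplex (ModSite.Mod (O.over U)) :=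
    ShortComplex.mk (_root_.DerComp.awayMap s u₀) (cokernel.π _) (cokernel.condition _)
  have hS₀ : S₀.ShortExact :=
    { exact := ShortComplex.exact_of_g_is_cokernel _ (cokernelIsCokernel _) }
  have hS := hS₀.map_of_exact T
  have hT := hS.singleTriangle_distinguished
  refine (TriVan.subsingleton_iff_bijective hT K).trans (forall_congr' fun n => ?_)
  let c : Cofan fun _ : ℕ => ModSite.freeOn O U :=
    Cofan.mk (T.obj (∐ fun _ : ℕ => u₀)) fun k => T.map (Sigma.ι (fun _ : ℕ => u₀) k)
  haveI : PreservesColimitsOfSize.{0, 0} T := inferInstance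
  have hc : IsColimit c := isColimitCofanMkObjOfIsColimit T _ _ (coproductIsCoproduct _)
  let E := bijective_single_coprod c hc (K⟦n⟧)
  let F := DerivedCategory.singleFunctor (ModSite.Mod O) 0
  let E' := Equiv.ofBijective _ E
  have sq : ∀ χ, E' (F.map (T.map (_root_.DerComp.awayMap s u₀)) ≫ χ) =
      Tele.Φ (act O K U f n) (E' χ) := fun χ => funext fun k => by
    have h₁ : T.map (Sigma.ι (fun _ : ℕ => u₀) k) ≫ T.map (_root_.DerComp.awayMap s u₀) =
        c.inj k - ρ O U f ≫ c.inj (k + 1) := by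
      rw [← T.map_comp]
      refine (congrArg T.map (Sigma.ι_desc _ k)).trans ?_
      rw [T.map_sub, T.map_comp]
      rfl
    change F.map (c.inj k) ≫ F.map (T.map (_root_.DerComp.awayMap s u₀)) ≫ χ =
      F.map (c.inj k) ≫ χ - F.map (ρ O U f) ≫ F.map (c.inj (k + 1)) ≫ χ
    rw [← F.map_comp_assoc, show c.inj k ≫ T.map (_root_.DerComp.awayMap s u₀) = _ from h₁,
      F.map_sub, F.map_comp, Preadditive.sub_comp, Category.assoc]
  refine Iff.trans ?_ (Equiv.bijective_comp E' _)
  have hfun : (Tele.Φ (act O K U f n) : _ → _) ∘ E' =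
      E' ∘ fun χ => F.map (T.map (_root_.DerComp.awayMap s u₀)) ≫ χ :=
    funext fun χ => (sq χ).symm
  rw [hfun, Equiv.comp_bijective]
  exact Iff.rfl

variable {O K}

theorem good_zero (U : C) : Good O K U 0 := fun n => by
  have : act O K U 0 n = 0 := AddMonoidHom.ext fun x => by
    change (DerivedCategory.singleFunctor (ModSite.Mod O) 0).map (ρ O U 0) ≫ x = 0
    rw [ρ_zero, Functor.map_zero, zero_comp]
  rw [this]
  exact Tele.bijective_zero

theorem act_comm (U : C) (f g : O.obj.obj (op U)) (n : ℤ)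
    (x : SiteCmp.inD O (ModSite.freeOn O U) ⟶ K⟦n⟧) :
    act O K U f n (act O K U g n x) = act O K U g n (act O K U f n x) := by
  change (DerivedCategory.singleFunctor (ModSite.Mod O) 0).map (ρ O U f) ≫
      (DerivedCategory.singleFunctor (ModSite.Mod O) 0).map (ρ O U g) ≫ x =
    (DerivedCategory.singleFunctor (ModSite.Mod O) 0).map (ρ O U g) ≫
      (DerivedCategory.singleFunctor (ModSite.Mod O) 0).map (ρ O U f) ≫ x
  rw [← Functor.map_comp_assoc, ← Functor.map_comp_assoc, ρ_comm]

theorem good_mul (U : C) {f : O.obj.obj (op U)} (a : O.obj.obj (op U)) (hf : Good O K U f) :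
    Good O K U (a * f) := fun n => by
  have : act O K U (a * f) n = (act O K U a n).comp (act O K U f n) := AddMonoidHom.ext fun x => by
    change (DerivedCategory.singleFunctor (ModSite.Mod O) 0).map (ρ O U (a * f)) ≫ x =
      (DerivedCategory.singleFunctor (ModSite.Mod O) 0).map (ρ O U a) ≫
        (DerivedCategory.singleFunctor (ModSite.Mod O) 0).map (ρ O U f) ≫ x
    rw [← Functor.map_comp_assoc, ρ_mul]
  rw [this]
  exact Tele.bijective_comp (hf n) _ (act_comm U a f n)

theorem good_add (U : C) {f g : O.obj.obj (op U)} (hf : Good O K U f) (hg : Good O K U g) :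
    Good O K U (f + g) := fun n => by
  have : act O K U (f + g) n = act O K U f n + act O K U g n := AddMonoidHom.ext fun x => by
    change (DerivedCategory.singleFunctor (ModSite.Mod O) 0).map (ρ O U (f + g)) ≫ x = _
    rw [ρ_add, Functor.map_add, Preadditive.add_comp]
    rfl
  rw [this]
  exact Tele.bijective_add (hf n) (hg n) (act_comm U f g n)

end Groth.Agent.Lib.DerComp.Crit
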