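import Groth.Prelude.Def_DerComp
import Groth.Agent.Lib.DerCat.OrthLocal
import Groth.Agent.Lib.SiteKFlat.Basic

/-!
# Existence of derived completion on a ringed site

The derived complete objects are the right orthogonal of a small set of objects of `D(O)`.
-/

universe u

open CategoryTheory CategoryTheory.Limits Opposite
attribute [local instance] HasDerivedCategory.standard

namespace Groth.Agent.Lib.DerComp.Exists

open Groth.Agent.Lib.DerCat

variable {C : Type u} [SmallCategory C] {J : GrothendieckTopology C} {O : Sheaf J CommRingCat.{u}}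
  (I : _root_.DerComp.IdealSh O)

/-- The index of the generators. -/
abbrev Idx : Type u := Σ U : C, {f : O.obj.obj (op U) // f ∈ I.ideal U}

/-- The generators, as complexes. -/
noncomputable def T (x : Idx I) : CochainComplex (ModSite.Mod O) ℤ :=
  (CochainComplex.singleFunctor (ModSite.Mod O) 0).obj
    ((ModSite.extZero O x.1).obj (_root_.DerComp.awayOver O x.1 x.2.1))

theorem hasDerCompletion : _root_.DerComp.HasDerCompletion O I := by
  refine OrthLocal.isRightAdjoint (T I) _ fun d => ?_
  let e : ∀ x : Idx I, SiteCmp.inD O ((ModSite.extZero O x.1).obj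
      (_root_.DerComp.awayOver O x.1 x.2.1)) ≅ DerivedCategory.Q.obj (T I x) := fun x =>
    ((SingleFunctors.evaluation _ _ 0).mapIso (DerivedCategory.singleFunctorsPostcompQIso (ModSite.Mod O))).app _
  refine ⟨fun h x n => ?_, fun h U f hf n => ?_⟩
  · haveI := h x.1 x.2.1 x.2.2 n
    exact ⟨fun a b => (cancel_epi (e x).hom).1 (Subsingleton.elim _ _)⟩
  · haveI := h ⟨U, f, hf⟩ n
    exact ⟨fun a b => (cancel_epi (e ⟨U, f, hf⟩).inv).1 (Subsingleton.elim _ _)⟩

end Groth.Agent.Lib.DerComp.Exists
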