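import Groth.Prelude.Def_DerComp
import Groth.Agent.Lib.DerComp.Exists
import Groth.Agent.Lib.DerComp.Crit
import Groth.Agent.Lib.QCoh.Tilde
import Groth.Agent.Lib.SiteCmp29.GammaZ
import Groth.Agent.Lib.DerCat.DerAdj
import Groth.Agent.Lib.DerivedOX.Exists
import Groth.Agent.Lib.DMod.Basic

/-!
# Derived global sections on an affine scheme as a right adjoint, linear over the global functions
-/

set_option linter.style.haveILetI false
set_option linter.unusedSectionVars false

universe u

open CategoryTheory CategoryTheory.Limits Opposite AlgebraicGeometry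

attribute [local instance] HasDerivedCategory.standard

namespace Groth.Agent.Lib.DerComp.AffineG

open Groth.Agent.Lib

variable (X : Scheme.{u})

/-- The ring of global sections, as compatible families. -/
abbrev A : Type u := _root_.DerComp.GSec X.sheaf

/-- The same ring, bundled. -/
noncomputable abbrev R : CommRingCat.{u} := CommRingCat.of (A X)

/-- Evaluation on the whole space. -/
noncomputable def γ : R X ≅ Γ(X, ⊤) :=
  RingEquiv.toCommRingCatIso (R := R X) (S := Γ(X, ⊤))
    { toFun := fun a => (a.1 ⊤ : Γ(X, ⊤))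
      invFun := fun x => ⟨fun U => (X.presheaf.map (homOfLE (le_top : U ≤ ⊤)).op).hom x,
        fun U V g => by
          change (X.presheaf.map g.op).hom ((X.presheaf.map _).hom x) = _
          rw [← CommRingCat.comp_apply, ← Functor.map_comp]
          rfl⟩
      left_inv := fun a => Subtype.ext (funext fun U => a.2 _)
      right_inv := fun x => by
        change (X.presheaf.map (𝟙 (op (⊤ : X.Opens)))).hom x = x
        rw [X.presheaf.map_id]
        rfl
      map_mul' := fun _ _ => rfl
      map_add' := fun _ _ => rfl }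

lemma γ_apply (a : A X) : (γ X).hom.hom a = (a.1 ⊤ : Γ(X, ⊤)) := rfl

theorem isNoetherianRing [IsAffine X] [IsNoetherian X] : IsNoetherianRing (A X) :=
  haveI : IsNoetherianRing Γ(X, ⊤) :=
    IsLocallyNoetherian.component_noetherian ⟨⊤, isAffineOpen_top X⟩
  isNoetherianRing_of_ringEquiv Γ(X, ⊤) (γ X).symm.commRingCatIsoToRingEquiv

variable [IsAffine X]

/-- The affine scheme as the spectrum. -/
noncomputable def e : X ≅ Spec (R X) :=
  X.isoSpec ≪≫ (Scheme.Spec.mapIso (γ X).op : Spec Γ(X, ⊤) ≅ Spec (R X))

lemma e_appTop (a : A X) :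
    (e X).hom.appTop.hom ((Scheme.ΓSpecIso (R X)).inv.hom a) = (a.1 ⊤ : Γ(X, ⊤)) := by
  have h : (Scheme.ΓSpecIso (R X)).inv ≫ (e X).hom.appTop = (γ X).hom := by
    change _ ≫ (X.toSpecΓ ≫ Spec.map (γ X).hom).appTop = _
    rw [Scheme.Hom.comp_appTop, Scheme.toSpecΓ_appTop, Scheme.ΓSpecIso_naturality,
      Iso.inv_hom_id_assoc]
  exact (congrArg (fun q => q.hom a) h).trans (γ_apply X a)

/-- Modules over the global functions as sheaves. -/
noncomputable def F : ModuleCat.{u} (A X) ⥤ ModSite.Mod X.sheaf :=
  tilde.functor (R X) ⋙ Scheme.Modules.restrictFunctor (e X).hom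

/-- Global sections as modules over the global functions. -/
noncomputable def G₀ : ModSite.Mod X.sheaf ⥤ ModuleCat.{u} (A X) :=
  Scheme.Modules.pushforward (e X).hom ⋙ moduleSpecΓFunctor (R := R X)

/-- The adjunction. -/
noncomputable def adj : F X ⊣ G₀ X :=
  (tilde.adjunction (R := R X)).comp (Scheme.Modules.restrictAdjunction (e X).hom)

instance : (F X).IsLeftAdjoint := (adj X).isLeftAdjoint
instance : (G₀ X).Additive := by
  haveI : (tilde.functor (R X)).IsLeftAdjoint := (tilde.adjunction (R := R X)).isLeftAdjoint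
  haveI := Limits.preservesBinaryBiproducts_of_preservesBinaryCoproducts (tilde.functor (R X))
  haveI : (tilde.functor (R X)).Additive := Functor.additive_of_preservesBinaryBiproducts _
  haveI : (moduleSpecΓFunctor (R := R X)).Additive := (tilde.adjunction (R := R X)).right_adjoint_additive
  exact inferInstanceAs (Scheme.Modules.pushforward (e X).hom ⋙ moduleSpecΓFunctor (R := R X)).Additive

instance : (F X).Additive := (adj X).left_adjoint_additive

instance : PreservesFiniteColimits (F X) := PreservesColimitsOfSize.preservesFiniteColimits.{0, 0} _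

instance : PreservesFiniteLimits (F X) := by
  haveI : PreservesFiniteLimits (tilde.functor (R X)) := QCoh.Tilde.tildeFunctor_preservesFiniteLimits ..
  haveI := SiteCmp29.GammaZ.isEquivalence_restrict (e X)
  exact comp_preservesFiniteLimits (tilde.functor (R X)) (Scheme.Modules.restrictFunctor (e X).hom)

lemma smul_G₀ (N : ModSite.Mod X.sheaf) (a : A X) (x : (G₀ X).obj N) :
    a • x = ((G₀ X).map (_root_.DerComp.smulEnd a N)).hom x := by
  change ((e X).hom.appTop.hom (((Spec (R X)).presheaf.map (𝟙 _)).hom
    ((Scheme.ΓSpecIso (R X)).inv.hom a))) • (show Γ((show X.Modules from N), ⊤) from x) =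
      (show Γ(X, ⊤) from a.1 ⊤) • (show Γ((show X.Modules from N), ⊤) from x)
  rw [CategoryTheory.Functor.map_id]
  exact congrArg (· • (show Γ((show X.Modules from N), ⊤) from x)) (e_appTop X a)

instance linear : (F X).Linear (A X) := by
  rw [Functor.linear_iff]
  intro M a
  apply ((adj X).homEquiv M ((F X).obj M)).injective
  rw [Adjunction.homEquiv_unit, Adjunction.homEquiv_unit]
  refine ((adj X).unit.naturality (a • 𝟙 M)).symm.trans ?_
  refine ModuleCat.hom_ext (LinearMap.ext fun x => ?_)
  change ((adj X).unit.app M).hom (a • x) =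
    ((G₀ X).map (_root_.DerComp.smulEnd a ((F X).obj M) ≫ 𝟙 _)).hom (((adj X).unit.app M).hom x)
  rw [map_smul, Category.comp_id]
  exact smul_G₀ X _ a _

/-- The derived functor of `F`. -/
noncomputable abbrev Ld : Dual.D (A X) ⥤ DerivedCategory (ModSite.Mod X.sheaf) :=
  (F X).mapDerivedCategory

/-- Derived global sections. -/
noncomputable def G : DerivedCategory (ModSite.Mod X.sheaf) ⥤ Dual.D (A X) :=
  haveI : (DerivedCategory.Qh (C := ModSite.Mod X.sheaf)).IsLeftAdjoint := inferInstance
  DerivedOX.RightDerived.resFunctor (ModSite.Mod X.sheaf) ⋙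
    (G₀ X).mapHomotopyCategory (ComplexShape.up ℤ) ⋙ DerivedCategory.Qh

/-- The derived adjunction. -/
noncomputable def adjG : Ld X ⊣ G X :=
  haveI : (DerivedCategory.Qh (C := ModSite.Mod X.sheaf)).IsLeftAdjoint := inferInstance
  DerCat.DerAdj.derivedAdj (adj X)

/-- The unit module is the structure sheaf. -/
noncomputable def unitIso : (F X).obj (ModuleCat.of (A X) (A X)) ≅ ModSite.unit X.sheaf :=
  (Scheme.Modules.restrictFunctor (e X).hom).mapIso (tildeSelf (R := R X)) ≪≫
    Scheme.Modules.restrictUnitIso (e X).hom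

/-- `Ld` on the unit. -/
noncomputable def LdUnit :
    (Ld X).obj (Dual.inD (A X) (A X)) ≅ SiteCmp.inD X.sheaf (ModSite.unit X.sheaf) :=
  ((F X).mapDerivedCategorySingleFunctor 0).app (ModuleCat.of (A X) (A X)) ≪≫
    (DerivedCategory.singleFunctor (ModSite.Mod X.sheaf) 0).mapIso (unitIso X)

/-- Morphisms out of the structure sheaf compute derived global sections. -/
noncomputable def homEquiv (K : DerivedCategory (ModSite.Mod X.sheaf)) :
    (Dual.inD (A X) (A X) ⟶ (G X).obj K) ≃ₗ[A X]
      (SiteCmp.inD X.sheaf (ModSite.unit X.sheaf) ⟶ K) :=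
  LinearEquiv.ofBijective
    { toFun := fun f => (LdUnit X).inv ≫ ((adjG X).homEquiv _ _).symm f
      map_add' := fun f g => by
        simp [Adjunction.homEquiv_counit, Functor.map_add]
      map_smul' := fun a f => by
        simp [Adjunction.homEquiv_counit, Functor.map_smul] }
    ⟨fun f g h => ((adjG X).homEquiv _ _).symm.injective ((cancel_epi (LdUnit X).inv).1 h),
      fun y => ⟨(adjG X).homEquiv _ _ ((LdUnit X).hom ≫ y),
        ((congrArg ((LdUnit X).inv ≫ ·) (((adjG X).homEquiv _ _).symm_apply_apply _)).trans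
          ((LdUnit X).inv_hom_id_assoc y) : _)⟩⟩

end Groth.Agent.Lib.DerComp.AffineG
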