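import Groth.Agent.Lib.DerComp.AdjGood
import Groth.Agent.Lib.DerComp.AffineCompl
import Groth.Agent.Lib.DerivedOX.RestrictKInj
import Groth.Agent.Lib.Perfect.Basic

/-!
# Derived completeness and restriction to open subschemes
-/

set_option linter.style.haveILetI false
set_option linter.unusedSectionVars false

universe u

open CategoryTheory CategoryTheory.Limits Opposite Pretriangulated AlgebraicGeometry TopologicalSpace
attribute [local instance] HasDerivedCategory.standard

namespace Groth.Agent.Lib.DerComp.AffineOpen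

open Groth.Agent.Lib Crit Groth.Agent.Lib.Perfect.Basic

variable {X : Scheme.{u}} (U : X.Opens) (𝓘 : _root_.DerComp.IdealSh X.sheaf)

/-- The restriction of a sheaf of ideals to an open subscheme. -/
def idealU : _root_.DerComp.IdealSh (U : Scheme.{u}).sheaf where
  ideal W := 𝓘.ideal (U.ι ''ᵁ W)
  map_mem {W W'} g f hf := 𝓘.map_mem (U.ι.opensFunctor.map g) hf
  glue {W f} S hS hf := by
    refine 𝓘.glue ⟨fun V => {_g : V ⟶ U.ι ''ᵁ W | ∃ (W' : (U : Scheme.{u}).Opens) (h : W' ⟶ W),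
      S h ∧ V ≤ U.ι ''ᵁ W'}, fun {V V' k} hk l => by
        obtain ⟨W', h, hS, hV⟩ := hk
        exact ⟨W', h, hS, (leOfHom l).trans hV⟩⟩ ?_ ?_
    · rintro x ⟨y, hy, rfl⟩
      obtain ⟨W', h, hh, hy'⟩ := hS y hy
      exact ⟨U.ι ''ᵁ W', U.ι.opensFunctor.map h, ⟨W', h, hh, le_rfl⟩, ⟨y, hy', rfl⟩⟩
    · rintro V g ⟨W', h, hh, hV⟩
      have := 𝓘.map_mem (homOfLE hV) (hf h hh)
      have e : (X.presheaf.map (homOfLE hV).op).hom ((X.presheaf.map (U.ι.opensFunctor.map h).op).hom f) =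
          (X.presheaf.map g.op).hom f := by
        rw [← CommRingCat.comp_apply, ← Functor.map_comp]
        rfl
      exact e ▸ this

/-- The global functions of `U` lying in the sheaf of ideals. -/
def idealTop : Ideal (_root_.DerComp.GSec (U : Scheme.{u}).sheaf) where
  carrier := {a | a.1 ⊤ ∈ (idealU U 𝓘).ideal ⊤}
  add_mem' ha hb := Ideal.add_mem _ ha hb
  zero_mem' := Ideal.zero_mem _
  smul_mem' c _ ha := Ideal.mul_mem_left _ _ ha

/-- A quasi-coherent sheaf of ideals is generated by its sections on an affine open. -/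
theorem isGenBy (hU : IsAffineOpen U)
    (hqc : ∀ g : Γ(X, U), 𝓘.ideal (X.basicOpen g) =
      Ideal.map (X.presheaf.map (homOfLE (X.basicOpen_le g)).op).hom (𝓘.ideal U)) :
    (idealU U 𝓘).IsGenBy (fun a : idealTop U 𝓘 => (a : _root_.DerComp.GSec (U : Scheme.{u}).sheaf)) := by
  refine ⟨fun a W => ?_, fun 𝓙 h𝓙 W f hf => ?_⟩
  · have h := (idealU U 𝓘).map_mem (homOfLE (le_top : W ≤ ⊤)) a.2
    rwa [a.1.2] at h
  · refine 𝓙.glue ⟨fun W' => {g : W' ⟶ W | ((U : Scheme.{u}).presheaf.map g.op).hom f ∈ 𝓙.ideal W'},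
      fun {W' W'' k} hk l => by
        have h := 𝓙.map_mem l hk
        change ((U : Scheme.{u}).presheaf.map (l ≫ k).op).hom f ∈ _
        rw [op_comp, Functor.map_comp]
        exact h⟩ ?_ (fun W' g hg => hg)
    intro y hy
    obtain ⟨g, hg, hyg⟩ := hU.exists_basicOpen_le (V := U.ι ''ᵁ W) ⟨U.ι y, ⟨y, hy, rfl⟩⟩ y.2
    have hle : U.ι ⁻¹ᵁ X.basicOpen g ≤ W := by
      refine le_trans (U.ι.preimage_mono hg) ?_
      rw [U.ι.preimage_image_eq]
    refine ⟨U.ι ⁻¹ᵁ X.basicOpen g, homOfLE hle, ?_, hyg⟩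
    let W' := U.ι ⁻¹ᵁ X.basicOpen g
    have h₁ : U.ι ''ᵁ W' ≤ U := fun x ⟨z, _, hz⟩ => hz ▸ z.2
    have key : (𝓘.ideal U).map (X.presheaf.map (homOfLE h₁).op).hom ≤ 𝓙.ideal W' := by
      refine Ideal.map_le_iff_le_comap.2 fun z hz => ?_
      let a : _root_.DerComp.GSec (U : Scheme.{u}).sheaf :=
        ⟨fun V => (X.presheaf.map (homOfLE (show U.ι ''ᵁ V ≤ U from fun x ⟨w, _, hw⟩ => hw ▸ w.2)).op).hom z,
          fun V V' k => by
            change (X.presheaf.map (U.ι.opensFunctor.map k).op).hom ((X.presheaf.map _).hom z) = _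
            rw [← CommRingCat.comp_apply, ← Functor.map_comp]
            rfl⟩
      exact h𝓙 ⟨a, 𝓘.map_mem _ hz⟩ W'
    have h₂ : U.ι ''ᵁ W' ≤ X.basicOpen g := U.ι.image_preimage_le _
    have hm : (X.presheaf.map (homOfLE hg).op).hom f ∈ _ := hqc g ▸ 𝓘.map_mem (homOfLE hg) hf
    have hm' := Ideal.mem_map_of_mem (X.presheaf.map (homOfLE h₂).op).hom hm
    have hm'' : (X.presheaf.map (homOfLE h₂).op).hom ((X.presheaf.map (homOfLE hg).op).hom f) ∈
        𝓙.ideal W' := by
      refine (Ideal.map_le_iff_le_comap.2 (Ideal.map_le_iff_le_comap.2 fun z hz => ?_)) hm'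
      have e : (X.presheaf.map (homOfLE h₂).op).hom ((X.presheaf.map (homOfLE (X.basicOpen_le g)).op).hom z) =
          (X.presheaf.map (homOfLE h₁).op).hom z := by
        rw [← CommRingCat.comp_apply, ← Functor.map_comp]
        rfl
      exact (Ideal.mem_comap.2 (e.symm ▸ key (Ideal.mem_map_of_mem _ hz)) :)
    have e : (X.presheaf.map (homOfLE h₂).op).hom ((X.presheaf.map (homOfLE hg).op).hom f) =
        ((U : Scheme.{u}).presheaf.map (homOfLE hle).op).hom f := by
      rw [← CommRingCat.comp_apply, ← Functor.map_comp]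
      rfl
    change ((U : Scheme.{u}).presheaf.map (homOfLE hle).op).hom f ∈ 𝓙.ideal W'
    exact e ▸ hm''

/-- Extension by zero, on the categories of the ringed sites. -/
noncomputable abbrev E₀ : ModSite.Mod (U : Scheme.{u}).sheaf ⥤ ModSite.Mod X.sheaf :=
  DerivedOX.RestrictKInj.extZero U

/-- Restriction, on the categories of the ringed sites. -/
noncomputable abbrev r : ModSite.Mod X.sheaf ⥤ ModSite.Mod (U : Scheme.{u}).sheaf :=
  Scheme.Modules.restrictFunctor U.ι

instance : (E₀ U).Additive := inferInstanceAs (DerivedOX.RestrictKInj.extZero U).Additive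
instance : PreservesFiniteLimits (E₀ U) :=
  inferInstanceAs (PreservesFiniteLimits (DerivedOX.RestrictKInj.extZero U))
instance : PreservesFiniteColimits (E₀ U) :=
  inferInstanceAs (PreservesFiniteColimits (DerivedOX.RestrictKInj.extZero U))
instance : (r U).Additive := inferInstanceAs (Scheme.Modules.restrictFunctor U.ι).Additive
instance : PreservesFiniteLimits (r U) :=
  inferInstanceAs (PreservesFiniteLimits (Scheme.Modules.restrictFunctor U.ι))
instance : PreservesFiniteColimits (r U) :=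
  inferInstanceAs (PreservesFiniteColimits (Scheme.Modules.restrictFunctor U.ι))

/-- Restriction on derived categories. -/
noncomputable abbrev Rd :
    DerivedCategory (ModSite.Mod X.sheaf) ⥤ DerivedCategory (ModSite.Mod (U : Scheme.{u}).sheaf) :=
  (r U).mapDerivedCategory

/-- The derived adjunction `j_! ⊣ j^*`. -/
noncomputable def adjE : (E₀ U).mapDerivedCategory ⊣ Rd U :=
  Local.adjD (F := E₀ U) (G := r U) (DerivedOX.RestrictKInj.extZeroAdj U)

variable (W : (U : Scheme.{u}).Opens)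

/-- `j_! O_W ≅ O_{j W}`. -/
noncomputable def tE : ModSite.freeOn X.sheaf (U.ι ''ᵁ W) ≅
    (E₀ U).obj (ModSite.freeOn (U : Scheme.{u}).sheaf W) :=
  AdjGood.freeIso (L := E₀ U) (Rr := r U) (DerivedOX.RestrictKInj.extZeroAdj U)
    (fun _ => AddEquiv.refl _) fun _ _ => rfl

lemma ρ_tE (a : X.presheaf.obj (op (U.ι ''ᵁ W))) :
    ρ X.sheaf (U.ι ''ᵁ W) a ≫ (tE U W).hom =
      (tE U W).hom ≫ (E₀ U).map (ρ (U : Scheme.{u}).sheaf W a) :=
  AdjGood.ρ_freeIso (L := E₀ U) (Rr := r U) (DerivedOX.RestrictKInj.extZeroAdj U)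
    (fun _ => AddEquiv.refl _) (fun _ _ => rfl) fun M x =>
    congrArg (fun q : Γ(X, U.ι ''ᵁ W) => q • (show Γ((show X.Modules from M), U.ι ''ᵁ W) from x))
      (show (U.ι.appIso W).inv.hom a = a by rw [U.ι_appIso]; rfl)

/-- Restrictions of complete objects are complete. -/
theorem isDerComp_Rd {E : DerivedCategory (ModSite.Mod X.sheaf)}
    (hE : _root_.DerComp.IsDerComp X.sheaf 𝓘 E) :
    _root_.DerComp.IsDerComp (U : Scheme.{u}).sheaf (idealU U 𝓘) ((Rd U).obj E) := fun W f hf =>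
  (van_iff_good (U : Scheme.{u}).sheaf _ W f).2
    ((AdjGood.good_iff (E₀ U) (Rd U) (adjE U) (tE U W) (ρ_tE U W f) E).2
      ((van_iff_good X.sheaf E _ f).1 (hE _ f hf)))

/-- The restriction of the cone of a completion is orthogonal to complete objects. -/
theorem orth_Rd {Cn : DerivedCategory (ModSite.Mod X.sheaf)}
    (hC : ∀ E, _root_.DerComp.IsDerComp X.sheaf 𝓘 E → Subsingleton (Cn ⟶ E))
    (E : DerivedCategory (ModSite.Mod (U : Scheme.{u}).sheaf))
    (hE : _root_.DerComp.IsDerComp (U : Scheme.{u}).sheaf (idealU U 𝓘) E) :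
    Subsingleton ((Rd U).obj Cn ⟶ E) := by
  let P : ModSite.Mod (U : Scheme.{u}).sheaf ⥤ ModSite.Mod X.sheaf := Scheme.Modules.pushforward U.ι
  haveI : P.Additive :=
    (Scheme.Modules.restrictAdjunction U.ι).right_adjoint_additive
  exact AdjGood.orth_map (r U) P (Scheme.Modules.restrictAdjunction U.ι) (fun V => U.ι ⁻¹ᵁ V)
    (fun V a => (U.ι.app V).hom a) (fun _ _ => AddEquiv.refl _) (fun _ _ _ _ _ => rfl)
    (fun _ _ _ _ => rfl) 𝓘 (idealU U 𝓘)
    (fun V f hf => by
      change (U.ι.app V).hom f ∈ 𝓘.ideal _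
      rw [Scheme.Opens.ι_app]
      exact 𝓘.map_mem _ hf) hC E hE

/-- Derived sections over `U` computed on the open subscheme. -/
noncomputable def topEquiv [IsAffine (U : Scheme.{u})] (E : DerivedCategory (ModSite.Mod X.sheaf)) (p : ℤ) :
    (SiteCmp.inD X.sheaf (ModSite.freeOn X.sheaf U) ⟶ E⟦p⟧) ≃
      (AffineCompl.O₀ (U : Scheme.{u}) ⟶ ((Rd U).obj E)⟦p⟧) :=
  ((((DerivedCategory.singleFunctor (ModSite.Mod X.sheaf) 0).mapIso
      (eqToIso (congrArg (ModSite.freeOn X.sheaf) U.ι_image_top.symm))).homFromEquiv).trans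
    (AdjGood.homEquiv (E₀ U) (Rd U) (adjE U) (tE U ⊤) E p).toEquiv.symm).trans
    ((DerivedCategory.singleFunctor (ModSite.Mod (U : Scheme.{u}).sheaf) 0).mapIso
      (AffineCompl.freeTop (U : Scheme.{u}))).homFromEquiv

end Groth.Agent.Lib.DerComp.AffineOpen
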