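import Groth.Prelude.Def_DerComp
import Groth.Agent.Lib.DerCat.SeqColim
import Groth.Agent.Lib.ModTensor.Flat
import Groth.Agent.Lib.ModTensor.ModSite
import Groth.Agent.Lib.SiteKFlat.Thms

/-!
# The module `O_s` and its internal hom
-/

set_option linter.style.haveILetI false

universe u

open CategoryTheory CategoryTheory.Limits Opposite MonoidalCategory

namespace Groth.Agent.Lib.DerComp.Away

open Groth.Agent.Lib.DerCat

variable {C : Type u} [SmallCategory C] {J : GrothendieckTopology C} {O : Sheaf J CommRingCat.{u}}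
  (s : _root_.DerComp.GSec O)

/-- The localisation. -/
noncomputable abbrev B : ModSite.Mod O := _root_.DerComp.locAway s (ModSite.unit O)

/-- The inclusions. -/
noncomputable def cmap (n : ℕ) : ModSite.unit O ⟶ B s :=
  Sigma.ι (fun _ : ℕ => ModSite.unit O) n ≫ cokernel.π _

lemma cmap_rel (n : ℕ) : cmap s n = _root_.DerComp.smulEnd s _ ≫ cmap s (n + 1) := by
  have h := Sigma.ι (fun _ : ℕ => ModSite.unit O) n ≫=
    cokernel.condition (_root_.DerComp.awayMap s (ModSite.unit O))
  rw [comp_zero, ← Category.assoc] at h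
  rw [show Sigma.ι (fun _ : ℕ => ModSite.unit O) n ≫ _root_.DerComp.awayMap s (ModSite.unit O) =
    Sigma.ι (fun _ : ℕ => ModSite.unit O) n -
      _root_.DerComp.smulEnd s _ ≫ Sigma.ι (fun _ : ℕ => ModSite.unit O) (n + 1) from
    Sigma.ι_desc _ _, Preadditive.sub_comp, sub_eq_zero, Category.assoc] at h
  exact h

/-- The sequence. -/
noncomputable abbrev seq : ℕ ⥤ ModSite.Mod O :=
  Functor.ofSequence (X := fun _ => ModSite.unit O) fun _ => _root_.DerComp.smulEnd s _

/-- `O_s` is flat. -/
theorem isFlat_away : ModSite.IsFlat (B s) := by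
  haveI : HasExactColimitsOfShape ℕ (ModSite.Mod O) := inferInstance
  obtain ⟨w, hS⟩ := SeqColim.shortExact_coproduct_colimit (seq s)
  have e : _root_.DerComp.awayMap s (ModSite.unit O) = 𝟙 _ - SeqColim.sh (seq s) := by
    apply Sigma.hom_ext
    intro n
    refine (Sigma.ι_desc _ n).trans (Eq.trans ?_
      (Preadditive.comp_sub (Sigma.ι (seq s).obj n) (𝟙 _) (SeqColim.sh (seq s))).symm)
    refine congrArg₂ (· - ·) (Category.comp_id _).symm ?_
    rw [SeqColim.ι_sh, Functor.ofSequence_map_homOfLE_succ]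
    rfl
  let φ : B s ≅ colimit (seq s) :=
    cokernelIsoOfEq e ≪≫ (cokernelIsCokernel _).coconePointUniqueUpToIso hS.gIsCokernel
  haveI : ∀ M : ModSite.Mod O, PreservesColimitsOfShape ℕ ((ModSite.tensorBi O).obj M) := fun M =>
    haveI := preservesSmallestColimits_of_preservesColimits ((ModSite.tensorBi O).obj M)
    inferInstance
  exact ModTensor.Flat.isFlat_of_iso O φ.symm (ModTensor.Flat.isFlat_of_isColimit O
    (fun M => inferInstance) (seq s) (fun _ => ModTensor.Flat.isFlat_unit O) _
    (colimit.isColimit (seq s)))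

set_option backward.isDefEq.respectTransparency false in
/-- Multiplication by `s` passes to tensor products. -/
lemma smulEnd_tensor (X Y : ModSite.Mod O) :
    ((ModSite.tensorBi O).obj X).map (_root_.DerComp.smulEnd s Y) =
      _root_.DerComp.smulEnd s (((ModSite.tensorBi O).obj X).obj Y) := by
  let adj := PresheafOfModules.sheafificationAdjunction.{u} (𝟙 (ModSite.ringSh O).obj)
  apply (adj.homEquiv _ _).injective
  rw [Adjunction.homEquiv_unit, Adjunction.homEquiv_unit]
  refine (adj.unit.naturality _).symm.trans ?_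
  refine PresheafOfModules.hom_ext fun U => ModuleCat.hom_ext (LinearMap.ext fun x => ?_)
  refine ((congrArg _ ?_).trans
    (((adj.unit.app _).app U).hom.map_smul (_root_.DerComp.GSec.val' s U) x)).trans ?_
  rotate_left
  · rfl
  · letI : Module (O.obj.obj U) (X.val.obj U) := inferInstanceAs (Module ((O.obj ⋙ forget₂ CommRingCat RingCat).obj U) (X.val.obj U))
    letI : Module (O.obj.obj U) (Y.val.obj U) := inferInstanceAs (Module ((O.obj ⋙ forget₂ CommRingCat RingCat).obj U) (Y.val.obj U))
    induction x using TensorProduct.induction_on with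
    | zero => exact (map_zero _).trans (smul_zero (A := TensorProduct (O.obj.obj U) (X.val.obj U) (Y.val.obj U)) (show O.obj.obj U from s.1 U.unop)).symm
    | tmul a b => exact TensorProduct.tmul_smul (R := O.obj.obj U) (show O.obj.obj U from s.1 U.unop) a b
    | add a b ha hb => exact (map_add _ a b).trans ((congrArg₂ (· + ·) ha hb).trans (smul_add (A := TensorProduct (O.obj.obj U) (X.val.obj U) (Y.val.obj U)) (show O.obj.obj U from s.1 U.unop) a b).symm)

/-- The inclusions, on tensor products. -/
noncomputable def τ (n : ℕ) : 𝟭 (ModSite.Mod O) ⟶ (ModSite.tensorBi O).flip.obj (B s) :=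
  ModTensor.ModSite.flipUnitIso.inv ≫ (ModSite.tensorBi O).flip.map (cmap s n)

lemma τ_rel (n : ℕ) (X : ModSite.Mod O) :
    (τ s n).app X = _root_.DerComp.smulEnd s X ≫ (τ s (n + 1)).app X := by
  simp only [τ, NatTrans.comp_app]
  rw [← Category.assoc, _root_.DerComp.smulEnd_comm, Category.assoc]
  refine congrArg (ModTensor.ModSite.flipUnitIso.inv.app X ≫ ·) ?_
  change ((ModSite.tensorBi O).obj X).map (cmap s n) = _
  rw [cmap_rel, Functor.map_comp, smulEnd_tensor]
  rfl

/-- The universal property of `X ⊗ O_s`. -/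
theorem existsUnique_desc (X I : ModSite.Mod O) (x : ℕ → (X ⟶ I))
    (hx : ∀ n, x n = _root_.DerComp.smulEnd s X ≫ x (n + 1)) :
    ∃! ψ : ((ModSite.tensorBi O).flip.obj (B s)).obj X ⟶ I, ∀ n, (τ s n).app X ≫ ψ = x n := by
  let G := (ModSite.tensorBi O).obj X
  haveI : ((ModSite.tensorBi O).flip.obj X).IsLeftAdjoint := ModTensor.ModSite.hasSheafHom X
  haveI : G.IsLeftAdjoint :=
    Functor.isLeftAdjoint_of_iso (ModTensor.ModSite.flipObjIso X)
  let adj := Adjunction.ofIsLeftAdjoint G
  let u := ModTensor.ModSite.flipUnitIso (O := O)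
  let y : ℕ → (ModSite.unit O ⟶ G.rightAdjoint.obj I) := fun n =>
    adj.homEquiv _ _ (u.hom.app X ≫ x n)
  have hy : ∀ n, y n = _root_.DerComp.smulEnd s _ ≫ y (n + 1) := fun n => by
    simp only [y]
    rw [← Adjunction.homEquiv_naturality_left]
    refine congrArg (adj.homEquiv _ _) ?_
    rw [hx n, ← Category.assoc, ← Category.assoc, smulEnd_tensor]
    exact congrArg (· ≫ x (n + 1)) (_root_.DerComp.smulEnd_comm s (u.hom.app X)).symm
  let ψ' : B s ⟶ G.rightAdjoint.obj I := cokernel.desc _ (Sigma.desc y) (by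
    refine Sigma.hom_ext _ _ fun n => ?_
    rw [comp_zero, ← Category.assoc]
    refine (congrArg (· ≫ Sigma.desc y) (Sigma.ι_desc _ n)).trans ?_
    rw [Preadditive.sub_comp, Category.assoc, Sigma.ι_desc, Sigma.ι_desc, ← hy, sub_self])
  have hψ' : ∀ n, cmap s n ≫ ψ' = y n := fun n => by
    rw [cmap, Category.assoc, cokernel.π_desc, Sigma.ι_desc]
  refine ⟨(adj.homEquiv _ _).symm ψ', fun n => ?_, fun φ hφ => ?_⟩
  · simp only [τ, NatTrans.comp_app, Category.assoc]
    refine (Iso.inv_comp_eq (u.app X)).2 ?_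
    apply (adj.homEquiv _ _).injective
    refine (adj.homEquiv_naturality_left _ _).trans ?_
    rw [Equiv.apply_symm_apply]
    exact hψ' n
  · apply (adj.homEquiv _ _).injective
    rw [Equiv.apply_symm_apply]
    refine coequalizer.hom_ext (Sigma.hom_ext _ _ fun n => ?_)
    rw [← Category.assoc, ← Category.assoc]
    refine Eq.trans ?_ (hψ' n).symm
    refine (adj.homEquiv_naturality_left (cmap s n) φ).symm.trans (congrArg (adj.homEquiv _ _) ?_)
    rw [← hφ n]
    simp only [τ, NatTrans.comp_app, Category.assoc]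
    exact ((Iso.hom_inv_id_assoc (u.app X) _)).symm

end Groth.Agent.Lib.DerComp.Away
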