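import Groth.Agent.Lib.DerComp.AffineCompl

/-!
# Derived completeness of morphism groups on a ringed site
-/

set_option linter.style.haveILetI false
set_option linter.unusedSectionVars false

universe u

open CategoryTheory CategoryTheory.Limits Opposite Pretriangulated
attribute [local instance] HasDerivedCategory.standard

namespace Groth.Agent.Lib.DerComp.DCHom

open Groth.Agent.Lib Groth.Agent.Lib.DerCat Crit NilpTest Kos KosTest DR.DComp

section Five

variable {A : Type*} [CommRing A] {M₁ M₂ M₃ M₄ M₅ : Type*} [AddCommGroup M₁] [Module A M₁]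
  [AddCommGroup M₂] [Module A M₂] [AddCommGroup M₃] [Module A M₃] [AddCommGroup M₄] [Module A M₄]
  [AddCommGroup M₅] [Module A M₅]

lemma exact_compLeft (f : M₁ →ₗ[A] M₂) (g : M₂ →ₗ[A] M₃) (h : Function.Exact f g) :
    Function.Exact (f.compLeft ℕ) (g.compLeft ℕ) := fun y => by
  constructor
  · intro hy
    choose x hx using fun k => (h (y k)).1 (congrFun hy k)
    exact ⟨x, funext hx⟩
  · rintro ⟨x, rfl⟩
    exact funext fun k => (h (f (x k))).2 ⟨x k, rfl⟩

lemma phi_compLeft (a : A) (f : M₁ →ₗ[A] M₂) :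
    (f.compLeft ℕ) ∘ₗ phi (LinearMap.lsmul A M₁ a) =
      phi (LinearMap.lsmul A M₂ a) ∘ₗ (f.compLeft ℕ) := by
  refine LinearMap.ext fun x => funext fun k => ?_
  simp

/-- The middle term of a five-term exact sequence. -/
theorem dc_mid (a : A) {f₁ : M₁ →ₗ[A] M₂} {f₂ : M₂ →ₗ[A] M₃} {f₃ : M₃ →ₗ[A] M₄} {f₄ : M₄ →ₗ[A] M₅}
    (e₁ : Function.Exact f₁ f₂) (e₂ : Function.Exact f₂ f₃) (e₃ : Function.Exact f₃ f₄)
    (h₁ : DC a M₁) (h₂ : DC a M₂) (h₄ : DC a M₄) (h₅ : DC a M₅) : DC a M₃ :=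
  LinearMap.bijective_of_surjective_of_bijective_of_bijective_of_injective
    (f₁.compLeft ℕ) (f₂.compLeft ℕ) (f₃.compLeft ℕ) (f₄.compLeft ℕ)
    (f₁.compLeft ℕ) (f₂.compLeft ℕ) (f₃.compLeft ℕ) (f₄.compLeft ℕ)
    (phi (LinearMap.lsmul A M₁ a)) (phi (LinearMap.lsmul A M₂ a)) (phi (LinearMap.lsmul A M₃ a))
    (phi (LinearMap.lsmul A M₄ a)) (phi (LinearMap.lsmul A M₅ a))
    (phi_compLeft a f₁) (phi_compLeft a f₂) (phi_compLeft a f₃) (phi_compLeft a f₄)
    (exact_compLeft _ _ e₁) (exact_compLeft _ _ e₂) (exact_compLeft _ _ e₃)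
    (exact_compLeft _ _ e₁) (exact_compLeft _ _ e₂) (exact_compLeft _ _ e₃)
    h₁.2 h₂ h₄ h₅.1

end Five

variable {C : Type u} [SmallCategory C] {J : GrothendieckTopology C} {O : Sheaf J CommRingCat.{u}}

/-- All morphisms into complete objects form complete groups. -/
theorem dc_hom {I : _root_.DerComp.IdealSh O} (g : _root_.DerComp.GSec O) (hg : ∀ U, g.1 U ∈ I.ideal U)
    {E : DerivedCategory (ModSite.Mod O)} (hE : _root_.DerComp.IsDerComp O I E)
    (W : DerivedCategory (ModSite.Mod O)) (n : ℤ) : DC g (W ⟶ E⟦n⟧) := by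
  haveI : (DerivedCategory.Qh (C := ModSite.Mod O)).IsLeftAdjoint := inferInstance
  haveI : HasLimitsOfShape (Discrete ℕ) (DerivedCategory (ModSite.Mod O)) :=
    HProd.hasLimitsOfShape_derivedCategory
  let P := ∏ᶜ fun _ : ℕ => E
  let d : P ⟶ P := Pi.lift fun k => Pi.π (fun _ : ℕ => E) k - Pi.π (fun _ : ℕ => E) (k + 1) ≫ (g • 𝟙 E)
  have hP : ∀ (X : DerivedCategory (ModSite.Mod O)) (m : ℤ),
      Function.Bijective (fun (χ : X ⟶ P⟦m⟧) (k : ℕ) => χ ≫ (Pi.π (fun _ : ℕ => E) k)⟦m⟧') := by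
    intro X m
    let hl := isLimitFanMkObjOfIsLimit (shiftFunctor (DerivedCategory (ModSite.Mod O)) m)
      (fun _ : ℕ => E) _ (productIsProduct fun _ : ℕ => E)
    exact ⟨fun a b e => Fan.IsLimit.hom_ext hl _ _ fun k => congrFun e k,
      fun y => ⟨Fan.IsLimit.lift hl y, funext fun k => Fan.IsLimit.fac hl y k⟩⟩
  have key : ∀ (X : DerivedCategory (ModSite.Mod O)) (m : ℤ),
      Function.Bijective (fun χ : X ⟶ P⟦m⟧ => χ ≫ d⟦m⟧') ↔
        Function.Bijective (fun (x : ℕ → (X ⟶ E⟦m⟧)) k => x k - g • x (k + 1)) := by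
    intro X m
    let e := Equiv.ofBijective _ (hP X m)
    rw [← Equiv.comp_bijective (e := e), ← Equiv.bijective_comp e
      (fun (x : ℕ → (X ⟶ E⟦m⟧)) k => x k - g • x (k + 1))]
    refine Iff.of_eq (congrArg Function.Bijective (funext fun χ => funext fun k => ?_))
    change (χ ≫ d⟦m⟧') ≫ (Pi.π (fun _ : ℕ => E) k)⟦m⟧' =
      χ ≫ (Pi.π (fun _ : ℕ => E) k)⟦m⟧' - g • (χ ≫ (Pi.π (fun _ : ℕ => E) (k + 1))⟦m⟧')
    rw [Category.assoc, ← Functor.map_comp, Pi.lift_π, Functor.map_sub, Preadditive.comp_sub,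
      Linear.comp_smul, Category.comp_id, Functor.map_smul, Linear.comp_smul]
  obtain ⟨L, a, c, hT⟩ := Pretriangulated.distinguished_cocone_triangle₁ d
  let G : {V : C // V ∈ (Set.univ : Set C)} → ModSite.Mod O := fun V => ModSite.freeOn O (V : C)
  have hG : ObjectProperty.IsSeparating (ObjectProperty.ofObj G) :=
    ExtZero.Restr.isSeparating_freeOn Set.univ fun X =>
      ⟨PUnit.{u + 1}, fun _ => X, fun _ => 𝟙 X, J.superset_covering
        (fun Y k _ => by simpa using Sieve.ofArrows_mk (fun _ : PUnit.{u + 1} => X) (fun _ => 𝟙 X) ⟨⟩ |>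
          fun h => (Sieve.ofArrows (fun _ : PUnit.{u + 1} => X) fun _ => 𝟙 X).downward_closed h k)
        (J.top_mem X), fun _ => Set.mem_univ _⟩
  have hL : IsZero L := TriVan.isZero_of_separating G hG L fun V m =>
    TriVan.subsingleton_fibre hT _ (fun m => (key _ m).2 (by
      have h := (van_iff_good O E (V : C) (g.1 V)).1 (hE (V : C) _ (hg V)) m
      have e : (fun (x : ℕ → (SiteCmp.inD O (ModSite.freeOn O (V : C)) ⟶ E⟦m⟧)) k => x k - g • x (k + 1)) =
          Tele.Φ (act O E (V : C) (g.1 V) m) := funext fun x => funext fun k => by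
        rw [Tele.Φ_apply, AffineCompl.act_eq_smul]
      change Function.Bijective (fun (x : ℕ → (SiteCmp.inD O (ModSite.freeOn O (V : C)) ⟶ E⟦m⟧)) k =>
        x k - g • x (k + 1))
      rw [e]
      exact h)) m
  haveI : IsIso d := (Pretriangulated.Triangle.isZero₁_iff_isIso₂ _ hT).1 hL
  exact (key _ n).1 ⟨fun a b e => (cancel_mono (d⟦n⟧')).1 e, fun χ => ⟨χ ≫ inv (d⟦n⟧'), by simp⟩⟩

variable (g : _root_.DerComp.GSec O)

/-- Complete groups of morphisms into the first two terms give one for the third. -/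
theorem dc_obj₃ {T : Triangle (DerivedCategory (ModSite.Mod O))} (hT : T ∈ distinguishedTriangles)
    (W : DerivedCategory (ModSite.Mod O))
    (h₁ : ∀ n : ℤ, DC g (W ⟶ T.obj₁⟦n⟧)) (h₂ : ∀ n : ℤ, DC g (W ⟶ T.obj₂⟦n⟧)) (n : ℤ) :
    DC g (W ⟶ T.obj₃⟦n⟧) := by
  let T' := (Triangle.shiftFunctor _ n).obj T
  have hT' : T' ∈ distinguishedTriangles := Triangle.shift_distinguished _ hT n
  let r := fun {X Y : DerivedCategory (ModSite.Mod O)} (f : X ⟶ Y) =>
    Linear.rightComp (_root_.DerComp.GSec O) W f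
  have ex : ∀ (S : Triangle (DerivedCategory (ModSite.Mod O))), S ∈ distinguishedTriangles →
      Function.Exact (r S.mor₁) (r S.mor₂) := fun S hS x => by
    constructor
    · intro hx
      obtain ⟨y, hy⟩ := S.coyoneda_exact₂ hS x hx
      exact ⟨y, hy.symm⟩
    · rintro ⟨y, rfl⟩
      change (y ≫ S.mor₁) ≫ S.mor₂ = 0
      rw [Category.assoc, comp_distTriang_mor_zero₁₂ _ hS, comp_zero]
  have hr := rot_of_distTriang _ hT'
  refine dc_mid g (ex T' hT') (ex _ hr) (ex _ (rot_of_distTriang _ hr)) (h₁ n) (h₂ n) ?_ ?_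
  · exact (h₁ (n + 1)).congr (Linear.homCongr (_root_.DerComp.GSec O) (Iso.refl W)
      ((shiftFunctorAdd (DerivedCategory (ModSite.Mod O)) n 1).app T.obj₁))
  · exact (h₂ (n + 1)).congr (Linear.homCongr (_root_.DerComp.GSec O) (Iso.refl W)
      ((shiftFunctorAdd (DerivedCategory (ModSite.Mod O)) n 1).app T.obj₂))

variable {g} (Cn : DerivedCategory (ModSite.Mod O))

/-- Complete groups out of a complex give complete groups out of a cone of a multiplication. -/
theorem dc_cone (t : _root_.DerComp.GSec O) (X : CochainComplex (ModSite.Mod O) ℤ)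
    (h : ∀ n : ℤ, DC g (DerivedCategory.Q.obj X ⟶ Cn⟦n⟧)) (n : ℤ) :
    DC g (DerivedCategory.Q.obj (CochainComplex.mappingCone (t • 𝟙 X)) ⟶ Cn⟦n⟧) := by
  obtain ⟨a, b, hT⟩ := exists_triangle t X
  let T := Triangle.mk (t • 𝟙 (DerivedCategory.Q.obj X)) a b
  let l := fun {X Y : DerivedCategory (ModSite.Mod O)} (f : X ⟶ Y) =>
    Linear.leftComp (_root_.DerComp.GSec O) (Cn⟦n⟧) f
  have ex : ∀ (S : Triangle (DerivedCategory (ModSite.Mod O))), S ∈ distinguishedTriangles →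
      Function.Exact (l S.mor₂) (l S.mor₁) := fun S hS x => by
    constructor
    · intro hx
      obtain ⟨y, hy⟩ := S.yoneda_exact₂ hS x hx
      exact ⟨y, hy.symm⟩
    · rintro ⟨y, rfl⟩
      change S.mor₁ ≫ S.mor₂ ≫ y = 0
      rw [← Category.assoc, comp_distTriang_mor_zero₁₂ _ hS, zero_comp]
  have hr := rot_of_distTriang _ hT
  have hX : DC g ((DerivedCategory.Q.obj X)⟦(1 : ℤ)⟧ ⟶ Cn⟦n⟧) := by
    let eC := Linear.homCongr (_root_.DerComp.GSec O) (Iso.refl ((DerivedCategory.Q.obj X)⟦(1 : ℤ)⟧))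
      (((shiftFunctorAdd' (DerivedCategory (ModSite.Mod O)) (n - 1) 1 n (by omega)).app Cn).symm)
    let φ : (DerivedCategory.Q.obj X ⟶ Cn⟦n - 1⟧) →ₗ[_root_.DerComp.GSec O]
        ((DerivedCategory.Q.obj X)⟦(1 : ℤ)⟧ ⟶ Cn⟦n⟧) :=
      eC.toLinearMap ∘ₗ
        (shiftFunctor (DerivedCategory (ModSite.Mod O)) (1 : ℤ)).mapLinearMap (_root_.DerComp.GSec O)
    refine (h (n - 1)).congr (LinearEquiv.ofBijective φ ?_)
    exact eC.bijective.comp
      ⟨(shiftFunctor (DerivedCategory (ModSite.Mod O)) (1 : ℤ)).map_injective,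
        (shiftFunctor (DerivedCategory (ModSite.Mod O)) (1 : ℤ)).map_surjective⟩
  exact dc_mid g (ex _ (rot_of_distTriang _ hr)) (ex _ hr) (ex T hT) hX hX (h n) (h n)

/-- Complete groups killed by the Koszul test vanish. -/
theorem subsingleton_of_dc {ι : Type*} (s : ι → _root_.DerComp.GSec O) :
    ∀ (l : List ι) (X : CochainComplex (ModSite.Mod O) ℤ),
      (∀ i, ∀ n : ℤ, DC (s i) (DerivedCategory.Q.obj X ⟶ Cn⟦n⟧)) →
      (∀ n : ℤ, Subsingleton (DerivedCategory.Q.obj (kos s l X) ⟶ Cn⟦n⟧)) →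
      ∀ n : ℤ, Subsingleton (DerivedCategory.Q.obj X ⟶ Cn⟦n⟧)
  | [], _, _, h, n => h n
  | i :: l, X, hdc, h, n => by
    obtain ⟨a, b, hT⟩ := exists_triangle (s i) X
    have h' := subsingleton_of_dc s l _ (fun j => dc_cone Cn (s i) X (hdc j)) h
    have hb := (TriVan.subsingleton_iff_bijective hT Cn).1 h' n
    refine subsingleton_of_surjective (hdc i n).1 fun y => ?_
    obtain ⟨x, hx⟩ : ∃ x : DerivedCategory.Q.obj X ⟶ Cn⟦n⟧, (s i • 𝟙 (DerivedCategory.Q.obj X)) ≫ x = y :=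
      hb.2 y
    refine ⟨x, ?_⟩
    rw [← hx, Linear.smul_comp, Category.id_comp]
    rfl

end Groth.Agent.Lib.DerComp.DCHom
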