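import Groth.Prelude.Def_DerComp
import Groth.Agent.Lib.RMorLocal.Mono
import Groth.Agent.Lib.ExtZero.Restr

/-!
# Extension of scalars along a map of sheaves of rings is the tensor product
-/

set_option linter.style.haveILetI false

universe u

open CategoryTheory CategoryTheory.Limits Opposite MonoidalCategory TensorProduct

namespace Groth.Agent.Lib.DerComp.ExtScalar

open Groth.Agent.Lib.ModTensor.Local Groth.Agent.Lib.RMorLocal Groth.Agent.Lib.RMorLocal.Pull
  Groth.Agent.Lib.RMorLocal.Kill Groth.Agent.Lib.ModTensor.Monoidal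

variable {C : Type u} [SmallCategory C] {J : GrothendieckTopology C}
  {O O' : Sheaf J CommRingCat.{u}} (φ : O ⟶ O')

/-- A map of sheaves of rings as a morphism of ringed sites. -/
noncomputable abbrev idMor : _root_.ModSite.RMor O' O where
  fn := 𝟭 C
  exact := (_root_.ModSite.RMor.id O).exact
  sharp := φ

/-- Restriction of scalars. -/
noncomputable abbrev RS : _root_.ModSite.Mod O' ⥤ _root_.ModSite.Mod O :=
  SheafOfModules.restrictScalars.{u} ((sheafCompose J (forget₂ CommRingCat.{u} RingCat.{u})).map φ)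

/-- Restriction of scalars is a direct image. -/
noncomputable def pushIso : (idMor φ).push ≅ RS φ :=
  NatIso.ofComponents (fun _ => Iso.refl _) (fun g => by cat_disch)

/-- Extension of scalars is left adjoint to restriction. -/
noncomputable def adjRS : (idMor φ).pull ⊣ RS φ := (idMor φ).adj.ofNatIsoRight (pushIso φ)

/-- The structure module. -/
noncomputable abbrev E : _root_.ModSite.Mod O := (RS φ).obj (_root_.ModSite.unit O')

/-- The structure map as a map of modules. -/
noncomputable def one : _root_.ModSite.unit O ⟶ E φ :=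
  ⟨PresheafOfModules.homMk
    { app := fun d => AddCommGrpCat.ofHom (φ.hom.app d).hom.toAddMonoidHom
      naturality := fun d d' g => by
        ext r
        exact congrArg (fun q => q.hom r) (φ.hom.naturality g) }
    (fun d r m => (φ.hom.app d).hom.map_mul r m)⟩

variable (X : _root_.ModSite.Mod O)

/-- An element of `O'(c)` as a section of the structure module. -/
noncomputable def eSec (c : C) : O'.obj.obj (op c) →+ ((G.{u, u, u} O).obj (E φ)).obj (op c) := AddMonoidHom.id _

/-- A section of the structure module as an element of `O'(c)`. -/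
noncomputable def eVal (c : C) : ((G.{u, u, u} O).obj (E φ)).obj (op c) →+ O'.obj.obj (op c) := AddMonoidHom.id _

lemma eVal_smul (c : C) (r : O.obj.obj (op c)) (a : ((G.{u, u, u} O).obj (E φ)).obj (op c)) :
    eVal φ c (r • a) = (φ.hom.app (op c)).hom r * eVal φ c a := rfl

lemma eSec_mul (c : C) (r : O.obj.obj (op c)) (a : O'.obj.obj (op c)) :
    eSec φ c ((φ.hom.app (op c)).hom r * a) = r • eSec φ c a := rfl

lemma res_eSec {c c' : C} (g : c' ⟶ c) (a : O'.obj.obj (op c)) :
    res (R := O.obj) ((G.{u, u, u} O).obj (E φ)) g.op (eSec φ c a) =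
      eSec φ c' ((O'.obj.map g.op).hom a) := rfl

lemma eVal_res {c c' : C} (g : c' ⟶ c) (a : ((G.{u, u, u} O).obj (E φ)).obj (op c)) :
    eVal φ c' (res (R := O.obj) ((G.{u, u, u} O).obj (E φ)) g.op a) =
      (O'.obj.map g.op).hom (eVal φ c a) := rfl

/-- The presheaf tensor product. -/
noncomputable abbrev PT : PM O := (G.{u, u, u} O).obj X ⊗ (G.{u, u, u} O).obj (E φ)

/-- The target. -/
noncomputable abbrev Tg : _root_.ModSite.Mod O := (RS φ).obj ((idMor φ).pull.obj X)

/-- A section of the inverse image as a section of the target. -/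
noncomputable def toTg (c : C) :
    (PMod (idMor φ) X).obj (op c) →+ ((G.{u, u, u} O).obj (Tg φ X)).obj (op c) :=
  AddMonoidHom.id _

lemma toTg_smul (c : C) (r : O.obj.obj (op c)) (m : (PMod (idMor φ) X).obj (op c)) :
    toTg φ X c ((φ.hom.app (op c)).hom r • m) = r • toTg φ X c m := rfl

lemma res_toTg {c c' : C} (g : c' ⟶ c) (m : (PMod (idMor φ) X).obj (op c)) :
    res (R := O.obj) ((G.{u, u, u} O).obj (Tg φ X)) g.op (toTg φ X c m) =
      toTg φ X c' (res (PMod (idMor φ) X) g.op m) := rfl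

/-- The unit on sections. -/
noncomputable def pm' (c : C) :
    ((G.{u, u, u} O).obj X).obj (op c) →+ (PMod (idMor φ) X).obj (op c) :=
  pm (idMor φ) X c

lemma pm'_smul (c : C) (r : O.obj.obj (op c)) (m : ((G.{u, u, u} O).obj X).obj (op c)) :
    pm' φ X c (r • m) = (φ.hom.app (op c)).hom r • pm' φ X c m :=
  pm_smul (idMor φ) X r m

lemma pm'_res {c c' : C} (g : c' ⟶ c) (m : ((G.{u, u, u} O).obj X).obj (op c)) :
    pm' φ X c' (res (R := O.obj) ((G.{u, u, u} O).obj X) g.op m) =
      res (PMod (idMor φ) X) g.op (pm' φ X c m) :=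
  pm_res (idMor φ) X g m

lemma tm_add_left {A B : PM O} {c : Cᵒᵖ} (a a' : A.obj c) (b : B.obj c) :
    tm A B (a + a') b = tm A B a b + tm A B a' b :=
  TensorProduct.add_tmul _ _ _

lemma tm_smul_left {A B : PM O} {c : Cᵒᵖ} (r : O.obj.obj c) (a : A.obj c) (b : B.obj c) :
    tm A B (r • a) b = r • tm A B a b :=
  (TensorProduct.smul_tmul' _ _ _).symm

lemma tm_smul_right {A B : PM O} {c : Cᵒᵖ} (r : O.obj.obj c) (a : A.obj c) (b : B.obj c) :
    tm A B a (r • b) = r • tm A B a b :=
  TensorProduct.tmul_smul _ _ _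

/-- `m ⊗ a ↦ a • m`. -/
noncomputable def θApp (c : C) :
    (PT φ X).obj (op c) →+ ((G.{u, u, u} O).obj (Tg φ X)).obj (op c) :=
  TensorProduct.liftAddHom
    (AddMonoidHom.mk'
      (fun m : ((G.{u, u, u} O).obj X).obj (op c) => AddMonoidHom.mk'
        (fun a => toTg φ X c (eVal φ c a • pm' φ X c m))
        (fun a a' => by rw [map_add, add_smul, map_add]))
      (fun m m' => by
        ext a
        change toTg φ X c (eVal φ c a • pm' φ X c (m + m')) = toTg φ X c (eVal φ c a • pm' φ X c m) +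
          toTg φ X c (eVal φ c a • pm' φ X c m')
        rw [map_add, smul_add, map_add]))
    (fun r m a => by
      simp only [AddMonoidHom.mk'_apply]
      refine congrArg (toTg φ X c) ?_
      refine (congrArg (eVal φ c a • ·) (pm'_smul φ X c r m)).trans ?_
      rw [smul_smul, mul_comm]
      exact (congrArg (· • pm' φ X c m) (eVal_smul φ c r a)).symm)

lemma θApp_tm {c : C} (m : ((G.{u, u, u} O).obj X).obj (op c))
    (a : ((G.{u, u, u} O).obj (E φ)).obj (op c)) :
    θApp φ X c (tm ((G.{u, u, u} O).obj X) ((G.{u, u, u} O).obj (E φ)) m a) =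
      toTg φ X c (eVal φ c a • pm' φ X c m) :=
  rfl

/-- The comparison on presheaves. -/
noncomputable def θPre : PT φ X ⟶ (G.{u, u, u} O).obj (Tg φ X) :=
  PresheafOfModules.homMk
    { app := fun c => AddCommGrpCat.ofHom (θApp φ X c.unop)
      naturality := fun c c' g => by
        ext z
        obtain ⟨k, a, b, rfl⟩ := exists_sum_tm (R := O.obj) (X := c) z
        change θApp φ X c'.unop (res (R := O.obj) (PT φ X) g (∑ i, tm _ _ (a i) (b i))) =
          res (R := O.obj) ((G.{u, u, u} O).obj (Tg φ X)) g.unop.op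
            (θApp φ X c.unop (∑ i, tm _ _ (a i) (b i)))
        simp only [map_sum, res_tm]
        refine Finset.sum_congr rfl fun i _ => ?_
        refine (θApp_tm φ X _ _).trans ?_
        rw [θApp_tm, res_toTg, res_smul]
        refine congrArg (toTg φ X c'.unop) ?_
        exact congrArg₂ (· • ·) (eVal_res φ g.unop (b i)) (pm'_res φ X g.unop (a i)) }
    (fun c r z => by
      obtain ⟨k, a, b, rfl⟩ := exists_sum_tm (R := O.obj) (X := c) z
      change θApp φ X c.unop (r • ∑ i, tm _ _ (a i) (b i)) =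
        (show O.obj.obj (op c.unop) from r) • θApp φ X c.unop (∑ i, tm _ _ (a i) (b i))
      simp only [Finset.smul_sum, map_sum]
      refine Finset.sum_congr rfl fun i _ => ?_
      refine (congrArg (θApp φ X c.unop) (TensorProduct.smul_tmul' r (a i) (b i))).trans ?_
      refine (θApp_tm φ X _ _).trans ?_
      rw [θApp_tm, ← toTg_smul]
      refine congrArg (toTg φ X c.unop) ?_
      refine (congrArg (eVal φ c.unop (b i) • ·) (pm'_smul φ X c.unop r (a i))).trans ?_
      rw [smul_smul, smul_smul, mul_comm])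

lemma θPre_app (c : C) (z : (PT φ X).obj (op c)) : (θPre φ X).app (op c) z = θApp φ X c z := rfl

variable {φ X}

/-- A tensor over the vertex of a cone as a tensor downstairs. -/
noncomputable def push {c d : C} (ψ : c ⟶ (idMor φ).fn.obj d) :
    Tgt (idMor φ) X ψ →+ (PT φ X).obj (op c) :=
  TensorProduct.liftAddHom
    (AddMonoidHom.mk'
      (fun m : _root_.ModSite.sect X d => AddMonoidHom.mk'
        (fun a : Ob (idMor φ) ψ => tm ((G.{u, u, u} O).obj X) ((G.{u, u, u} O).obj (E φ))
          (res (R := O.obj) X.val (show c ⟶ d from ψ).op m)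
          (eSec φ c (show O'.obj.obj (op c) from a)))
        (fun a a' => TensorProduct.tmul_add _ _ _))
      (fun m m' => by
        ext a
        change tm _ _ (res (R := O.obj) X.val (show c ⟶ d from ψ).op (m + m')) _ = _
        rw [map_add]
        exact tm_add_left _ _ _))
    (fun r m a => by
      simp only [AddMonoidHom.mk'_apply]
      rw [res_smul]
      refine ((tm_smul_left _ _ _).trans (tm_smul_right _ _ _).symm).trans ?_
      refine congrArg (tm ((G.{u, u, u} O).obj X) ((G.{u, u, u} O).obj (E φ))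
        (res (R := O.obj) X.val (show c ⟶ d from ψ).op m)) ?_
      refine (eSec_mul φ c _ _).symm.trans (congrArg (eSec φ c) ?_)
      change (φ.hom.app (op c)).hom ((O.obj.map (show c ⟶ d from ψ).op).hom r) *
          (show O'.obj.obj (op c) from a) = sh (idMor φ) ψ r * (show O'.obj.obj (op c) from a)
      refine congrArg (· * _) ?_
      exact congrArg (fun q => q.hom r) (φ.hom.naturality (show c ⟶ d from ψ).op))

variable (φ X)

theorem isLocallyInjective_θPre : PresheafOfModules.IsLocallyInjective J (θPre φ X) := by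
  classical
  refine ⟨fun {U} z z' hzz => ?_⟩
  suffices H : ∀ w : (PT φ X).obj U, (θPre φ X).app U w = 0 →
      ∃ T ∈ J U.unop, ∀ ⦃Y : C⦄ (g : Y ⟶ U.unop), T g → res (R := O.obj) (PT φ X) g.op w = 0 by
    obtain ⟨T, hT, h0⟩ := H (show (PT φ X).obj U from (z : (PT φ X).obj U) - z')
      ((map_sub ((θPre φ X).app U).hom _ _).trans (sub_eq_zero.2 hzz))
    refine J.superset_covering (fun Y g hg => ?_) hT
    exact sub_eq_zero.1 ((map_sub (res (R := O.obj) (PT φ X) g.op) _ _).symm.trans (h0 g hg))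
  intro w hw
  obtain ⟨n, a, b, rfl⟩ := exists_sum_tm (R := O.obj) (X := U) w
  let Good : Sieve U.unop :=
    Presheaf.equalizerSieve (F := (PT φ X).presheaf) (∑ i, tm _ _ (a i) (b i)) (0 : (PT φ X).obj U)
  refine ⟨Good, ?_, fun Y g hg =>
    (show res (R := O.obj) (PT φ X) g.op _ = res (R := O.obj) (PT φ X) g.op 0 from hg).trans
      (map_zero _)⟩
  rcases Nat.eq_zero_or_pos n with rfl | hn
  · refine J.superset_covering (fun Y g _ => ?_) (J.top_mem _)
    change res (R := O.obj) (PT φ X) g.op _ = res (R := O.obj) (PT φ X) g.op 0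
    rw [Finset.univ_eq_empty, Finset.sum_empty]
    rfl
  let β : Fin n → O'.obj.obj (op U.unop) := fun i => eVal φ U.unop (b i)
  let idU : U.unop ⟶ (idMor φ).fn.obj U.unop := 𝟙 U.unop
  let z₀ : (Fr (idMor φ) X).obj (op U.unop) :=
    ∑ i, β i • Pull.b (idMor φ) X (c := op U.unop) idU (a i)
  have hz₀ : (eps (idMor φ) X).app (op U.unop) z₀ = 0 := by
    refine Eq.trans ?_ (show θApp φ X U.unop (∑ i, tm _ _ (a i) (b i)) = 0 from hw)
    rw [map_sum, map_sum]
    refine Finset.sum_congr rfl fun i _ => ?_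
    refine (((eps (idMor φ) X).app (op U.unop)).hom.map_smul _ _).trans ?_
    refine (congrArg (β i • ·) (eps_b (idMor φ) X (c := op U.unop) idU (a i))).trans ?_
    refine (congrArg (β i • ·) ?_).trans (θApp_tm φ X (a i) (b i)).symm
    exact congrArg (fun q => q (pm' φ X U.unop (a i)))
      ((PMod (idMor φ) X).presheaf.map_id _)
  haveI := (idMor φ).exact
  obtain ⟨S, hS, hspan⟩ := exists_cover_span (idMor φ) X hz₀
  refine J.transitive hS _ fun Y g hg => ?_
  obtain ⟨P₀, E₀, hkill⟩ := killed_of_mem_span (hspan g hg)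
  let pr : Cone.Pr (idMor φ).fn Y := ⟨U.unop, g ≫ idU⟩
  let P : Finset (Cone.Pr (idMor φ).fn Y) := insert pr P₀
  refine J.transitive (Cone.coneSieve_mem (J := J) J (idMor φ).fn P (Finset.insert_nonempty _ _) E₀) _
    fun c' h hh => ?_
  obtain ⟨x⟩ := hh
  refine J.superset_covering (fun c'' k _ => ?_) (J.top_mem c')
  change Good ((k ≫ h) ≫ g)
  rw [Category.assoc]
  refine Good.downward_closed ?_ k
  change res (R := O.obj) (PT φ X) (h ≫ g).op _ = res (R := O.obj) (PT φ X) (h ≫ g).op 0
  rw [map_zero]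
  refine (map_sum _ _ _).trans ?_
  have hpr : pr ∈ P := Finset.mem_insert_self _ _
  have e : res (Fr (idMor φ) X) g.op z₀ = ∑ i, (O'.obj.map g.op).hom (β i) •
      Pull.b (idMor φ) X (c := op Y) pr.2 (a i) := by
    simp only [z₀, map_sum, res_smul, res_b]
    rfl
  have h0 := congrArg (push x.ψ) (hkill P (Finset.subset_insert _ _) E₀ (Finset.Subset.refl _) h x)
  rw [map_zero, e, map_sum, map_sum] at h0
  refine Eq.trans (Finset.sum_congr rfl fun i _ => ?_) h0
  rw [phi_smul_b x pr.2 hpr]
  refine (res_tm (R := O.obj) _ _ _ _ _).trans ?_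
  change tm _ _ _ _ = tm _ _ (res (R := O.obj) X.val (show c' ⟶ x.d from x.ψ).op
    (res (R := O.obj) X.val (x.π pr hpr).op (a i))) (eSec φ c' _)
  refine congrArg₂ (tm _ _) ?_ ?_
  · rw [← res_comp, ← op_comp]
    have hπ : (show c' ⟶ x.d from x.ψ) ≫ x.π pr hpr = h ≫ g := by
      have := x.hπ pr hpr
      exact this.trans (congrArg (h ≫ ·) (Category.comp_id g))
    rw [hπ]
    rfl
  · change (O'.obj.map (h ≫ g).op).hom (β i) = (O'.obj.map h.op).hom ((O'.obj.map g.op).hom (β i))
    rw [op_comp, Functor.map_comp]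
    rfl

theorem isLocallySurjective_θPre : PresheafOfModules.IsLocallySurjective J (θPre φ X) := by
  classical
  refine ⟨fun {c} s => ?_⟩
  obtain ⟨S, hS, H⟩ := exists_cover_eps (idMor φ) X (c := c)
    (fun _ : Fin 1 => (show (PMod (idMor φ) X).obj (op c) from s))
  refine J.superset_covering (fun c' g hg => ?_) hS
  obtain ⟨z, hz⟩ := H g hg
  obtain ⟨N, x, α, hα⟩ := Flat.exists_common_support z
  refine ⟨∑ i, tm _ _ (res (R := O.obj) X.val (X := op (x i).1.1) (Y := op c') (x i).1.2.op (x i).2)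
    (eSec φ c' (α 0 i)), ?_⟩
  change θApp φ X c' _ = toTg φ X c' (res (PMod (idMor φ) X) g.op
    (show (PMod (idMor φ) X).obj (op c) from s))
  rw [← hz 0, hα 0]
  refine (map_sum (θApp φ X c') _ _).trans ?_
  refine Eq.trans (Finset.sum_congr rfl fun i _ => ?_) (map_sum ((toTg φ X c').comp
    ((eps (idMor φ) X).app (op c')).hom.toAddMonoidHom) _ _).symm
  rw [θApp_tm]
  refine congrArg (toTg φ X c') ?_
  refine Eq.trans ?_ (((eps (idMor φ) X).app (op c')).hom.map_smul _ _).symm
  refine congrArg (α 0 i • ·) ?_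
  refine Eq.trans ?_ (eps_b (idMor φ) X (c := op c') (x i).1.2 (x i).2).symm
  exact pm'_res φ X _ _

variable {X}

lemma θPre_nat {X' : _root_.ModSite.Mod O} (q : X ⟶ X') :
    ((G.{u, u, u} O).map q ▷ (G.{u, u, u} O).obj (E φ)) ≫ θPre φ X' =
      θPre φ X ≫ (G.{u, u, u} O).map ((RS φ).map ((idMor φ).pull.map q)) := by
  refine PresheafOfModules.hom_ext fun c => ModuleCat.hom_ext (LinearMap.ext fun z => ?_)
  obtain ⟨k, a, b, rfl⟩ := exists_sum_tm (R := O.obj) (X := c) z
  refine (map_sum _ _ _).trans ((Finset.sum_congr rfl fun i _ => ?_).trans (map_sum _ _ _).symm)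
  change θApp φ X' c.unop (tm _ _ ((G.{u, u, u} O).map q |>.app c (a i)) (b i)) =
    ((RS φ).map ((idMor φ).pull.map q)).val.app c (θApp φ X c.unop (tm _ _ (a i) (b i)))
  rw [θApp_tm]
  refine Eq.trans ?_ ((((idMor φ).pull.map q).val.app c).hom.map_smul _ _).symm
  refine congrArg (fun t : (PMod (idMor φ) X').obj (op c.unop) => eVal φ c.unop (b i) • t) ?_
  exact congrArg (fun r => r.val.app c (a i)) ((idMor φ).adj.unit.naturality q)

instance isIso_L_θPre : IsIso ((L.{u, u, u} O).map (θPre φ X)) :=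
  (isIso_map_iff.{u, u, u} (O := O) _).2
    ⟨isLocallyInjective_θPre φ X, isLocallySurjective_θPre φ X⟩

/-- Extension of scalars is the tensor product with the structure module. -/
noncomputable def θ : (_root_.ModSite.tensorBi O).flip.obj (E φ) ≅ (idMor φ).pull ⋙ RS φ :=
  NatIso.ofComponents (fun X => @asIso _ _ _ _ ((L.{u, u, u} O).map (θPre φ X)) (isIso_L_θPre φ) ≪≫
      (counitIso.{u, u, u} O).app (Tg φ X)) fun {X X'} q => by
    change (L.{u, u, u} O).map ((G.{u, u, u} O).map q ▷ (G.{u, u, u} O).obj (E φ)) ≫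
        (L.{u, u, u} O).map (θPre φ X') ≫ (counitIso.{u, u, u} O).hom.app (Tg φ X') =
      ((L.{u, u, u} O).map (θPre φ X) ≫ (counitIso.{u, u, u} O).hom.app (Tg φ X)) ≫
        (RS φ).map ((idMor φ).pull.map q)
    rw [← Functor.map_comp_assoc, θPre_nat, Functor.map_comp_assoc, Category.assoc]
    exact congrArg _ ((counitIso.{u, u, u} O).hom.naturality ((RS φ).map ((idMor φ).pull.map q)))

theorem preservesFiniteLimits_pull (hflat : _root_.ModSite.IsFlat (E φ))
    [PreservesFiniteLimits (RS φ)] [PreservesFiniteColimits (RS φ)] :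
    PreservesFiniteLimits (idMor φ).pull := by
  haveI := hflat.1
  haveI : PreservesFiniteLimits ((idMor φ).pull ⋙ RS φ) := preservesFiniteLimits_of_natIso (θ φ)
  haveI : (RS φ).Faithful := ⟨fun h => SheafOfModules.hom_ext
    ((PresheafOfModules.restrictScalars _).map_injective (congrArg SheafOfModules.Hom.val h))⟩
  haveI : (RS φ).ReflectsIsomorphisms :=
    reflectsIsomorphisms_of_reflectsMonomorphisms_of_reflectsEpimorphisms _
  haveI : ReflectsFiniteLimits (RS φ) := ⟨fun K _ _ => reflectsLimitsOfShape_of_reflectsIsomorphisms⟩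
  exact preservesFiniteLimits_of_reflects_of_preserves _ (RS φ)

/-- `x ↦ x ⊗ e 1` on presheaves. -/
noncomputable def ηP {F : _root_.ModSite.Mod O} (e : _root_.ModSite.unit O ⟶ F)
    (M : _root_.ModSite.Mod O) :
    (G.{u, u, u} O).obj M ⟶ (G.{u, u, u} O).obj M ⊗ (G.{u, u, u} O).obj F :=
  (ρ_ ((G.{u, u, u} O).obj M)).inv ≫ (G.{u, u, u} O).obj M ◁ (G.{u, u, u} O).map e

/-- `x ↦ x ⊗ e 1`. -/
noncomputable def ηT {F : _root_.ModSite.Mod O} (e : _root_.ModSite.unit O ⟶ F) :
    𝟭 (_root_.ModSite.Mod O) ⟶ (_root_.ModSite.tensorBi O).flip.obj F where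
  app M := (counitIso.{u, u, u} O).inv.app M ≫ (L.{u, u, u} O).map (ηP e M)
  naturality M M' q := by
    change q ≫ (counitIso.{u, u, u} O).inv.app M' ≫ (L.{u, u, u} O).map (ηP e M') =
      ((counitIso.{u, u, u} O).inv.app M ≫ (L.{u, u, u} O).map (ηP e M)) ≫
        (L.{u, u, u} O).map ((G.{u, u, u} O).map q ▷ (G.{u, u, u} O).obj F)
    have h := (counitIso.{u, u, u} O).inv.naturality q
    refine (Category.assoc _ _ _).symm.trans ?_
    rw [show q ≫ (counitIso.{u, u, u} O).inv.app M' = _ from h]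
    simp only [Functor.comp_map, Category.assoc, ← Functor.map_comp]
    refine congrArg (fun z => _ ≫ (L.{u, u, u} O).map z) ?_
    simp only [ηP, Category.assoc]
    rw [whisker_exchange, ← Category.assoc, ← Category.assoc]
    refine congrArg (· ≫ _) ?_
    rw [← cancel_epi (ρ_ ((G.{u, u, u} O).obj M)).hom]
    simp [MonoidalCategory.rightUnitor_naturality]

theorem isIso_ηT_app {F : _root_.ModSite.Mod O} (e : _root_.ModSite.unit O ⟶ F)
    (M : _root_.ModSite.Mod O) [IsIso (((_root_.ModSite.tensorBi O).obj M).map e)] :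
    IsIso ((ηT e).app M) := by
  haveI hh : IsIso ((L.{u, u, u} O).map ((G.{u, u, u} O).obj M ◁ (G.{u, u, u} O).map e)) :=
    inferInstanceAs (IsIso (((_root_.ModSite.tensorBi O).obj M).map e))
  change IsIso ((counitIso.{u, u, u} O).inv.app M ≫ (L.{u, u, u} O).map (ηP e M))
  rw [ηP, Functor.map_comp]
  exact IsIso.comp_isIso' inferInstance (IsIso.comp_isIso' (Functor.map_isIso _ _) hh)

lemma ηP_app {F : _root_.ModSite.Mod O} (e : _root_.ModSite.unit O ⟶ F) (M : _root_.ModSite.Mod O)
    (c : Cᵒᵖ) (x : ((G.{u, u, u} O).obj M).obj c) :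
    (ηP e M).app c x = tm ((G.{u, u, u} O).obj M) ((G.{u, u, u} O).obj F) x
      (((G.{u, u, u} O).map e).app c (1 : O.obj.obj c)) :=
  rfl

lemma ηP_θPre : ηP (one φ) X ≫ θPre φ X = (G.{u, u, u} O).map ((adjRS φ).unit.app X) := by
  refine PresheafOfModules.hom_ext fun c => ModuleCat.hom_ext (LinearMap.ext fun x => ?_)
  change θApp φ X c.unop ((ηP (one φ) X).app c x) = _
  rw [ηP_app]
  refine (θApp_tm φ X _ _).trans ?_
  refine (congrArg (fun r : O'.obj.obj (op c.unop) => toTg φ X c.unop (r • pm' φ X c.unop x))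
    (show eVal φ c.unop (((G.{u, u, u} O).map (one φ)).app c (1 : O.obj.obj c)) = 1 from
      map_one (φ.hom.app c).hom)).trans ?_
  rw [one_smul]
  simp [adjRS, Adjunction.ofNatIsoRight, pushIso]
  rfl

/-- The unit, through the tensor product. -/
lemma ηT_θ : (ηT (one φ)).app X ≫ (θ φ).hom.app X = (adjRS φ).unit.app X := by
  change ((counitIso.{u, u, u} O).inv.app X ≫ (L.{u, u, u} O).map (ηP (one φ) X)) ≫
    (L.{u, u, u} O).map (θPre φ X) ≫ (counitIso.{u, u, u} O).hom.app (Tg φ X) = _
  rw [Category.assoc, ← Functor.map_comp_assoc, ηP_θPre]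
  refine (congrArg (_ ≫ ·) ((counitIso.{u, u, u} O).hom.naturality ((adjRS φ).unit.app X))).trans ?_
  exact (counitIso.{u, u, u} O).inv_hom_id_app_assoc X _

section Local

open Groth.Agent.Lib.ExtZero.Presheaf

variable (U : C) (X)

/-- The structure map over `C/U`. -/
noncomputable def oneU :
    _root_.ModSite.unit (O.over U) ⟶ (_root_.ModSite.restr O U).obj (E φ) :=
  (_root_.ModSite.restr O U).map (one φ)

/-- The comparison over `C/U`, on presheaves. -/
noncomputable def θPreU :
    (G.{u, u, u} (O.over U)).obj ((_root_.ModSite.restr O U).obj X) ⊗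
        (G.{u, u, u} (O.over U)).obj ((_root_.ModSite.restr O U).obj (E φ)) ⟶
      (G.{u, u, u} (O.over U)).obj ((_root_.ModSite.restr O U).obj (Tg φ X)) :=
  (Functor.Monoidal.μIso (restrc O.obj U) ((G.{u, u, u} O).obj X) ((G.{u, u, u} O).obj (E φ))).hom ≫
    (restrc O.obj U).map (θPre φ X)

theorem isIso_L_θPreU : IsIso ((L.{u, u, u} (O.over U)).map (θPreU φ X U)) := by
  haveI := isIso_L_θPre φ (X := X)
  have hr := ExtZero.Restr.isIso_map_restr (O := O) U (θPre φ X)
  rw [θPreU, Functor.map_comp]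
  exact IsIso.comp_isIso' (Functor.map_isIso _ _) hr

/-- The comparison over `C/U`. -/
noncomputable def θU :
    ((_root_.ModSite.tensorBi (O.over U)).flip.obj ((_root_.ModSite.restr O U).obj (E φ))).obj
        ((_root_.ModSite.restr O U).obj X) ≅ (_root_.ModSite.restr O U).obj (Tg φ X) :=
  @asIso _ _ _ _ ((L.{u, u, u} (O.over U)).map (θPreU φ X U)) (isIso_L_θPreU φ X U) ≪≫
    (counitIso.{u, u, u} (O.over U)).app _

lemma ηP_θPreU : ηP (oneU φ U) ((_root_.ModSite.restr O U).obj X) ≫ θPreU φ X U =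
    (G.{u, u, u} (O.over U)).map ((_root_.ModSite.restr O U).map ((adjRS φ).unit.app X)) := by
  refine PresheafOfModules.hom_ext fun c => ModuleCat.hom_ext (LinearMap.ext fun x => ?_)
  exact congrArg (fun q => q.app (op c.unop.left) x) (ηP_θPre φ (X := X))

/-- The unit over `C/U`, through the tensor product. -/
lemma ηT_θU : (ηT (oneU φ U)).app ((_root_.ModSite.restr O U).obj X) ≫ (θU φ X U).hom =
    (_root_.ModSite.restr O U).map ((adjRS φ).unit.app X) := by
  change ((counitIso.{u, u, u} (O.over U)).inv.app _ ≫ (L.{u, u, u} (O.over U)).map (ηP (oneU φ U) _)) ≫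
    (L.{u, u, u} (O.over U)).map (θPreU φ X U) ≫ (counitIso.{u, u, u} (O.over U)).hom.app _ = _
  rw [Category.assoc, ← Functor.map_comp_assoc, ηP_θPreU]
  refine (congrArg (_ ≫ ·) ((counitIso.{u, u, u} (O.over U)).hom.naturality
    ((_root_.ModSite.restr O U).map ((adjRS φ).unit.app X)))).trans ?_
  exact (counitIso.{u, u, u} (O.over U)).inv_hom_id_app_assoc _ _

lemma θU_naturality {X X' : _root_.ModSite.Mod O} (q : X ⟶ X') :
    (θU φ X U).hom ≫ (_root_.ModSite.restr O U).map ((RS φ).map ((idMor φ).pull.map q)) =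
      ((_root_.ModSite.tensorBi (O.over U)).flip.obj ((_root_.ModSite.restr O U).obj (E φ))).map
        ((_root_.ModSite.restr O U).map q) ≫ (θU φ X' U).hom := by
  change ((L.{u, u, u} (O.over U)).map (θPreU φ X U) ≫ (counitIso.{u, u, u} (O.over U)).hom.app _) ≫ _ =
    (L.{u, u, u} (O.over U)).map ((G.{u, u, u} (O.over U)).map ((_root_.ModSite.restr O U).map q) ▷ _) ≫
      (L.{u, u, u} (O.over U)).map (θPreU φ X' U) ≫ (counitIso.{u, u, u} (O.over U)).hom.app _
  rw [← Functor.map_comp_assoc, Category.assoc]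
  refine Eq.trans (congrArg ((L.{u, u, u} (O.over U)).map (θPreU φ X U) ≫ ·)
    ((counitIso.{u, u, u} (O.over U)).hom.naturality _).symm) ?_
  refine (Category.assoc _ _ _).symm.trans (congrArg (· ≫ _) ?_)
  refine ((L.{u, u, u} (O.over U)).map_comp _ _).symm.trans (congrArg _ ?_)
  refine PresheafOfModules.hom_ext fun c => ModuleCat.hom_ext (LinearMap.ext fun z => ?_)
  exact (congrArg (fun w => w.app (op c.unop.left) z) (θPre_nat φ q)).symm

end Local

end Groth.Agent.Lib.DerComp.ExtScalar
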