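import Groth.Agent.Lib.DR.LocalDualityCompletion
import Groth.Agent.Lib.DR.DComp.Completion
import Groth.Agent.Lib.DR.DComp.Module
import Groth.Agent.Lib.DR.DComp.Crit
import Groth.Agent.Lib.DMod.Devissage
import Groth.Agent.Lib.InjHull.Matlis
import Groth.Agent.Lib.InjHull.Artinian
import Groth.Agent.Lib.InjHull.Basic

/-!
# Local cohomology and completion between finite and cofinite objects
-/

universe u

open CategoryTheory CategoryTheory.Limits Pretriangulated
open Groth.Agent.Lib.RGamma Groth.Agent.Lib.DR.DComp Groth.Agent.Lib.DMod.Basic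

attribute [local instance] HasDerivedCategory.standard

set_option backward.isDefEq.respectTransparency false

namespace Groth.Agent.Lib.DerComp.GMEquiv

open Groth.Agent.Lib

variable {A : Type u} [CommRing A]

/-- Finite modules over a ring complete along a multiplication are complete. -/
theorem dc_of_finite [IsNoetherianRing A] {f : A} (hA : DC f A) (M : Type u)
    [AddCommGroup M] [Module A M] [Module.Finite A M] : DC f M := by
  obtain ⟨n, π, hπ⟩ := Module.Finite.exists_fin' A M
  obtain ⟨m, σ, hσ⟩ := Module.Finite.exists_fin' A (LinearMap.ker π)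
  have hr : LinearMap.range ((LinearMap.ker π).subtype ∘ₗ σ) = LinearMap.ker π := by
    rw [LinearMap.range_comp, LinearMap.range_eq_top.2 hσ, Submodule.map_top, Submodule.range_subtype]
  exact (DC.coker (dc_pi fun _ => hA) ((LinearMap.ker π).subtype ∘ₗ σ) (dc_pi fun _ => hA).2).congr
    ((Submodule.quotEquivOfEq _ _ hr).trans (π.quotKerEquivOfSurjective hπ))

/-- The middle of an exact sequence of finite modules is finite. -/
theorem finite_of_exact [IsNoetherianRing A] {M N P : Type u} [AddCommGroup M] [Module A M]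
    [AddCommGroup N] [Module A N] [AddCommGroup P] [Module A P] (f : M →ₗ[A] N) (g : N →ₗ[A] P)
    (h : Function.Exact f g) (_hM : Module.Finite A M) (_hP : Module.Finite A P) :
    Module.Finite A N := by
  have hex : Function.Exact f g.rangeRestrict := fun y => by rw [← h y]; exact Subtype.ext_iff
  exact Module.Finite.of_exact hex (LinearMap.surjective_rangeRestrict _)

section Dualizing

variable {ω : Dual.D A} (hω : Dual.IsDualizing A ω)
include hω

/-- A dualizing complex is bounded. -/
theorem exists_bounds : ∃ a b : ℤ, ∀ j, j < a ∨ b < j → Subsingleton (Dual.HD A ω j) := by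
  obtain ⟨a, b, hab⟩ := hω.finite_injective_dimension
  refine ⟨a, b, fun j hj => ?_⟩
  have := hab A j hj
  exact (homUnitShiftEquiv ω j).symm.toEquiv.subsingleton

/-- Maps from a bounded finite object to a translate of the dualizing complex form a finite module. -/
theorem finite_hom_dualizing [IsNoetherianRing A] (M : Dual.D A) (a b : ℤ)
    (hab : ∀ i, i < a ∨ b < i → Subsingleton (Dual.HD A M i))
    (hfin : ∀ i, Module.Finite A (Dual.HD A M i)) (i : ℤ) : Module.Finite A (M ⟶ ω⟦i⟧) := by
  obtain ⟨c, d, hcd⟩ := exists_bounds hω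
  refine DMod.Devissage.finite_hom_of_bounded M _ a b (c - i) (d - i) hab hfin (fun j hj => ?_) fun j => ?_
  · have := hcd (i + j) (by omega)
    exact (HDShift ω i j (i + j) rfl).toEquiv.subsingleton
  · have := hω.finite_cohomology (i + j)
    exact Module.Finite.equiv (HDShift ω i j (i + j) rfl).symm

/-- A bounded object has maps to only finitely many translates of the dualizing complex. -/
theorem exists_dual_range (M : Dual.D A) (a b : ℤ)
    (hab : ∀ i, i < a ∨ b < i → Subsingleton (Dual.HD A M i)) :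
    ∃ c d : ℤ, ∀ i, i < c ∨ d < i → Subsingleton (M ⟶ ω⟦i⟧) := by
  refine DMod.Devissage.bounded_induction (fun _ _ _ => True) (fun _ _ _ _ _ _ _ _ => trivial)
    (fun _ _ _ _ => trivial) (fun X => ∃ c d : ℤ, ∀ i, i < c ∨ d < i → Subsingleton (X ⟶ ω⟦i⟧))
    ?_ ?_ ?_ M a b hab fun _ => trivial
  · rintro K L e ⟨c, d, h⟩
    refine ⟨c, d, fun i hi => ?_⟩
    have := h i hi
    exact (Linear.homCongr A e (Iso.refl (ω⟦i⟧))).symm.toEquiv.subsingleton
  · rintro T hT ⟨c, d, h⟩ ⟨c', d', h'⟩
    exact ⟨min c c', max d d', fun i hi =>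
      subsingleton_hom_from_obj₂ hT _ (h i (by omega)) (h' i (by omega))⟩
  · intro N _ _ n _
    obtain ⟨c, d, h⟩ := hω.finite_injective_dimension
    refine ⟨c + n, d + n, fun i hi => ?_⟩
    have := h N (i - n) (by omega)
    exact (homShiftAdj (Dual.inD A N) ω n i (i - n) (by omega)).toEquiv.subsingleton

end Dualizing

variable {I : Ideal A}

/-- The cone of a completion map has no maps to complete objects. -/
theorem perp_of_pBij (T : Triangle (Dual.D A)) (hT : T ∈ distTriang (Dual.D A))
    (h : PBij I T.mor₁) : Perp I T.obj₃ := fun Y hY φ => by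
  obtain ⟨ψ, hψ⟩ := Triangle.yoneda_exact₃ _ hT φ ((h Y hY).1 (by
    show T.mor₁ ≫ T.mor₂ ≫ φ = T.mor₁ ≫ (0 : _ ⟶ Y)
    rw [comp_distTriang_mor_zero₁₂_assoc _ hT, zero_comp, comp_zero]))
  obtain ⟨χ, hχ⟩ := (pBij_shift h Y hY).2 ψ
  have hχ' : T.mor₁⟦(1 : ℤ)⟧' ≫ χ = ψ := hχ
  rw [hψ, ← hχ', comp_distTriang_mor_zero₃₁_assoc _ hT, zero_comp]

/-- Completion maps commute with translations. -/
theorem pBij_shift' {X X' : Dual.D A} {g : X ⟶ X'} (h : PBij I g) (n : ℤ) : PBij I (g⟦n⟧') :=
  fun Y hY => by
  let adj := (shiftEquiv (Dual.D A) n).toAdjunction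
  have := h _ (isDerivedComplete_shift hY (-n))
  have e : (fun φ : X'⟦n⟧ ⟶ Y => g⟦n⟧' ≫ φ) =
      (adj.homEquiv X Y).symm ∘ (fun φ => g ≫ φ) ∘ adj.homEquiv X' Y := funext fun φ => by
    show _ = (adj.homEquiv X Y).symm (g ≫ adj.homEquiv X' Y φ)
    rw [← adj.homEquiv_naturality_left]
    exact ((adj.homEquiv X Y).symm_apply_apply _).symm
  rw [e]
  exact (adj.homEquiv X Y).symm.bijective.comp (this.comp (adj.homEquiv X' Y).bijective)

section GM

variable [IsNoetherianRing A] (I) [DRing.HasRgammaI I] [DRing.HasDerivedCompletion I]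

/-- Torsion objects see the completion exactly as they see the object. -/
theorem bijective_comp_unit (K : Dual.D A) {T : Dual.D A}
    (hTt : ∀ i, LocCoh.IsPowerTorsion I (Dual.HD A T i)) :
    Function.Bijective fun φ : T ⟶ K => φ ≫ DRing.toDerivedCompletion I K := by
  obtain ⟨C, p, δ, hT⟩ := distinguished_cocone_triangle (DRing.toDerivedCompletion I K)
  have hC : Perp I C := perp_of_pBij _ hT (pBij_toDerivedCompletion' (I := I) K)
  refine ⟨fun a b hab => sub_eq_zero.1 ?_, fun φ => ?_⟩
  · obtain ⟨x, hx⟩ := Triangle.coyoneda_exact₂ _ (inv_rot_of_distTriang _ hT) (a - b) (by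
      show (a - b) ≫ DRing.toDerivedCompletion I K = 0
      rw [Preadditive.sub_comp]; exact sub_eq_zero.2 hab)
    have hx0 : x = 0 := eq_zero_of_torsion_of_perp I hTt (hC.shift (-1)) x
    exact hx.trans ((congrArg (· ≫ _) hx0).trans zero_comp)
  · obtain ⟨x, hx⟩ := Triangle.coyoneda_exact₂ _ hT φ
      (eq_zero_of_torsion_of_perp I hTt hC (φ ≫ p))
    exact ⟨x, hx.symm⟩

/-- `RΓ_I` inverts the completion map. -/
theorem isIso_RgammaI_map_unit (K : Dual.D A) :
    IsIso ((DRing.RgammaI I).map (DRing.toDerivedCompletion I K)) := by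
  let η := DRing.toDerivedCompletion I K
  let R := DRing.RgammaI I
  have hb : ∀ T : Dual.D A, (∀ i, LocCoh.IsPowerTorsion I (Dual.HD A T i)) →
      Function.Bijective fun φ : T ⟶ R.obj K => φ ≫ R.map η := fun T hT => by
    have h1 := (bijective_comp_unit I K hT).comp (bijective_comp_ε I K hT)
    refine (Function.Bijective.of_comp_iff' (bijective_comp_ε I _ hT) _).1 ?_
    convert h1 using 1
    funext φ
    exact (Category.assoc _ _ _).trans ((congrArg (φ ≫ ·) ((DRing.RgammaIε I).naturality η)).trans
      (Category.assoc _ _ _).symm)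
  obtain ⟨s, hs⟩ := (hb _ (isPowerTorsion_HD_RgammaI I _)).2 (𝟙 _)
  have hs' : s ≫ R.map η = 𝟙 _ := hs
  refine ⟨s, (hb _ (isPowerTorsion_HD_RgammaI I _)).1 ?_, hs'⟩
  show (R.map η ≫ s) ≫ R.map η = 𝟙 _ ≫ R.map η
  rw [Category.assoc, hs', Category.comp_id, Category.id_comp]

omit [DRing.HasRgammaI I] [IsNoetherianRing A] in
/-- The completion of a complete object is the object. -/
theorem isIso_unit_of_complete (M : Dual.D A) (hM : DRing.IsDerivedComplete I M) :
    IsIso (DRing.toDerivedCompletion I M) := by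
  obtain ⟨e, he⟩ := exists_iso_of_pBij (pBij_toDerivedCompletion' (I := I) M) (RGamma.pBij_of_isIso (𝟙 M))
    (isDerivedComplete_completion (I := I) M) hM
  have : DRing.toDerivedCompletion I M = e.inv := by
    rw [← Category.id_comp e.inv, ← he, Category.assoc, e.hom_inv_id, Category.comp_id]
  rw [this]
  infer_instance

end GM

section Completion

variable [IsNoetherianRing A] (I) [DRing.HasDerivedCompletion I]

/-- All cohomology modules of the completion are finite. -/
def FinCompl (X : Dual.D A) : Prop :=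
  ∀ i, Module.Finite A (Dual.HD A ((DRing.derivedCompletion I).obj X).obj i)

omit [IsNoetherianRing A] in
theorem finCompl_of_iso {K L : Dual.D A} (e : K ≅ L) (h : FinCompl I K) : FinCompl I L := fun i => by
  have := h i
  let eC : ((DRing.derivedCompletion I).obj K).obj ≅ ((DRing.derivedCompletion I).obj L).obj :=
    (ObjectProperty.ι _).mapIso ((DRing.derivedCompletion I).mapIso e)
  exact Module.Finite.equiv (HDCongr eC i)

omit [IsNoetherianRing A] in
theorem finCompl_of_pBij {K K₁ : Dual.D A} (η : K ⟶ K₁) (h : PBij I η)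
    (c : DRing.IsDerivedComplete I K₁) (hfin : ∀ i, Module.Finite A (Dual.HD A K₁ i)) :
    FinCompl I K := fun i => by
  obtain ⟨e, -⟩ := exists_iso_of_pBij (pBij_toDerivedCompletion' (I := I) K) h
    (isDerivedComplete_completion (I := I) K) c
  have := hfin i
  exact Module.Finite.equiv (HDCongr e i).symm

omit [IsNoetherianRing A] in
theorem finCompl_shift {K : Dual.D A} (h : FinCompl I K) (n : ℤ) : FinCompl I (K⟦n⟧) := by
  refine finCompl_of_pBij I _ (pBij_shift' (pBij_toDerivedCompletion' (I := I) K) n)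
    (isDerivedComplete_shift (isDerivedComplete_completion (I := I) K) n) fun i => ?_
  have := h (n + i)
  exact Module.Finite.equiv (HDShift _ n i (n + i) rfl).symm

omit [IsNoetherianRing A] in
theorem exists_completed_triangle (T : Triangle (Dual.D A)) (hT : T ∈ distTriang (Dual.D A)) :
    ∃ (D : Dual.D A) (p : ((DRing.derivedCompletion I).obj T.obj₂).obj ⟶ D)
      (δ : D ⟶ ((DRing.derivedCompletion I).obj T.obj₁).obj⟦(1 : ℤ)⟧),
      Triangle.mk ((DRing.derivedCompletion I).map T.mor₁).hom p δ ∈ distTriang (Dual.D A) ∧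
        Nonempty (((DRing.derivedCompletion I).obj T.obj₃).obj ≅ D) := by
  obtain ⟨D, p, δ, h, hT', hD, hh⟩ := exists_cone_completion (I := I) T.mor₁ T.mor₂ T.mor₃ hT
  obtain ⟨e, -⟩ := exists_iso_of_pBij (pBij_toDerivedCompletion' (I := I) T.obj₃) hh
    (isDerivedComplete_completion (I := I) _) hD
  exact ⟨D, p, δ, hT', ⟨e⟩⟩

theorem finCompl_obj₂ (T : Triangle (Dual.D A)) (hT : T ∈ distTriang (Dual.D A))
    (h₁ : FinCompl I T.obj₁) (h₃ : FinCompl I T.obj₃) : FinCompl I T.obj₂ := fun i => by
  obtain ⟨D, p, δ, hT', ⟨e⟩⟩ := exists_completed_triangle I T hT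
  have := h₃ i
  exact finite_of_exact _ _ (exact_mapHD₂ hT' i) (h₁ i) (Module.Finite.equiv (HDCongr e i))

/-- Finiteness in degree `i` for the first vertex from degree `i - 1` of the third and `i` of the second. -/
theorem finite_obj₁ (T : Triangle (Dual.D A)) (hT : T ∈ distTriang (Dual.D A)) (i : ℤ)
    (h₂ : Module.Finite A (Dual.HD A ((DRing.derivedCompletion I).obj T.obj₂).obj i))
    (h₃ : Module.Finite A (Dual.HD A ((DRing.derivedCompletion I).obj T.obj₃).obj (i - 1))) :
    Module.Finite A (Dual.HD A ((DRing.derivedCompletion I).obj T.obj₁).obj i) := by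
  obtain ⟨D, p, δ, hT', ⟨e⟩⟩ := exists_completed_triangle I T hT
  exact finite_of_exact _ _ (exact_mapHD₁ hT' (i - 1) i (by omega))
    (Module.Finite.equiv (HDCongr e (i - 1))) h₂

omit [IsNoetherianRing A] in
/-- Degrees of the completion. -/
theorem subsingleton_HD_completion {s : Finset A} (hs : Ideal.span (s : Set A) = I) (K : Dual.D A)
    (i : ℤ) (hv : ∀ j, i ≤ j → j ≤ i + (s.card : ℤ) → Subsingleton (Dual.HD A K j)) :
    Subsingleton (Dual.HD A ((DRing.derivedCompletion I).obj K).obj i) :=
  subsingleton_HD_of_pBij hs (pBij_toDerivedCompletion' (I := I) K)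
    (isDerivedComplete_completion (I := I) K) i hv

theorem finCompl_of_subsingleton (N : Type u) [AddCommGroup N] [Module A N] [Subsingleton N] :
    FinCompl I (Dual.inD A N) := fun i => by
  obtain ⟨s, hs⟩ := IsNoetherian.noetherian I
  have := subsingleton_HD_completion I hs (Dual.inD A N) i fun j _ _ => by
    by_cases hj : j = 0
    · subst hj; exact (HDinD (A := A) N).toEquiv.subsingleton
    · exact subsingleton_HD_inD N hj
  exact Module.Finite.of_finite

theorem finCompl_pi {E : Type u} [AddCommGroup E] [Module A E] (hE : FinCompl I (Dual.inD A E)) :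
    ∀ r : ℕ, FinCompl I (Dual.inD A (Fin r → E))
  | 0 => finCompl_of_subsingleton I _
  | r + 1 => by
    let f : E →ₗ[A] (Fin (r + 1) → E) := LinearMap.single A (fun _ => E) 0
    let g : (Fin (r + 1) → E) →ₗ[A] (Fin r → E) := LinearMap.funLeft A E Fin.succ
    let S : ShortComplex (ModuleCat.{u} A) := ShortComplex.mk (ModuleCat.ofHom f) (ModuleCat.ofHom g)
      (ModuleCat.hom_ext (LinearMap.ext fun x => funext fun j => by
        simp [f, g, LinearMap.funLeft]; rfl))
    have hS : S.ShortExact :=
      { exact := (ShortComplex.ShortExact.moduleCat_exact_iff_function_exact _).2 fun y => by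
          constructor
          · intro h
            refine ⟨y 0, funext fun j => ?_⟩
            refine Fin.cases ?_ (fun k => ?_) j
            · exact Pi.single_eq_same (M := fun _ : Fin (r + 1) => E) 0 (y 0)
            · exact (Pi.single_eq_of_ne (M := fun _ : Fin (r + 1) => E) (Fin.succ_ne_zero k) (y 0)).trans
                (congrFun h k).symm
          · rintro ⟨x, rfl⟩
            exact congr($(S.zero) x)
        mono_f := (ModuleCat.mono_iff_injective _).2
          (Pi.single_injective (M := fun _ : Fin (r + 1) => E) 0)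
        epi_g := (ModuleCat.epi_iff_surjective _).2 fun y => ⟨Fin.cons 0 y, funext fun k => by
          exact Fin.cons_succ (α := fun _ => E) 0 y k⟩ }
    exact finCompl_obj₂ I _ hS.singleTriangle_distinguished hE (finCompl_pi hE r)

end Completion

section Local

variable [IsNoetherianRing A] [IsLocalRing A]

local notation "𝔪" => IsLocalRing.maximalIdeal A

theorem isArtinian_of_cofinite (N : Type u) [AddCommGroup N] [Module A N]
    (h : LocCoh.IsPowerTorsion 𝔪 N) (hs : Module.Finite A ↥(LocCoh.torsionBy 𝔪 N)) :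
    IsArtinian A N :=
  InjHull.Artinian.isArtinian_iff_isPowerTorsion N |>.2
    ⟨h, Module.Finite.of_restrictScalars_finite A (A ⧸ 𝔪) _⟩

theorem cofinite_of_isArtinian (N : Type u) [AddCommGroup N] [Module A N] [IsArtinian A N] :
    LocCoh.IsPowerTorsion 𝔪 N ∧ Module.Finite A ↥(LocCoh.torsionBy 𝔪 N) := by
  obtain ⟨h, hs⟩ := (InjHull.Artinian.isArtinian_iff_isPowerTorsion (R := A) N).1 inferInstance
  exact ⟨h, Module.Finite.trans (A ⧸ 𝔪) _⟩

variable [IsAdicComplete (IsLocalRing.maximalIdeal A) A]

theorem isDerivedComplete_of_finite (M : Dual.D A)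
    (hfin : ∀ i, Module.Finite A (Dual.HD A M i)) : DRing.IsDerivedComplete 𝔪 M :=
  isDerivedComplete_iff.2 fun _ hf i =>
    have := hfin i
    dc_of_finite (dc_of_isAdicComplete (I := 𝔪) hf) _

variable [DRing.HasRgammaI (IsLocalRing.maximalIdeal A)]
  [DRing.HasDerivedCompletion (IsLocalRing.maximalIdeal A)]

/-- Completions of Artinian modules have finite cohomology. -/
theorem finCompl_of_isArtinian {ω : Dual.D A} (hω : Dual.IsDualizing A ω)
    (hn : Dual.IsNormalized A ω) {E : Type u} [AddCommGroup E] [Module A E]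
    {f : IsLocalRing.ResidueField A →ₗ[A] E} (hf : InjHull.IsInjectiveHull f)
    (N : Type u) [AddCommGroup N] [Module A N] [IsArtinian A N] :
    FinCompl 𝔪 (Dual.inD A N) := by
  obtain ⟨eω⟩ := DR.LocalDualityCompletion.nonempty_RgammaI_dualizing hω hn E f hf
  have hE : FinCompl 𝔪 (Dual.inD A E) :=
    finCompl_of_pBij 𝔪 (eω.inv ≫ (DRing.RgammaIε 𝔪).app ω)
      ((RGamma.pBij_of_isIso eω.inv).comp (pBij_ε 𝔪 ω))
      (isDerivedComplete_of_finite ω hω.finite_cohomology) hω.finite_cohomology
  obtain ⟨s, hs⟩ := IsNoetherian.noetherian 𝔪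
  have key : ∀ (k : ℕ) (M : Type u) [AddCommGroup M] [Module A M] [IsArtinian A M],
      Module.Finite A (Dual.HD A ((DRing.derivedCompletion 𝔪).obj (Dual.inD A M)).obj
        (-(s.card : ℤ) - 1 + k)) := by
    intro k
    induction k with
    | zero =>
      intro M _ _ _
      have := subsingleton_HD_completion 𝔪 hs (Dual.inD A M) (-(s.card : ℤ) - 1 + (0 : ℕ))
        fun j _ hj => subsingleton_HD_inD M (by omega)
      exact Module.Finite.of_finite
    | succ k ih =>
      intro M _ _ _
      obtain ⟨hMt, hMs⟩ := (InjHull.Artinian.isArtinian_iff_isPowerTorsion (R := A) M).1 inferInstance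
      obtain ⟨g, hg⟩ := InjHull.Matlis.exists_embedding_pi hf hMt _ rfl
      let q := (LinearMap.range g).mkQ
      haveI : IsArtinian A E := InjHull.Matlis.isArtinian hf.toIsEssentialInj
      let S : ShortComplex (ModuleCat.{u} A) := ShortComplex.mk (ModuleCat.ofHom g) (ModuleCat.ofHom q)
        (ModuleCat.hom_ext (LinearMap.range_mkQ_comp g))
      have hS : S.ShortExact :=
        { exact := (ShortComplex.ShortExact.moduleCat_exact_iff_function_exact _).2
            (LinearMap.exact_map_mkQ_range g)
          mono_f := (ModuleCat.mono_iff_injective _).2 hg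
          epi_g := (ModuleCat.epi_iff_surjective _).2 (Submodule.mkQ_surjective _) }
      refine finite_obj₁ 𝔪 _ hS.singleTriangle_distinguished _ (finCompl_pi 𝔪 hE _ _) ?_
      rw [show -(s.card : ℤ) - 1 + ((k + 1 : ℕ) : ℤ) - 1 = -(s.card : ℤ) - 1 + k by omega]
      exact ih ((Fin _ → E) ⧸ LinearMap.range g)
  intro i
  by_cases hi : i < -(s.card : ℤ)
  · have := subsingleton_HD_completion 𝔪 hs (Dual.inD A N) i
      fun j _ hj => subsingleton_HD_inD N (by omega)
    exact Module.Finite.of_finite
  · have := key (i + s.card + 1).toNat N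
    rwa [show -(s.card : ℤ) - 1 + ((i + s.card + 1).toNat : ℤ) = i by omega] at this

end Local

end Groth.Agent.Lib.DerComp.GMEquiv
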