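import Groth.Agent.Lib.DerComp.Local
import Groth.Agent.Lib.SiteKFlat.PullAdj

/-!
# The telescope condition and direct images
-/

set_option linter.style.haveILetI false

universe w v u w' v' u'

open CategoryTheory CategoryTheory.Limits Opposite
attribute [local instance] HasDerivedCategory.standard

namespace Groth.Agent.Lib.DerComp.Push

open Groth.Agent.Lib.DerCat Groth.Agent.Lib.ExtZero Groth.Agent.Lib.SiteKFlat Groth.Agent.Lib.DerivedOX Crit

/-- Right derived functors computed by K-injective resolutions are triangulated. -/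
lemma exists_isTriangulated {A : Type u} [Category.{v} A] [Abelian A] [HasDerivedCategory.{w} A]
    {B : Type u'} [Category.{v'} B] [Abelian B] [HasDerivedCategory.{w'} B]
    [(DerivedCategory.Qh (C := A)).IsLeftAdjoint] (F : A ⥤ B) [F.Additive]
    {G : DerivedCategory A ⥤ DerivedCategory B}
    (e : RightDerived.resFunctor A ⋙
      (F.mapHomotopyCategory (ComplexShape.up ℤ) ⋙ DerivedCategory.Qh) ≅ G) :
    ∃ (_ : G.CommShift ℤ), G.IsTriangulated := by
  let adj := RightDerived.resAdj A
  letI : (RightDerived.resFunctor A).CommShift ℤ := adj.rightAdjointCommShift ℤ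
  haveI : adj.CommShift ℤ := adj.commShift_of_leftAdjoint ℤ
  haveI : (RightDerived.resFunctor A).IsTriangulated := adj.isTriangulated_rightAdjoint
  letI : G.CommShift ℤ := Functor.CommShift.ofIso e ℤ
  haveI : NatTrans.CommShift e.hom ℤ := Functor.CommShift.ofIso_compatibility e ℤ
  exact ⟨inferInstance, Functor.isTriangulated_of_iso e⟩

/-- The telescope condition only depends on the isomorphism class. -/
theorem good_of_iso {C : Type u} [SmallCategory C] {J : GrothendieckTopology C}
    {O : Sheaf J CommRingCat.{u}} {K K' : DerivedCategory (_root_.ModSite.Mod O)} (e : K ≅ K') {U : C}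
    {f : O.obj.obj (op U)} (h : Good O K U f) : Good O K' U f := by
  refine (van_iff_good O K' U f).1 fun n => ?_
  haveI := (van_iff_good O K U f).2 h n
  exact ⟨fun a b => (cancel_mono ((shiftFunctor (DerivedCategory (_root_.ModSite.Mod O)) n).mapIso e).inv).1
    (Subsingleton.elim _ _)⟩

variable {C D : Type u} [SmallCategory C] [SmallCategory D] {J : GrothendieckTopology C}
  {J' : GrothendieckTopology D} {O_C : Sheaf J CommRingCat.{u}} {O_D : Sheaf J' CommRingCat.{u}}
  (f : _root_.ModSite.RMor O_C O_D) (V : D)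

/-- The image of a section. -/
noncomputable abbrev img (a : O_D.obj.obj (op V)) : O_C.obj.obj (op (f.fn.obj V)) :=
  show O_C.obj.obj (op (f.fn.obj V)) from (f.sharp.hom.app (op V)).hom a

instance additive_pull : f.pull.Additive := f.adj.left_adjoint_additive

/-- Sections over `V` of a direct image. -/
noncomputable def αp (M : _root_.ModSite.Mod O_C) :
    (f.pull.obj (_root_.ModSite.freeOn O_D V) ⟶ M) ≃+ _root_.ModSite.sect M (f.fn.obj V) :=
  (f.adj.homAddEquiv (_root_.ModSite.freeOn O_D V) M).trans (Restr.freeOnEquiv V (f.push.obj M))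

lemma αp_comp {M N : _root_.ModSite.Mod O_C} (x : f.pull.obj (_root_.ModSite.freeOn O_D V) ⟶ M)
    (p : M ⟶ N) : αp f V N (x ≫ p) = p.val.app (op (f.fn.obj V)) (αp f V M x) := by
  change Restr.freeOnEquiv _ _ (f.adj.homEquiv _ _ (x ≫ p)) = _
  rw [Adjunction.homEquiv_naturality_right, Restr.freeOnEquiv_comp]
  rfl

/-- `f^* j_! O_V ≅ j_! O_{f⁻¹ V}`. -/
noncomputable def pullFreeIso :
    _root_.ModSite.freeOn O_C (f.fn.obj V) ≅ f.pull.obj (_root_.ModSite.freeOn O_D V) where
  hom := (Restr.freeOnEquiv (f.fn.obj V) _).symm (αp f V _ (𝟙 _))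
  inv := (αp f V _).symm (Restr.freeOnEquiv (f.fn.obj V) _ (𝟙 _))
  hom_inv_id := (Restr.freeOnEquiv (f.fn.obj V) _).injective (by
    rw [Restr.freeOnEquiv_comp, AddEquiv.apply_symm_apply, ← αp_comp, Category.id_comp,
      AddEquiv.apply_symm_apply])
  inv_hom_id := (αp f V _).injective (by
    rw [αp_comp, AddEquiv.apply_symm_apply, ← Restr.freeOnEquiv_comp, Category.id_comp,
      AddEquiv.apply_symm_apply])

lemma ρ_pullFreeIso (a : O_D.obj.obj (op V)) :
    ρ O_C (f.fn.obj V) (img f V a) ≫ (pullFreeIso f V).hom =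
      (pullFreeIso f V).hom ≫ f.pull.map (ρ O_D V a) := by
  apply (Restr.freeOnEquiv (f.fn.obj V) _).injective
  rw [Local.freeOnEquiv_ρ, Restr.freeOnEquiv_comp]
  have h₀ : Restr.freeOnEquiv (f.fn.obj V) (f.pull.obj (_root_.ModSite.freeOn O_D V))
      (pullFreeIso f V).hom = αp f V (f.pull.obj (_root_.ModSite.freeOn O_D V)) (𝟙 _) :=
    AddEquiv.apply_symm_apply _ _
  rw [h₀, ← αp_comp, Category.id_comp]
  refine Eq.symm ?_
  change Restr.freeOnEquiv _ _ (f.adj.homEquiv _ _ (f.pull.map _)) = _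
  rw [← Category.comp_id (f.pull.map _), Adjunction.homEquiv_naturality_left, Local.freeOnEquiv_ρ]
  rfl

/-- `f^*` on complexes concentrated in degree zero. -/
noncomputable def pullKSingle :
    CochainComplex.singleFunctor (_root_.ModSite.Mod O_D) 0 ⋙
        HomotopyCategory.quotient (_root_.ModSite.Mod O_D) (ComplexShape.up ℤ) ⋙
          f.pull.mapHomotopyCategory (ComplexShape.up ℤ) ⋙ DerivedCategory.Qh ≅
      f.pull ⋙ DerivedCategory.singleFunctor (_root_.ModSite.Mod O_C) 0 :=
  Functor.isoWhiskerRight (HomologicalComplex.singleMapHomologicalComplex f.pull (ComplexShape.up ℤ) 0)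
    (HomotopyCategory.quotient (_root_.ModSite.Mod O_C) (ComplexShape.up ℤ) ⋙ DerivedCategory.Qh)

variable [SiteCmp.HasRpushD f]

/-- The telescope condition for a direct image. -/
theorem good_push (M : DerivedCategory (_root_.ModSite.Mod O_C)) (a : O_D.obj.obj (op V)) :
    Good O_D ((SiteCmp.RpushD f).obj M) V a ↔ Good O_C M (f.fn.obj V) (img f V a) := by
  haveI : (DerivedCategory.Qh (C := _root_.ModSite.Mod O_C)).IsLeftAdjoint := inferInstance
  let eG := RightDerived.totalRightDerivedIso (SiteCmp.pushKh f)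
  obtain ⟨_, -⟩ := exists_isTriangulated f.push eG
  let adj := (DerAdj.adjK f.adj (ComplexShape.up ℤ)).comp
    (RightDerived.resAdj (_root_.ModSite.Mod O_C))
  let FC := DerivedCategory.singleFunctor (_root_.ModSite.Mod O_C) 0
  let P := (CochainComplex.singleFunctor (_root_.ModSite.Mod O_D) 0).obj (_root_.ModSite.freeOn O_D V)
  let qP := (HomotopyCategory.quotient (_root_.ModSite.Mod O_D) (ComplexShape.up ℤ)).obj P
  have hfl : _root_.ModSite.IsFlat (_root_.ModSite.freeOn O_D V) := ModSite.isFlat_freeOn O_D V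
  have hP : PullAdj.Good P :=
    ⟨Thms.isKFlat_single hfl 0, fun i => by
      by_cases hi : i = 0
      · subst hi
        exact ModTensor.Flat.isFlat_of_iso O_D
          (HomologicalComplex.singleObjXSelf (ComplexShape.up ℤ) 0 _).symm hfl
      · exact PullKFlat.isFlat_of_isZero (HomologicalComplex.isZero_single_obj_X _ _ _ _ hi)⟩
  let t : FC.obj (_root_.ModSite.freeOn O_C (f.fn.obj V)) ≅
      (f.pull.mapHomotopyCategory (ComplexShape.up ℤ) ⋙ DerivedCategory.Qh).obj qP :=
    FC.mapIso (pullFreeIso f V) ≪≫ ((pullKSingle f).app (_root_.ModSite.freeOn O_D V)).symm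
  haveI : (f.pull.mapHomotopyCategory (ComplexShape.up ℤ) ⋙ DerivedCategory.Qh).Additive :=
    inferInstance
  have hΨ : ∀ N : DerivedCategory (_root_.ModSite.Mod O_C),
      Function.Bijective (fun x : FC.obj (_root_.ModSite.freeOn O_C (f.fn.obj V)) ⟶ N =>
        DerivedCategory.Qh.map (adj.homEquiv qP N (t.inv ≫ x))) := fun N => by
    obtain ⟨I, hI, ⟨eI⟩⟩ := RightDerived.exists_resFunctor_obj_iso N
    exact (PullAdj.Qh_map_bijective f hP I _ eI).comp ((adj.homEquiv qP N).bijective.comp
      ⟨fun x y h => (cancel_epi t.inv).1 h, fun z => ⟨t.hom ≫ z, t.inv_hom_id_assoc z⟩⟩)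
  refine forall_congr' fun n => ?_
  let c : (RightDerived.resFunctor (_root_.ModSite.Mod O_C) ⋙ SiteCmp.pushKh f).obj (M⟦n⟧) ≅
      ((SiteCmp.RpushD f).obj M)⟦n⟧ :=
    eG.app _ ≪≫ ((SiteCmp.RpushD f).commShiftIso n).app M
  let Ψ : (SiteCmp.inD O_C (_root_.ModSite.freeOn O_C (f.fn.obj V)) ⟶ M⟦n⟧) ≃+
      (SiteCmp.inD O_D (_root_.ModSite.freeOn O_D V) ⟶ ((SiteCmp.RpushD f).obj M)⟦n⟧) :=
    AddEquiv.ofBijective
      (AddMonoidHom.mk' (fun x => DerivedCategory.Qh.map (adj.homEquiv qP _ (t.inv ≫ x)) ≫ c.hom)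
        fun x y => by
          rw [Preadditive.comp_add, ← Adjunction.homAddEquiv_apply, map_add, Functor.map_add,
            Preadditive.add_comp]
          rfl)
      ⟨fun x y h => (hΨ _).1 ((cancel_mono c.hom).1 h), fun z => by
        obtain ⟨x, hx⟩ := (hΨ _).2 (z ≫ c.inv)
        exact ⟨x, (congrArg (· ≫ c.hom) hx).trans ((Category.assoc _ _ _).trans
          (by rw [Iso.inv_hom_id]; exact Category.comp_id z))⟩⟩
  have hΨa : ∀ x, Ψ (act O_C M (f.fn.obj V) (img f V a) n x) =
      act O_D ((SiteCmp.RpushD f).obj M) V a n (Ψ x) := fun x => by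
    let qρ := (HomotopyCategory.quotient (_root_.ModSite.Mod O_D) (ComplexShape.up ℤ)).map
      ((CochainComplex.singleFunctor (_root_.ModSite.Mod O_D) 0).map (ρ O_D V a))
    have h₁ : t.inv ≫ FC.map (ρ O_C (f.fn.obj V) (img f V a)) =
        (f.pull.mapHomotopyCategory (ComplexShape.up ℤ) ⋙ DerivedCategory.Qh).map qρ ≫ t.inv := by
      have hn := (pullKSingle f).hom.naturality (ρ O_D V a)
      have hρ : (pullFreeIso f V).inv ≫ ρ O_C (f.fn.obj V) (img f V a) =
          f.pull.map (ρ O_D V a) ≫ (pullFreeIso f V).inv := by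
        rw [Iso.inv_comp_eq, ← Category.assoc, Iso.eq_comp_inv]
        exact ρ_pullFreeIso f V a
      simp only [Functor.comp_map] at hn
      simp only [t, Iso.trans_inv, Iso.symm_inv, Iso.app_hom, Functor.mapIso_inv, Category.assoc,
        Functor.comp_map]
      rw [← FC.map_comp, hρ, FC.map_comp]
      exact (reassoc_of% hn) _ |>.symm
    change DerivedCategory.Qh.map (adj.homEquiv qP _
        (t.inv ≫ FC.map (ρ O_C (f.fn.obj V) (img f V a)) ≫ x)) ≫ c.hom =
      DerivedCategory.Qh.map qρ ≫ DerivedCategory.Qh.map (adj.homEquiv qP _ (t.inv ≫ x)) ≫ c.hom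
    rw [← Category.assoc t.inv, h₁, Category.assoc, Adjunction.homEquiv_naturality_left,
      Functor.map_comp, Category.assoc]
  let E := Equiv.piCongrRight fun _ : ℕ => Ψ.toEquiv
  refine (Equiv.bijective_comp E _).symm.trans (Iff.trans ?_ (Equiv.comp_bijective _ E))
  refine Iff.of_eq (congrArg Function.Bijective (funext fun x => funext fun k => ?_))
  change Ψ (x k) - act O_D _ V a n (Ψ (x (k + 1))) = Ψ (x k - act O_C M _ _ n (x (k + 1)))
  rw [map_sub, hΨa]

end Groth.Agent.Lib.DerComp.Push
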