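import Groth.Agent.Lib.DerComp.SiteOrth
import Groth.Agent.Lib.DerComp.Push
import Groth.Agent.Lib.SiteKFlat.PullKFlat

/-!
# Test objects and direct images
-/

set_option linter.style.haveILetI false

universe u

open CategoryTheory CategoryTheory.Limits Opposite Pretriangulated
attribute [local instance] HasDerivedCategory.standard

namespace Groth.Agent.Lib.DerComp.KosPush

theorem nonempty_transport_single {A A' B : Type*} [Category A] [Category A'] [Category B]
    [Preadditive A] [Preadditive A'] [Preadditive B]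
    [HasZeroObject A] [HasZeroObject A'] [HasZeroObject B]
    [HasBinaryBiproducts A] [HasBinaryBiproducts A'] [HasBinaryBiproducts B]
    {R R' : Type*} [Semiring R] [Semiring R'] [Linear R A] [Linear R' A']
    (F : A ⥤ B) [F.Additive] (G : A' ⥤ B) [G.Additive] {ι : Type*} (s : ι → R) (s' : ι → R')
    (l : List ι) {u : A} {u' : A'} (e₀ : F.obj u ≅ G.obj u')
    (h : ∀ i, F.map (s i • 𝟙 u) ≫ e₀.hom = e₀.hom ≫ G.map (s' i • 𝟙 u')) :
    Nonempty ((F.mapHomologicalComplex (ComplexShape.up ℤ)).obj
        (Kos.kos s l ((CochainComplex.singleFunctor A 0).obj u)) ≅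
      (G.mapHomologicalComplex (ComplexShape.up ℤ)).obj
        (Kos.kos s' l ((CochainComplex.singleFunctor A' 0).obj u'))) := by
  refine Kos.nonempty_transport F G s s' l _ _
    ((HomologicalComplex.singleMapHomologicalComplex F (.up ℤ) 0).app u ≪≫
      (HomologicalComplex.single B (.up ℤ) 0).mapIso e₀ ≪≫
        ((HomologicalComplex.singleMapHomologicalComplex G (.up ℤ) 0).app u').symm) fun i => ?_
  have h1 : ∀ (r : R), r • 𝟙 ((CochainComplex.singleFunctor A 0).obj u) =
      (HomologicalComplex.single A (.up ℤ) 0).map (r • 𝟙 u) := fun r => by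
    refine HomologicalComplex.from_single_hom_ext ?_
    simp [HomologicalComplex.single_map_f_self, CochainComplex.singleFunctor, CochainComplex.singleFunctors]
    rfl
  have h2 : ∀ (r : R'), r • 𝟙 ((CochainComplex.singleFunctor A' 0).obj u') =
      (HomologicalComplex.single A' (.up ℤ) 0).map (r • 𝟙 u') := fun r => by
    refine HomologicalComplex.from_single_hom_ext ?_
    simp [HomologicalComplex.single_map_f_self, CochainComplex.singleFunctor, CochainComplex.singleFunctors]
    rfl
  have n1 := (HomologicalComplex.singleMapHomologicalComplex F (.up ℤ) 0).hom.naturality (s i • 𝟙 u)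
  have n2 := (HomologicalComplex.singleMapHomologicalComplex G (.up ℤ) 0).inv.naturality
    (s' i • 𝟙 u')
  simp only [Functor.comp_map] at n1 n2
  rw [h1, h2]
  simp only [Iso.trans_hom, Iso.app_hom, Functor.mapIso_hom, Iso.symm_hom, Iso.app_inv,
    Category.assoc]
  erw [reassoc_of% n1, ← n2]
  rw [← Functor.map_comp_assoc, h i, Functor.map_comp_assoc]
  rfl

open Groth.Agent.Lib Groth.Agent.Lib.DerCat Crit Local Kos KosTest SiteKFlat

variable {C D : Type u} [SmallCategory C] [SmallCategory D] {J : GrothendieckTopology C}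
  {J' : GrothendieckTopology D} {O_C : Sheaf J CommRingCat.{u}} {O_D : Sheaf J' CommRingCat.{u}}
  (f : _root_.ModSite.RMor O_C O_D) {V : D}

/-- Extension by zero on complexes. -/
noncomputable abbrev jC (O : Sheaf J CommRingCat.{u}) (U : C) :
    CochainComplex (ModSite.Mod (O.over U)) ℤ ⥤ CochainComplex (ModSite.Mod O) ℤ :=
  (_root_.ModSite.extZero O U).mapHomologicalComplex (ComplexShape.up ℤ)

/-- Flat terms, concentrated in degrees `≤ 0`. -/
structure Adapted (P : CochainComplex (ModSite.Mod O_D) ℤ) : Prop where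
  flat : ∀ i, ModSite.IsFlat (P.X i)
  zero : ∀ i, 0 < i → IsZero (P.X i)

theorem Adapted.good {P : CochainComplex (ModSite.Mod O_D) ℤ} (h : Adapted P) : PullAdj.Good P := by
  haveI : P.IsStrictlyLE 0 := (CochainComplex.isStrictlyLE_iff P 0).2 h.zero
  exact ⟨Thms.isKFlat_of_bounded_above P 0 h.flat, h.flat⟩

theorem Adapted.of_iso {P Q : CochainComplex (ModSite.Mod O_D) ℤ} (e : P ≅ Q) (h : Adapted P) :
    Adapted Q where
  flat i := ModTensor.Flat.isFlat_of_iso O_D ((HomologicalComplex.eval _ _ i).mapIso e) (h.flat i)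
  zero i hi := (h.zero i hi).of_iso ((HomologicalComplex.eval _ _ i).mapIso e.symm)

theorem Adapted.cone {P : CochainComplex (ModSite.Mod O_D) ℤ} (h : Adapted P) (φ : P ⟶ P) :
    Adapted (CochainComplex.mappingCone φ) where
  flat i := PullKFlat.isFlat_mappingCone φ h.flat h.flat i
  zero i hi := by
    refine IsZero.of_iso ?_ (HomologicalComplex.homotopyCofiber.XIsoBiprod φ i (i + 1) rfl)
    rw [IsZero.iff_id_eq_zero]
    exact biprod.hom_ext' _ _ ((h.zero (i + 1) (by omega)).eq_of_src _ _)
      ((h.zero i hi).eq_of_src _ _)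

/-- The test complexes extended by zero are adapted. -/
theorem adapted_kos {ι : Type*} (s : ι → _root_.DerComp.GSec (O_D.over V)) :
    ∀ (l : List ι) (X : CochainComplex (ModSite.Mod (O_D.over V)) ℤ),
      Adapted ((jC O_D V).obj X) → Adapted ((jC O_D V).obj (kos s l X))
  | [], _, h => h
  | g :: l, X, h => adapted_kos s l _ ((h.cone _).of_iso
      (CochainComplex.mappingCone.mapHomologicalComplexIso (s g • 𝟙 X) _).symm)

theorem adapted_u₀ : Adapted ((jC O_D V).obj (u₀ (O_D.over V))) := by
  have h : Adapted ((CochainComplex.singleFunctor (ModSite.Mod O_D) 0).obj (ModSite.freeOn O_D V)) :=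
    ⟨fun i => by
      by_cases hi : i = 0
      · subst hi
        exact ModTensor.Flat.isFlat_of_iso O_D
          (HomologicalComplex.singleObjXSelf (ComplexShape.up ℤ) 0 _).symm (ExtZero.ModSite.isFlat_freeOn O_D V)
      · exact PullKFlat.isFlat_of_isZero (HomologicalComplex.isZero_single_obj_X _ _ _ _ hi),
    fun i hi => HomologicalComplex.isZero_single_obj_X _ _ _ _ (by omega)⟩
  exact h.of_iso ((HomologicalComplex.singleMapHomologicalComplex
    (_root_.ModSite.extZero O_D V) (ComplexShape.up ℤ) 0).app _).symm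

variable [SiteCmp.HasRpushD f]

set_option maxHeartbeats 800000 in
/-- Test maps into a direct image come from test maps upstairs. -/
theorem subsingleton_test_push {r : ℕ} (a : Fin r → O_D.obj.obj (op V))
    (Z : DerivedCategory (ModSite.Mod O_C))
    (h : Subsingleton (KU (fun i => Push.img f V (a i)) ⟶ (R (f.fn.obj V)).obj Z)) :
    Subsingleton (KU a ⟶ (R V).obj ((SiteCmp.RpushD f).obj Z)) := by
  let b := fun i => Push.img f V (a i)
  let V' := f.fn.obj V
  haveI : (DerivedCategory.Qh (C := ModSite.Mod O_C)).IsLeftAdjoint := inferInstance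
  let j := _root_.ModSite.extZero O_D V
  let j' := _root_.ModSite.extZero O_C V'
  let qD := HomotopyCategory.quotient (ModSite.Mod O_D) (ComplexShape.up ℤ)
  let qC := HomotopyCategory.quotient (ModSite.Mod O_C) (ComplexShape.up ℤ)
  let K := kos (S a) (List.finRange r) (u₀ (O_D.over V))
  let K' := kos (S b) (List.finRange r) (u₀ (O_C.over V'))
  let P := (jC O_D V).obj K
  have hP : PullAdj.Good P := (adapted_kos _ _ _ adapted_u₀).good
  haveI : (j ⋙ f.pull).Additive := inferInstance
  obtain ⟨eT⟩ := nonempty_transport_single (j ⋙ f.pull) j' (S a) (S b) (List.finRange r)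
    (Push.pullFreeIso f V).symm fun i => by
      have hρ := Push.ρ_pullFreeIso f V (a i)
      rw [_root_.DerComp.smul_def, Category.comp_id, _root_.DerComp.smul_def, Category.comp_id,
        Iso.symm_hom, Iso.comp_inv_eq, Category.assoc, Iso.eq_inv_comp]
      exact hρ.symm
  -- downstairs
  let adjV := adjD (_root_.ModSite.extZeroAdj O_D V)
  let eG := DerivedOX.RightDerived.totalRightDerivedIso (SiteCmp.pushKh f)
  let W := (DerivedOX.RightDerived.resFunctor (ModSite.Mod O_C)).obj Z
  obtain ⟨I₀, hI₀, ⟨eI⟩⟩ := DerivedOX.RightDerived.exists_resFunctor_obj_iso Z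
  have hbij := PullAdj.Qh_map_bijective f hP I₀ W eI
  let adjK := (DerAdj.adjK f.adj (ComplexShape.up ℤ)).comp
    (DerivedOX.RightDerived.resAdj (ModSite.Mod O_C))
  let adjV' := adjD (_root_.ModSite.extZeroAdj O_C V')
  let t : (f.pull.mapHomotopyCategory (.up ℤ) ⋙ DerivedCategory.Qh).obj (qD.obj P) ≅
      j'.mapDerivedCategory.obj (DerivedCategory.Q.obj K') :=
    DerivedCategory.Qh.mapIso (qC.mapIso eT) ≪≫
      (DerivedCategory.quotientCompQhIso (ModSite.Mod O_C)).app _ ≪≫
        (j'.mapDerivedCategoryFactors.app K').symm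
  haveI h₁ : Subsingleton (j'.mapDerivedCategory.obj (DerivedCategory.Q.obj K') ⟶ Z) :=
    (adjV'.homEquiv _ _).subsingleton
  haveI h₂ : Subsingleton ((f.pull.mapHomotopyCategory (.up ℤ) ⋙ DerivedCategory.Qh).obj (qD.obj P) ⟶ Z) :=
    ⟨fun p q => (cancel_epi t.inv).1 (h₁.elim _ _)⟩
  haveI h₃ : Subsingleton (qD.obj P ⟶ (f.push.mapHomotopyCategory (.up ℤ)).obj W) :=
    (adjK.homEquiv (qD.obj P) Z).symm.subsingleton
  haveI h₄ : Subsingleton (DerivedCategory.Qh.obj (qD.obj P) ⟶
      DerivedCategory.Qh.obj ((f.push.mapHomotopyCategory (.up ℤ)).obj W)) := hbij.2.subsingleton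
  let t' : j.mapDerivedCategory.obj (KU a) ≅ DerivedCategory.Qh.obj (qD.obj P) :=
    j.mapDerivedCategoryFactors.app K ≪≫ ((DerivedCategory.quotientCompQhIso (ModSite.Mod O_D)).app P).symm
  haveI h₅ : Subsingleton (j.mapDerivedCategory.obj (KU a) ⟶ (SiteCmp.RpushD f).obj Z) :=
    ⟨fun p q => (cancel_epi t'.inv).1 ((cancel_mono (eG.app Z).inv).1 (h₄.elim _ _))⟩
  exact (adjV.homEquiv _ _).symm.subsingleton

end Groth.Agent.Lib.DerComp.KosPush
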