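import Groth.Agent.Lib.DerComp.Crit
import Groth.Agent.Lib.DerCat.DerAdj
import Groth.Agent.Lib.DerCat.HProd
import Groth.Agent.Lib.DerivedOX.Exists
import Groth.Agent.Lib.DR.ExactPush
import Mathlib.CategoryTheory.Localization.Adjunction

/-!
# Locality of the telescope condition
-/

set_option linter.style.haveILetI false

universe w w' v v' u u'

open CategoryTheory CategoryTheory.Limits Opposite
attribute [local instance] HasDerivedCategory.standard

namespace Groth.Agent.Lib.DerComp.Local

open Groth.Agent.Lib.DerCat Groth.Agent.Lib.ExtZero Crit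

section Adj

variable {A : Type u} [Category.{v} A] [Abelian A] [HasDerivedCategory.{w} A]
  {B : Type u'} [Category.{v'} B] [Abelian B] [HasDerivedCategory.{w'} B]
  {F : A ⥤ B} {G : B ⥤ A} [F.Additive] [G.Additive] (adj : F ⊣ G)
  [PreservesFiniteLimits F] [PreservesFiniteColimits F]
  [PreservesFiniteLimits G] [PreservesFiniteColimits G]

/-- An adjunction of exact functors on derived categories. -/
noncomputable def adjD : F.mapDerivedCategory ⊣ G.mapDerivedCategory :=
  letI : CatCommSq (F.mapHomologicalComplex (ComplexShape.up ℤ)) DerivedCategory.Q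
      DerivedCategory.Q F.mapDerivedCategory := ⟨F.mapDerivedCategoryFactors.symm⟩
  letI : CatCommSq (G.mapHomologicalComplex (ComplexShape.up ℤ)) DerivedCategory.Q
      DerivedCategory.Q G.mapDerivedCategory := ⟨G.mapDerivedCategoryFactors.symm⟩
  (DerAdj.adjC adj (ComplexShape.up ℤ)).localization
    DerivedCategory.Q (HomologicalComplex.quasiIso A (ComplexShape.up ℤ))
    DerivedCategory.Q (HomologicalComplex.quasiIso B (ComplexShape.up ℤ))
    F.mapDerivedCategory G.mapDerivedCategory

end Adj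

variable {C : Type u} [SmallCategory C] {J : GrothendieckTopology C} {O : Sheaf J CommRingCat.{u}}

instance preservesFiniteLimits_extZero (U : C) : PreservesFiniteLimits (ModSite.extZero O U) :=
  ModSite.preservesFiniteLimits_extZero O U

instance preservesFiniteColimits_extZero (U : C) : PreservesFiniteColimits (ModSite.extZero O U) :=
  haveI : (ModSite.extZero O U).IsLeftAdjoint := (_root_.ModSite.extZeroAdj O U).isLeftAdjoint
  PreservesColimitsOfSize.preservesFiniteColimits.{0, 0} _

instance preservesFiniteColimits_restr (U : C) : PreservesFiniteColimits (_root_.ModSite.restr O U) :=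
  PreservesColimitsOfSize.preservesFiniteColimits.{u, u} _

/-- The restriction of an object of `D(O)`. -/
noncomputable abbrev R (U : C) :
    DerivedCategory (_root_.ModSite.Mod O) ⥤ DerivedCategory (_root_.ModSite.Mod (O.over U)) :=
  (_root_.ModSite.restr O U).mapDerivedCategory

/-- Multiplication on sections. -/
lemma freeOnEquiv_ρ (U : C) (f : O.obj.obj (op U)) {F : _root_.ModSite.Mod O}
    (x : _root_.ModSite.freeOn O U ⟶ F) :
    Restr.freeOnEquiv U F (ρ O U f ≫ x) =
      (show (_root_.ModSite.ringSh O).obj.obj (op U) from f) • Restr.freeOnEquiv U F x := by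
  change Restr.unitOverEquiv U _ ((_root_.ModSite.extZeroAdj O U).homEquiv _ _ (ρ O U f ≫ x)) = _
  rw [ρ, Adjunction.homEquiv_naturality_left, _root_.DerComp.smulEnd_comm]
  refine congrArg (fun r : (_root_.ModSite.ringSh O).obj.obj (op U) =>
    r • Restr.freeOnEquiv U F x) ?_
  change (O.obj.map (𝟙 U).op).hom f = f
  simp

variable {U V : C} (g : V ⟶ U)

/-- The free module on an object of `C/U`. -/
noncomputable abbrev Fw : _root_.ModSite.Mod (O.over U) := _root_.ModSite.freeOn (O.over U) (Over.mk g)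

/-- Sections over `V`, computed over `U`. -/
noncomputable def α (M : _root_.ModSite.Mod O) :
    ((_root_.ModSite.extZero O U).obj (Fw g) ⟶ M) ≃+ _root_.ModSite.sect M V :=
  ((_root_.ModSite.extZeroAdj O U).homAddEquiv (Fw g) M).trans
    (Restr.freeOnEquiv (Over.mk g) ((_root_.ModSite.restr O U).obj M))

lemma α_comp {M N : _root_.ModSite.Mod O} (x : (_root_.ModSite.extZero O U).obj (Fw g) ⟶ M)
    (p : M ⟶ N) : α g N (x ≫ p) = p.val.app (op V) (α g M x) := by
  change Restr.freeOnEquiv _ _ ((_root_.ModSite.extZeroAdj O U).homEquiv _ _ (x ≫ p)) = _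
  rw [Adjunction.homEquiv_naturality_right, Restr.freeOnEquiv_comp]
  rfl

/-- `j_! O_V ≅ j_{U!} (O_U)_V`. -/
noncomputable def freeIso : _root_.ModSite.freeOn O V ≅ (_root_.ModSite.extZero O U).obj (Fw g) where
  hom := (Restr.freeOnEquiv V _).symm (α g _ (𝟙 _))
  inv := (α g _).symm (Restr.freeOnEquiv V _ (𝟙 _))
  hom_inv_id := (Restr.freeOnEquiv V _).injective (by
    rw [Restr.freeOnEquiv_comp, AddEquiv.apply_symm_apply, ← α_comp, Category.id_comp,
      AddEquiv.apply_symm_apply])
  inv_hom_id := (α g _).injective (by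
    rw [α_comp, AddEquiv.apply_symm_apply, ← Restr.freeOnEquiv_comp, Category.id_comp,
      AddEquiv.apply_symm_apply])

lemma ρ_freeIso (f : O.obj.obj (op U)) :
    ρ O V ((O.obj.map g.op).hom f) ≫ (freeIso g).hom = (freeIso g).hom ≫
      (_root_.ModSite.extZero O U).map
        (_root_.DerComp.smulEnd (_root_.DerComp.GSec.ofSect O U f) (Fw g)) := by
  apply (Restr.freeOnEquiv V _).injective
  rw [freeOnEquiv_ρ, Restr.freeOnEquiv_comp]
  have h₀ : Restr.freeOnEquiv V ((_root_.ModSite.extZero O U).obj (Fw g)) (freeIso g).hom =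
      α g ((_root_.ModSite.extZero O U).obj (Fw g)) (𝟙 _) :=
    AddEquiv.apply_symm_apply _ _
  rw [h₀, ← α_comp, Category.id_comp]
  refine Eq.symm ?_
  change Restr.freeOnEquiv _ _ ((_root_.ModSite.extZeroAdj O U).homEquiv _ _
    ((_root_.ModSite.extZero O U).map _)) = _
  rw [← Category.comp_id ((_root_.ModSite.extZero O U).map _),
    Adjunction.homEquiv_naturality_left, _root_.DerComp.smulEnd_comm, Restr.freeOnEquiv_comp]
  rfl

variable (K : DerivedCategory (_root_.ModSite.Mod O)) (f : O.obj.obj (op U))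

/-- The isomorphism of test objects. -/
noncomputable def testIso :
    (_root_.ModSite.extZero O U).mapDerivedCategory.obj (SiteCmp.inD (O.over U) (Fw g)) ≅
      SiteCmp.inD O (_root_.ModSite.freeOn O V) :=
  ((_root_.ModSite.extZero O U).mapDerivedCategorySingleFunctor 0).app (Fw g) ≪≫
    (DerivedCategory.singleFunctor (_root_.ModSite.Mod O) 0).mapIso (freeIso g).symm

/-- The restriction isomorphism of morphism groups. -/
noncomputable def Ψ (n : ℤ) : (SiteCmp.inD O (_root_.ModSite.freeOn O V) ⟶ K⟦n⟧) ≃+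
    (SiteCmp.inD (O.over U) (Fw g) ⟶ ((R U).obj K)⟦n⟧) :=
  haveI : (_root_.ModSite.extZero O U).mapDerivedCategory.Additive :=
    (adjD (_root_.ModSite.extZeroAdj O U)).left_adjoint_additive
  let e : (SiteCmp.inD O (_root_.ModSite.freeOn O V) ⟶ K⟦n⟧) ≃+ _ :=
    { toFun := fun x => (testIso g).hom ≫ x
      invFun := fun x => (testIso g).inv ≫ x
      left_inv := fun x => by simp
      right_inv := fun x => by simp
      map_add' := fun _ _ => Preadditive.comp_add _ _ _ _ _ _ }
  (e.trans ((adjD (_root_.ModSite.extZeroAdj O U)).homAddEquiv _ _)).trans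
    { toFun := fun x => x ≫ ((R U).commShiftIso n).hom.app K
      invFun := fun x => x ≫ ((R U).commShiftIso n).inv.app K
      left_inv := fun x => by simp
      right_inv := fun x => by simp
      map_add' := fun _ _ => Preadditive.add_comp _ _ _ _ _ _ }

lemma Ψ_act (n : ℤ) (x : SiteCmp.inD O (_root_.ModSite.freeOn O V) ⟶ K⟦n⟧) :
    Ψ g K n (act O K V ((O.obj.map g.op).hom f) n x) =
      _root_.DerComp.GSec.ofSect O U f • Ψ g K n x := by
  let adj := adjD (_root_.ModSite.extZeroAdj O U)
  let s := _root_.DerComp.GSec.ofSect O U f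
  let j := _root_.ModSite.extZero O U
  let FC := DerivedCategory.singleFunctor (_root_.ModSite.Mod O) 0
  let FU := DerivedCategory.singleFunctor (_root_.ModSite.Mod (O.over U)) 0
  have h₁ : (testIso g).hom ≫ FC.map (ρ O V ((O.obj.map g.op).hom f)) =
      j.mapDerivedCategory.map (FU.map (_root_.DerComp.smulEnd s (Fw g))) ≫ (testIso g).hom := by
    have hn := (j.mapDerivedCategorySingleFunctor 0).hom.naturality (_root_.DerComp.smulEnd s (Fw g))
    have hρ : (freeIso g).inv ≫ ρ O V ((O.obj.map g.op).hom f) =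
        j.map (_root_.DerComp.smulEnd s (Fw g)) ≫ (freeIso g).inv := by
      rw [Iso.inv_comp_eq, ← Category.assoc, Iso.eq_comp_inv]
      exact ρ_freeIso g f
    simp only [Functor.comp_map] at hn
    simp only [testIso, Iso.trans_hom, Iso.app_hom, Functor.mapIso_hom, Iso.symm_hom,
      Category.assoc]
    rw [reassoc_of% hn, ← FC.map_comp, ← FC.map_comp, hρ]
  change adj.homEquiv _ _ ((testIso g).hom ≫ FC.map (ρ O V _) ≫ x) ≫ _ =
    s • (adj.homEquiv _ _ ((testIso g).hom ≫ x) ≫ _)
  rw [← Category.assoc, h₁, Category.assoc, Adjunction.homEquiv_naturality_left]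
  have h₂ : _root_.DerComp.smulEnd s (Fw g) = s • 𝟙 (Fw g) := by
    rw [_root_.DerComp.smul_def, Category.comp_id]
  rw [h₂, Functor.map_smul, FU.map_id, Linear.smul_comp, Category.id_comp, Linear.smul_comp]

/-- The telescope condition over `C/U`. -/
theorem good_iff (n : ℤ) :
    Function.Bijective (Tele.Φ (act O K V ((O.obj.map g.op).hom f) n)) ↔
      Function.Bijective (fun (x : ℕ → (SiteCmp.inD (O.over U) (Fw g) ⟶ ((R U).obj K)⟦n⟧)) k =>
        x k - _root_.DerComp.GSec.ofSect O U f • x (k + 1)) := by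
  let E := Equiv.piCongrRight fun _ : ℕ => (Ψ g K n).toEquiv
  rw [← Equiv.bijective_comp E, ← Equiv.comp_bijective (e := E)]
  refine Iff.of_eq (congrArg Function.Bijective (funext fun x => funext fun k => ?_))
  change Ψ g K n (x k - act O K V _ n (x (k + 1))) = Ψ g K n (x k) - _ • Ψ g K n (x (k + 1))
  rw [map_sub, Ψ_act]

variable {K f}

/-- The telescope condition is local. -/
theorem good_of_cover {U : C} {f : O.obj.obj (op U)} {S : Sieve U} (hS : S ∈ J U)
    (h : ∀ ⦃V : C⦄ (g : V ⟶ U), S g → Good O K V ((O.obj.map g.op).hom f))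
    ⦃V : C⦄ (g : V ⟶ U) : Good O K V ((O.obj.map g.op).hom f) := by
  intro n
  refine (good_iff g K f n).2 ?_
  let Y := (R U).obj K
  let s := _root_.DerComp.GSec.ofSect O U f
  haveI : (DerivedCategory.Qh (C := _root_.ModSite.Mod (O.over U))).IsLeftAdjoint := inferInstance
  haveI : HasLimitsOfShape (Discrete ℕ) (DerivedCategory (_root_.ModSite.Mod (O.over U))) :=
    HProd.hasLimitsOfShape_derivedCategory
  let P := ∏ᶜ fun _ : ℕ => Y
  let d : P ⟶ P := Pi.lift fun k => Pi.π (fun _ : ℕ => Y) k - Pi.π (fun _ : ℕ => Y) (k + 1) ≫ (s • 𝟙 Y)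
  have hP : ∀ (X : DerivedCategory (_root_.ModSite.Mod (O.over U))) (m : ℤ),
      Function.Bijective (fun (χ : X ⟶ P⟦m⟧) (k : ℕ) => χ ≫ (Pi.π (fun _ : ℕ => Y) k)⟦m⟧') := by
    intro X m
    let hl := isLimitFanMkObjOfIsLimit (shiftFunctor (DerivedCategory (_root_.ModSite.Mod (O.over U))) m)
      (fun _ : ℕ => Y) _ (productIsProduct fun _ : ℕ => Y)
    exact ⟨fun a b e => Fan.IsLimit.hom_ext hl _ _ fun k => congrFun e k,
      fun y => ⟨Fan.IsLimit.lift hl y, funext fun k => Fan.IsLimit.fac hl y k⟩⟩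
  have key : ∀ (X : DerivedCategory (_root_.ModSite.Mod (O.over U))) (m : ℤ),
      Function.Bijective (fun χ : X ⟶ P⟦m⟧ => χ ≫ d⟦m⟧') ↔
        Function.Bijective (fun (x : ℕ → (X ⟶ Y⟦m⟧)) k => x k - s • x (k + 1)) := by
    intro X m
    let E := Equiv.ofBijective _ (hP X m)
    rw [← Equiv.comp_bijective (e := E), ← Equiv.bijective_comp E
      (fun (x : ℕ → (X ⟶ Y⟦m⟧)) k => x k - s • x (k + 1))]
    refine Iff.of_eq (congrArg Function.Bijective (funext fun χ => funext fun k => ?_))
    change (χ ≫ d⟦m⟧') ≫ (Pi.π (fun _ : ℕ => Y) k)⟦m⟧' =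
      χ ≫ (Pi.π (fun _ : ℕ => Y) k)⟦m⟧' - s • (χ ≫ (Pi.π (fun _ : ℕ => Y) (k + 1))⟦m⟧')
    rw [Category.assoc, ← Functor.map_comp, Pi.lift_π, Functor.map_sub, Preadditive.comp_sub,
      Linear.comp_smul, Category.comp_id, Functor.map_smul, Linear.comp_smul]
  obtain ⟨L, a, c, hT⟩ := Pretriangulated.distinguished_cocone_triangle₁ d
  let G : {W : Over U // S W.hom} → _root_.ModSite.Mod (O.over U) := fun W =>
    _root_.ModSite.freeOn (O.over U) W.1
  have hG : ObjectProperty.IsSeparating (ObjectProperty.ofObj G) := by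
    refine Restr.isSeparating_freeOn (C := Over U) (O := O.over U) {W : Over U | S W.hom} fun X => ?_
    refine ⟨Σ Z : C, {h : Z ⟶ X.left // S (h ≫ X.hom)}, fun p => Over.mk (p.2.1 ≫ X.hom),
      fun p => Over.homMk p.2.1, ?_, fun p => p.2.2⟩
    rw [GrothendieckTopology.mem_over_iff]
    refine J.superset_covering (fun Z k hk => ?_) (J.pullback_stable X.hom hS)
    rw [Sieve.overEquiv_iff]
    exact Sieve.ofArrows_mk _ _ (⟨Z, k, hk⟩ : Σ Z : C, {h : Z ⟶ X.left // S (h ≫ X.hom)})
  have hL : IsZero L := TriVan.isZero_of_separating G hG L fun W m =>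
    TriVan.subsingleton_fibre hT _ (fun m => (key _ m).2 ((good_iff W.1.hom K f m).1 (h W.1.hom W.2 m))) m
  haveI : IsIso d := (Pretriangulated.Triangle.isZero₁_iff_isIso₂ _ hT).1 hL
  refine (key _ n).1 ⟨fun a b e => (cancel_mono (d⟦n⟧')).1 e, fun χ => ⟨χ ≫ inv (d⟦n⟧'), ?_⟩⟩
  simp

end Groth.Agent.Lib.DerComp.Local
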