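import Groth.Agent.Lib.DerComp.Push
import Mathlib.Topology.Sheaves.SheafCondition.Sites
import Mathlib.Algebra.Category.ModuleCat.Sheaf.PushforwardContinuous

/-!
# The inclusion of an open subspace as a morphism of ringed sites
-/

universe u

open CategoryTheory CategoryTheory.Limits Opposite TopologicalSpace
attribute [local instance] HasDerivedCategory.standard

namespace Groth.Agent.Lib.DerComp.OpenIncl

variable {X : Type u} [TopologicalSpace X] (U : Opens X)

/-- `V ↦ V ⊓ U`. -/
def cut : Opens X ⥤ Over U where
  obj V := Over.mk (homOfLE (inf_le_right : V ⊓ U ≤ U))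
  map {V W} g := Over.homMk (homOfLE (inf_le_inf (leOfHom g) le_rfl)) (Subsingleton.elim _ _)

/-- `forget ⊣ cut`. -/
def cutAdj : Over.forget U ⊣ cut U :=
  Adjunction.mkOfUnitCounit
    { unit := { app := fun W => Over.homMk (homOfLE (le_inf le_rfl (leOfHom W.hom))) (Subsingleton.elim _ _)
                naturality := fun _ _ _ => Over.OverMorphism.ext (Subsingleton.elim _ _) }
      counit := { app := fun V => homOfLE inf_le_left
                  naturality := fun _ _ _ => Subsingleton.elim _ _ }
      left_triangle := by ext W; exact Subsingleton.elim _ _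
      right_triangle := by ext V; exact Subsingleton.elim _ _ }

instance isContinuous_cut :
    (cut U).IsContinuous (Opens.grothendieckTopology X) ((Opens.grothendieckTopology X).over U) :=
  (cutAdj U).isContinuous_of_isCocontinuous _ _

variable (O : Sheaf (Opens.grothendieckTopology X) CommRingCat.{u})

/-- The inclusion of `U`. -/
noncomputable def incl : _root_.ModSite.RMor (O.over U) O where
  fn := cut U
  exact :=
    haveI := (cutAdj U).isRightAdjoint
    haveI : PreservesFiniteLimits (cut U) := inferInstance
    haveI := flat_of_preservesFiniteLimits (cut U)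
    _root_.ModSite.RMor.exact_of_flat (cut U)
  sharp :=
    ⟨{ app := fun V => O.obj.map ((cutAdj U).counit.app V.unop).op
       naturality := fun V W g => (O.obj.map_comp _ _).symm.trans
         ((congrArg O.obj.map (Subsingleton.elim _ _)).trans (O.obj.map_comp _ _)) }⟩

/-- Restriction is left adjoint to the direct image. -/
noncomputable def restrAdj : _root_.ModSite.restr O U ⊣ (incl U O).push :=
  SheafOfModules.pushforwardPushforwardAdj (cutAdj U) (𝟙 ((_root_.ModSite.ringSh O).over U))
    (incl U O).sharpR
    (by ext V : 2; exact (Category.comp_id _).symm)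
    (by
      ext W : 2
      refine (Category.id_comp _).trans ?_
      change (_root_.ModSite.ringSh O).obj.map _ ≫ (_root_.ModSite.ringSh O).obj.map _ = _
      rw [← Functor.map_comp]
      exact (congrArg (_root_.ModSite.ringSh O).obj.map (Subsingleton.elim _ (𝟙 _))).trans
        ((_root_.ModSite.ringSh O).obj.map_id _))

variable {O}

instance hasRpushD_incl : SiteCmp.HasRpushD (incl U O) :=
  DerivedOX.RightDerived.hasRightDerivedFunctor (SiteCmp.pushKh (incl U O))

/-- `R j_*` of a complete object is complete. -/
theorem isDerComp_rpushD (I : _root_.DerComp.IdealSh O)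
    (E : DerivedCategory (_root_.ModSite.Mod (O.over U)))
    (hE : _root_.DerComp.IsDerComp (O.over U) (I.over U) E) :
    _root_.DerComp.IsDerComp O I ((SiteCmp.RpushD (incl U O)).obj E) := by
  intro V f hf
  exact (Crit.van_iff_good O _ V f).2 ((Push.good_push (incl U O) V E f).2
    ((Crit.van_iff_good (O.over U) E _ _).1 (hE _ _ (I.map_mem _ hf))))

end Groth.Agent.Lib.DerComp.OpenIncl
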