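import Groth.Agent.Lib.DerComp.RHomComplete
import Groth.Agent.Lib.DerComp.OpenIncl

/-!
# Testing derived completion against objects killed by powers of the generators
-/

set_option linter.style.haveILetI false

universe u

open CategoryTheory CategoryTheory.Limits Opposite Pretriangulated
attribute [local instance] HasDerivedCategory.standard

namespace Groth.Agent.Lib.DerComp.NilpTest

open Groth.Agent.Lib Groth.Agent.Lib.DerCat Crit Local

variable {C : Type u} [SmallCategory C] {J : GrothendieckTopology C} {O : Sheaf J CommRingCat.{u}}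

/-- Powers of `g` kill `Y`. -/
def Kills (g : _root_.DerComp.GSec O) (Y : DerivedCategory (ModSite.Mod O)) : Prop :=
  ∃ N : ℕ, g ^ N • 𝟙 Y = 0

/-- Powers of every member of the family kill `Y`. -/
def Nilp {ι : Type*} (s : ι → _root_.DerComp.GSec O) (Y : DerivedCategory (ModSite.Mod O)) : Prop :=
  ∀ i, Kills (s i) Y

theorem Kills.of_iso {g : _root_.DerComp.GSec O} {Y Y' : DerivedCategory (ModSite.Mod O)} (h : Kills g Y)
    (e : Y ≅ Y') : Kills g Y' := by
  obtain ⟨N, hN⟩ := h
  refine ⟨N, ?_⟩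
  rw [← cancel_epi e.hom, comp_zero, Linear.comp_smul, Category.comp_id]
  calc g ^ N • e.hom = (g ^ N • 𝟙 Y) ≫ e.hom := by rw [Linear.smul_comp, Category.id_comp]
    _ = 0 := by rw [hN, zero_comp]

theorem Kills.shift {g : _root_.DerComp.GSec O} {Y : DerivedCategory (ModSite.Mod O)} (h : Kills g Y) (n : ℤ) :
    Kills g (Y⟦n⟧) := by
  obtain ⟨N, hN⟩ := h
  exact ⟨N, by rw [← CategoryTheory.Functor.map_id, ← Functor.map_smul, hN, Functor.map_zero]⟩

theorem kills_obj₃ {g : _root_.DerComp.GSec O} {T : Triangle (DerivedCategory (ModSite.Mod O))}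
    (hT : T ∈ distinguishedTriangles) (h₁ : Kills g T.obj₁) (h₂ : Kills g T.obj₂) : Kills g T.obj₃ := by
  obtain ⟨N, hN⟩ := h₁.shift 1
  obtain ⟨M, hM⟩ := h₂
  obtain ⟨ω, hω⟩ := T.yoneda_exact₃ hT (g ^ M • 𝟙 T.obj₃) (by
    rw [Linear.comp_smul, Category.comp_id]
    calc g ^ M • T.mor₂ = (g ^ M • 𝟙 T.obj₂) ≫ T.mor₂ := by rw [Linear.smul_comp, Category.id_comp]
      _ = 0 := by rw [hM, zero_comp])
  refine ⟨N + M, ?_⟩
  rw [pow_add, mul_smul, hω]
  calc g ^ N • (T.mor₃ ≫ ω) = T.mor₃ ≫ (g ^ N • 𝟙 (T.obj₁⟦(1 : ℤ)⟧)) ≫ ω := by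
        rw [Linear.smul_comp, Category.id_comp, Linear.comp_smul]
    _ = 0 := by rw [hN, zero_comp, comp_zero]

/-- The cone of multiplication by `g` is killed by powers of `g`. -/
theorem kills_cone {g : _root_.DerComp.GSec O} {D D' : DerivedCategory (ModSite.Mod O)}
    {m₂ : D ⟶ D'} {m₃ : D' ⟶ D⟦(1 : ℤ)⟧}
    (hT : Triangle.mk (g • 𝟙 D) m₂ m₃ ∈ distinguishedTriangles) : Kills g D' := by
  obtain ⟨ω, hω⟩ := (Triangle.mk (g • 𝟙 D) m₂ m₃).yoneda_exact₃ hT (g • 𝟙 D') (by
    change m₂ ≫ (g • 𝟙 D') = 0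
    rw [Linear.comp_smul, Category.comp_id]
    calc g • m₂ = (g • 𝟙 D) ≫ m₂ := by rw [Linear.smul_comp, Category.id_comp]
      _ = 0 := comp_distTriang_mor_zero₁₂ _ hT)
  refine ⟨2, ?_⟩
  change g • 𝟙 D' = m₃ ≫ ω at hω
  have h₃₁ : g • m₃ = 0 := by
    calc g • m₃ = m₃ ≫ (g • 𝟙 D)⟦(1 : ℤ)⟧' := by
          rw [Functor.map_smul, CategoryTheory.Functor.map_id, Linear.comp_smul, Category.comp_id]
      _ = 0 := comp_distTriang_mor_zero₃₁ _ hT
  rw [pow_two, mul_smul, hω]
  calc g • (m₃ ≫ ω) = (g • m₃) ≫ ω := (Linear.smul_comp _ _ _ _ _ _).symm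
    _ = 0 := by rw [h₃₁, zero_comp]

theorem isDerComp_shift {I : _root_.DerComp.IdealSh O} {K : DerivedCategory (ModSite.Mod O)}
    (h : _root_.DerComp.IsDerComp O I K) (m : ℤ) : _root_.DerComp.IsDerComp O I (K⟦m⟧) :=
  fun U f hf n => by
    haveI := h U f hf (m + n)
    exact ⟨fun a b => (cancel_mono ((shiftFunctorAdd (DerivedCategory (ModSite.Mod O)) m n).inv.app K)).1
      (Subsingleton.elim _ _)⟩

theorem isDerComp_obj₃ {I : _root_.DerComp.IdealSh O} {T : Triangle (DerivedCategory (ModSite.Mod O))}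
    (hT : T ∈ distinguishedTriangles) (h₁ : _root_.DerComp.IsDerComp O I T.obj₁)
    (h₂ : _root_.DerComp.IsDerComp O I T.obj₂) : _root_.DerComp.IsDerComp O I T.obj₃ :=
  fun U f hf n => by
    haveI := h₂ U f hf n
    refine ⟨fun a b => sub_eq_zero.1 ?_⟩
    have hS := Triangle.shift_distinguished _ hT n
    have h0 : (a - b) ≫ ((Triangle.shiftFunctor _ n).obj T).mor₃ = 0 := by
      refine (cancel_mono ((shiftFunctorComm (DerivedCategory (ModSite.Mod O)) n 1).app T.obj₁).hom).1 ?_
      exact (isDerComp_shift h₁ 1 U f hf n).elim _ _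
    obtain ⟨c, hc⟩ := ((Triangle.shiftFunctor _ n).obj T).coyoneda_exact₃ hS _ h0
    exact hc.trans ((congrArg (· ≫ _) ((h₂ U f hf n).elim c 0)).trans zero_comp)

/-- Maps between telescopes of nilpotent endomorphisms. -/
theorem bijective_tele {M : Type*} [AddCommGroup M] (f : M →+ M) (N : ℕ) (hN : ∀ x, f^[N] x = 0) :
    Function.Bijective (fun (x : ℕ → M) k => x k - f (x (k + 1))) := by
  refine ⟨fun x y h => funext fun k => sub_eq_zero.1 ?_, fun y => ?_⟩
  · have hk : ∀ m k, x k - y k = f^[m] (x (k + m) - y (k + m)) := by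
      intro m
      induction m with
      | zero => intro k; rfl
      | succ m ih =>
        intro k
        rw [ih k, Function.iterate_succ_apply]
        refine congrArg _ ?_
        have := congrFun h (k + m)
        simp only at this
        rw [map_sub, ← add_assoc k m 1]
        exact sub_eq_sub_iff_sub_eq_sub.1 this
    rw [hk N k, hN]
  · refine ⟨fun k => ∑ j ∈ Finset.range N, f^[j] (y (k + j)), funext fun k => ?_⟩
    have e : ∀ j, f (f^[j] (y (k + 1 + j))) = f^[j + 1] (y (k + (j + 1))) := fun j => by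
      rw [Function.iterate_succ_apply', show k + 1 + j = k + (j + 1) by omega]
    show _ - f _ = _
    rw [map_sum, ← Finset.sum_sub_distrib]
    simp only [e]
    rw [Finset.sum_range_sub' (fun j => f^[j] (y (k + j))) N, hN]
    simp

/-- An object killed by powers of generators is derived complete. -/
theorem isDerComp_of_nilp {ι : Type*} {s : ι → _root_.DerComp.GSec O} {I : _root_.DerComp.IdealSh O}
    (hI : I.IsGenBy s) {K : DerivedCategory (ModSite.Mod O)} (hK : Nilp s K) :
    _root_.DerComp.IsDerComp O I K := by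
  let I' : _root_.DerComp.IdealSh O :=
    { ideal := fun U =>
        { carrier := {f | ∀ (V : C) (g : V ⟶ U), Good O K V ((O.obj.map g.op).hom f)}
          add_mem' := fun {a b} ha hb V g => by
            rw [map_add]
            exact good_add V (ha V g) (hb V g)
          zero_mem' := fun V g => by
            rw [map_zero]
            exact good_zero V
          smul_mem' := fun a f hf V g => by
            rw [smul_eq_mul, map_mul]
            exact good_mul V _ (hf V g) }
      map_mem := fun {U V} g f hf W g' => by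
        rw [← CommRingCat.comp_apply, ← Functor.map_comp, ← op_comp]
        exact hf W (g' ≫ g)
      glue := fun {U f} S hS h V g => good_of_cover hS (fun W k hk => by
        simpa using h k hk W (𝟙 W)) g }
  have hle : I ≤ I' := hI.2 I' fun i U V g => by
    intro n
    obtain ⟨N, hN⟩ := hK i
    have e1 : (O.obj.map g.op).hom ((s i).1 U) = (s i).1 V := _root_.DerComp.GSec.compat (s i) g
    rw [e1]
    have hρ : ρ O V ((s i).1 V) = s i • 𝟙 (ModSite.freeOn O V) := by
      rw [_root_.DerComp.smul_def, Category.comp_id]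
      apply (ExtZero.Restr.freeOnEquiv V _).injective
      rw [← Category.comp_id (ρ O V _), freeOnEquiv_ρ, ← Category.id_comp (_root_.DerComp.smulEnd (s i) _),
        ExtZero.Restr.freeOnEquiv_comp]
      exact (_root_.DerComp.smulEnd_apply _ _ _ _).symm
    have hact : ∀ x, act O K V ((s i).1 V) n x = s i • x := fun x => by
      change (DerivedCategory.singleFunctor (ModSite.Mod O) 0).map (ρ O V ((s i).1 V)) ≫ x = _
      rw [hρ, Functor.map_smul, CategoryTheory.Functor.map_id, Linear.smul_comp, Category.id_comp]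
    refine bijective_tele _ N fun x => ?_
    have hit : ∀ m, (act O K V ((s i).1 V) n)^[m] x = s i ^ m • x := fun m => by
      induction m with
      | zero => simp
      | succ m ih => rw [Function.iterate_succ_apply', ih, hact, pow_succ', mul_smul]
    rw [hit]
    calc s i ^ N • x = x ≫ (s i ^ N • 𝟙 K)⟦n⟧' := by
          rw [Functor.map_smul, CategoryTheory.Functor.map_id, Linear.comp_smul, Category.comp_id]
      _ = 0 := by rw [hN, Functor.map_zero, comp_zero]
  intro U f hf
  exact (van_iff_good O K U f).2 (by simpa using hle U hf U (𝟙 U))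

variable {ι : Type*} {s : ι → _root_.DerComp.GSec O} {I : _root_.DerComp.IdealSh O}

/-- An object with no maps to derived complete objects has no maps from objects killed by generators. -/
theorem subsingleton_hom_of_nilp (hI : I.IsGenBy s) : ∀ (l : List ι) (D : DerivedCategory (ModSite.Mod O)),
    (∀ E, _root_.DerComp.IsDerComp O I E → Subsingleton (D ⟶ E)) → (∀ i, i ∉ l → Kills (s i) D) →
    ∀ Y, Nilp s Y → Subsingleton (Y ⟶ D)
  | [], D, h0, hl, Y, _ => by
    haveI := h0 D (isDerComp_of_nilp hI fun i => hl i List.not_mem_nil)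
    exact ⟨fun a b => by rw [← Category.comp_id a, ← Category.comp_id b, Subsingleton.elim (𝟙 D) 0,
      comp_zero, comp_zero]⟩
  | g :: l, D, h0, hl, Y, hY => by
    obtain ⟨D', m₂, m₃, hT⟩ := distinguished_cocone_triangle (s g • 𝟙 D)
    have h0' : ∀ E, _root_.DerComp.IsDerComp O I E → Subsingleton (D' ⟶ E) := fun E hE => by
      have := (TriVan.subsingleton_iff_bijective hT E).2 (fun n => by
        haveI := h0 _ (isDerComp_shift hE n)
        exact ⟨fun a b _ => Subsingleton.elim (α := D ⟶ E⟦n⟧) a b,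
          fun y => ⟨0, Subsingleton.elim (α := D ⟶ E⟦n⟧) _ _⟩⟩) 0
      exact ⟨fun a b => (cancel_mono ((shiftFunctorZero (DerivedCategory (ModSite.Mod O)) ℤ).inv.app E)).1
        (this.elim _ _)⟩
    haveI := subsingleton_hom_of_nilp hI l D' h0' (fun i hi => by
      by_cases hig : i = g
      · subst hig
        exact kills_cone hT
      · exact kills_obj₃ hT (hl i (by simp [hig, hi])) (hl i (by simp [hig, hi]))) Y hY
    have hdiv : ∀ x : Y ⟶ D, ∃ y, s g • y = x := fun x => by
      obtain ⟨y, hy⟩ : ∃ y : Y ⟶ D, x = y ≫ (s g • 𝟙 D) :=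
        (Triangle.mk (s g • 𝟙 D) m₂ m₃).coyoneda_exact₂ hT x (Subsingleton.elim (α := Y ⟶ D') _ _)
      exact ⟨y, by rw [hy, Linear.comp_smul, Category.comp_id]⟩
    obtain ⟨N, hN⟩ := hY g
    have hdivN : ∀ (m : ℕ) (x : Y ⟶ D), ∃ y, s g ^ m • y = x := fun m => by
      induction m with
      | zero => exact fun x => ⟨x, by rw [pow_zero, one_smul]⟩
      | succ m ih =>
        intro x
        obtain ⟨y, rfl⟩ := ih x
        obtain ⟨z, rfl⟩ := hdiv y
        exact ⟨z, by rw [pow_succ, mul_smul]⟩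
    refine subsingleton_of_forall_eq 0 fun x => ?_
    obtain ⟨y, rfl⟩ := hdivN N x
    calc s g ^ N • y = (s g ^ N • 𝟙 Y) ≫ y := by rw [Linear.smul_comp, Category.id_comp]
      _ = 0 := by rw [hN, zero_comp]

/-- Sequences for a bijective telescope and a bijective map. -/
theorem eq_zero_of_tele {M : Type*} [AddCommGroup M] (f : M → M) (hf : Function.Bijective f)
    (h : Function.Bijective (fun (x : ℕ → M) k => x k - f (x (k + 1)))) (hf0 : f 0 = 0) (m : M) : m = 0 := by
  obtain ⟨g, hg⟩ := hf.2.hasRightInverse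
  let x : ℕ → M := fun k => g^[k] m
  have hx : (fun k => x k - f (x (k + 1))) = fun k => (0 : ℕ → M) k - f ((0 : ℕ → M) (k + 1)) := by
    funext k
    simp [x, Function.iterate_succ_apply', hg _, hf0]
  exact congrFun (h.1 hx) 0

/-- A derived complete object seen by no killed object is locally zero. -/
theorem subsingleton_hom_restr {U : C} {ι : Type*} {a : ι → O.obj.obj (op U)}
    (ha : ∀ i, a i ∈ I.ideal U) {K : DerivedCategory (ModSite.Mod O)} (hK : _root_.DerComp.IsDerComp O I K)
    (h : ∀ Y, Nilp (fun i => _root_.DerComp.GSec.ofSect O U (a i)) Y → ∀ n : ℤ,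
      Subsingleton (Y ⟶ (R U).obj (K⟦n⟧))) :
    ∀ (l : List ι) (X : DerivedCategory (ModSite.Mod (O.over U))),
      (∀ i, i ∉ l → Kills (_root_.DerComp.GSec.ofSect O U (a i)) X) →
      ∀ n : ℤ, Subsingleton (X ⟶ (R U).obj (K⟦n⟧))
  | [], X, hl, n => h X (fun i => hl i List.not_mem_nil) n
  | g :: l, X, hl, n => by
    let t := _root_.DerComp.GSec.ofSect O U (a g)
    obtain ⟨X', m₂, m₃, hT⟩ := distinguished_cocone_triangle (t • 𝟙 X)
    have h' := subsingleton_hom_restr ha hK h l X' (fun i hi => by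
      by_cases hig : i = g
      · subst hig
        exact kills_cone hT
      · exact kills_obj₃ hT (hl i (by simp [hig, hi])) (hl i (by simp [hig, hi])))
    let Z := (R U).obj (K⟦n⟧)
    have hb := (TriVan.subsingleton_iff_bijective hT Z).1 (fun m => by
      let e : Z⟦m⟧ ≅ (R U).obj (K⟦n + m⟧) :=
        ((R U).commShiftIso m).symm.app (K⟦n⟧) ≪≫ (R U).mapIso ((shiftFunctorAdd _ n m).symm.app K)
      exact ⟨fun p q => (cancel_mono e.hom).1 ((h' (n + m)).elim _ _)⟩) 0
    let z := (shiftFunctorZero (DerivedCategory (ModSite.Mod (O.over U))) ℤ).app Z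
    have hmul : Function.Bijective (fun χ : X ⟶ Z => t • χ) := by
      have e : (fun χ : X ⟶ Z => t • χ) =
          (fun χ : X ⟶ Z⟦(0 : ℤ)⟧ => χ ≫ z.hom) ∘ (fun χ => (t • 𝟙 X) ≫ χ) ∘ fun χ => χ ≫ z.inv := by
        funext χ
        simp [Linear.smul_comp]
      rw [e]
      exact z.homToEquiv.bijective.comp (hb.comp z.symm.homToEquiv.bijective)
    have hgood : ∀ ⦃V : C⦄ (p : V ⟶ U), Good O (K⟦n⟧) V ((O.obj.map p.op).hom (a g)) := fun V p =>
      (van_iff_good O _ V _).1 (isDerComp_shift hK n V _ (I.map_mem p (ha g)))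
    refine subsingleton_of_forall_eq 0 fun x => ?_
    exact eq_zero_of_tele (fun χ : X ⟶ Z => t • χ) hmul
      (RHomComplete.bijective_of_good (K⟦n⟧) hgood X) (smul_zero _) x

/-- A map of derived complete objects is invertible if the test objects see it as invertible. -/
theorem isIso_of_test {K K' : DerivedCategory (ModSite.Mod O)} (v : K ⟶ K')
    (hK : _root_.DerComp.IsDerComp O I K) (hK' : _root_.DerComp.IsDerComp O I K') (hI : I.IsFiniteType)
    (h : ∀ (U : C) (r : ℕ) (a : Fin r → O.obj.obj (op U)),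
      (I.over U).IsGenBy (fun i => _root_.DerComp.GSec.ofSect O U (a i)) →
      ∀ Y, Nilp (fun i => _root_.DerComp.GSec.ofSect O U (a i)) Y →
        Function.Bijective (fun x : Y ⟶ (R U).obj K => x ≫ (R U).map v)) : IsIso v := by
  obtain ⟨N, m₂, m₃, hT⟩ := distinguished_cocone_triangle v
  have hN : _root_.DerComp.IsDerComp O I N := isDerComp_obj₃ hT hK hK'
  refine (Triangle.isZero₃_iff_isIso₁ _ hT).1 ?_
  let S : Set C := {U | ∃ (r : ℕ) (a : Fin r → O.obj.obj (op U)),
    (I.over U).IsGenBy fun i => _root_.DerComp.GSec.ofSect O U (a i)}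
  haveI : (DerivedCategory.Qh (C := ModSite.Mod O)).IsLeftAdjoint := inferInstance
  refine TriVan.isZero_of_separating (fun U : S => ModSite.freeOn O (U : C))
    (ExtZero.Restr.isSeparating_freeOn S fun X => ?_) N fun U m => ?_
  · obtain ⟨T, hT', hgen⟩ := hI X
    refine ⟨Σ Z : C, {k : Z ⟶ X // T k}, fun p => p.1, fun p => p.2.1, ?_, fun p => hgen p.2.1 p.2.2⟩
    refine J.superset_covering (fun Z k hk => ?_) hT'
    exact Sieve.ofArrows_mk _ _ (⟨Z, k, hk⟩ : Σ Z : C, {k : Z ⟶ X // T k})
  obtain ⟨U, r, a, hgen⟩ := U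
  let s := fun i => _root_.DerComp.GSec.ofSect O U (a i)
  have ha : ∀ i, a i ∈ I.ideal U := fun i => by
    have := hgen.1 i (Over.mk (𝟙 U))
    simp [_root_.DerComp.GSec.ofSect, _root_.DerComp.IdealSh.over] at this
    exact this
  have hloc : ∀ Y, Nilp s Y → ∀ n : ℤ, Subsingleton (Y ⟶ (R U).obj (N⟦n⟧)) := by
    intro Y hY n
    let T := (R U).mapTriangle.obj (Triangle.mk v m₂ m₃)
    have hTU : T ∈ distinguishedTriangles := (R U).map_distinguished _ hT
    let Y' := Y⟦-n⟧
    have hY' : Nilp s Y' := fun i => (hY i).shift (-n)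
    have hsub : Subsingleton (Y' ⟶ T.obj₃) := by
      refine subsingleton_of_forall_eq 0 fun x => ?_
      have hx : x ≫ T.mor₃ = 0 := by
        let c := (shiftFunctorCompIsoId (DerivedCategory (ModSite.Mod (O.over U))) (-1 : ℤ) 1 (by omega)).app Y'
        obtain ⟨w, hw⟩ := (shiftFunctor (DerivedCategory (ModSite.Mod (O.over U))) (1 : ℤ)).map_surjective
          (c.hom ≫ x ≫ T.mor₃)
        have h0 : w ≫ T.mor₁ = 0 := (shiftFunctor (DerivedCategory (ModSite.Mod (O.over U))) (1 : ℤ)).map_injective (by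
          rw [Functor.map_comp, hw, Functor.map_zero, Category.assoc, Category.assoc]
          erw [comp_distTriang_mor_zero₃₁ _ hTU]
          simp)
        have hw0 : w = 0 := (h U r a hgen _ fun i => (hY' i).shift (-1)).1 (h0.trans zero_comp.symm)
        rw [← cancel_epi c.hom, ← hw, hw0, Functor.map_zero, comp_zero]
      obtain ⟨y, rfl⟩ := T.coyoneda_exact₃ hTU x hx
      obtain ⟨z, rfl⟩ := (h U r a hgen Y' hY').2 y
      change (z ≫ T.mor₁) ≫ T.mor₂ = 0
      exact (Category.assoc _ _ _).trans ((congrArg (z ≫ ·) (comp_distTriang_mor_zero₁₂ _ hTU)).trans comp_zero)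
    refine ⟨fun p q => ?_⟩
    apply (shiftFunctor (DerivedCategory (ModSite.Mod (O.over U))) (-n)).map_injective
    exact (cancel_mono (((R U).commShiftIso (-n)).inv.app (N⟦n⟧) ≫
      (R U).map ((shiftFunctorCompIsoId _ n (-n) (by omega)).hom.app N))).1 (hsub.elim _ _)
  have hW := subsingleton_hom_restr (U := U) ha hN hloc (List.finRange r) (SiteCmp.inD (O.over U) (Fw (𝟙 U)))
    (fun i hi => absurd (List.mem_finRange i) hi) m
  exact ⟨fun p q => (Ψ (𝟙 U) N m).injective ((cancel_mono (((R U).commShiftIso m).inv.app N)).1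
    (hW.elim _ _))⟩

section Open

variable {X : Type u} [TopologicalSpace X] {O : Sheaf (Opens.grothendieckTopology X) CommRingCat.{u}}
  {I : _root_.DerComp.IdealSh O} [_root_.DerComp.HasDerCompletion O I]

open TopologicalSpace

/-- Completion is invisible to objects killed by generators. -/
theorem bijective_toDerCompletion (M : DerivedCategory (ModSite.Mod O)) {U : Opens X} {ι : Type*} [Fintype ι]
    (s : ι → _root_.DerComp.GSec (O.over U)) (hs : (I.over U).IsGenBy s)
    (Y : DerivedCategory (ModSite.Mod (O.over U))) (hY : Nilp s Y) :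
    Function.Bijective (fun x : Y ⟶ (R U).obj M => x ≫ (R U).map (_root_.DerComp.toDerCompletion I M)) := by
  classical
  haveI : (DerivedCategory.Qh (C := ModSite.Mod (O.over U))).IsLeftAdjoint := inferInstance
  let u₀ := _root_.DerComp.toDerCompletion I M
  let j := OpenIncl.incl U O
  let adj : R U ⊣ SiteCmp.RpushD j :=
    (DerCat.DerAdj.derivedAdj (OpenIncl.restrAdj U O)).ofNatIsoRight
      (DerivedOX.RightDerived.totalRightDerivedIso (SiteCmp.pushKh j))
  let adjC := _root_.DerComp.derCompletionAdj O I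
  obtain ⟨Cn, m₂, m₃, hT⟩ := distinguished_cocone_triangle u₀
  have hC : ∀ E, _root_.DerComp.IsDerComp O I E → Subsingleton (Cn ⟶ E) := fun E hE => by
    have := (TriVan.subsingleton_iff_bijective hT E).2 (fun n => by
      let E' : _root_.DerComp.DComp O I := ⟨E⟦n⟧, isDerComp_shift hE n⟩
      have e : (fun y : ((_root_.DerComp.derCompletion O I).obj M).obj ⟶ E⟦n⟧ => u₀ ≫ y) =
          fun y => adjC.homEquiv M E' (ObjectProperty.homMk y) := funext fun y => by
        rw [Adjunction.homEquiv_unit]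
        rfl
      change Function.Bijective (fun y : ((_root_.DerComp.derCompletion O I).obj M).obj ⟶ E⟦n⟧ => u₀ ≫ y)
      rw [e]
      exact (adjC.homEquiv M E').bijective.comp ⟨fun a b h => congrArg (fun z => z.hom) h, fun y => ⟨y.hom, rfl⟩⟩) 0
    exact ⟨fun a b => (cancel_mono ((shiftFunctorZero (DerivedCategory (ModSite.Mod O)) ℤ).inv.app E)).1
      (this.elim _ _)⟩
  let T := (R U).mapTriangle.obj (Triangle.mk u₀ m₂ m₃)
  have hTU : T ∈ distinguishedTriangles := (R U).map_distinguished _ hT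
  have h3 : ∀ Y', Nilp s Y' → Subsingleton (Y' ⟶ T.obj₃) := fun Y' hY' =>
    subsingleton_hom_of_nilp hs (Finset.univ : Finset ι).toList T.obj₃ (fun E hE => by
      haveI := hC _ (OpenIncl.isDerComp_rpushD U I E hE)
      exact ⟨fun a b => (adj.homEquiv Cn E).injective (Subsingleton.elim _ _)⟩)
      (fun i hi => absurd (Finset.mem_toList.2 (Finset.mem_univ i)) hi) Y' hY'
  refine ⟨fun p q hpq => sub_eq_zero.1 ?_, fun y => ?_⟩
  · obtain ⟨z, hz⟩ := T.invRotate.coyoneda_exact₂ (inv_rot_of_distTriang _ hTU) (p - q) (by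
      change (p - q) ≫ (R U).map u₀ = 0
      rw [Preadditive.sub_comp, sub_eq_zero]
      exact hpq)
    have h1 := h3 _ (fun i => (hY i).shift 1)
    haveI : Subsingleton (Y ⟶ T.obj₃⟦(-1 : ℤ)⟧) := ⟨fun a b => by
      apply (shiftFunctor (DerivedCategory (ModSite.Mod (O.over U))) (1 : ℤ)).map_injective
      exact (cancel_mono ((shiftFunctorCompIsoId (DerivedCategory (ModSite.Mod (O.over U))) (-1 : ℤ) 1
        (by omega)).app T.obj₃).hom).1 (h1.elim _ _)⟩
    rw [hz, show z = 0 from Subsingleton.elim (α := Y ⟶ T.obj₃⟦(-1 : ℤ)⟧) _ _]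
    exact zero_comp
  · obtain ⟨z, hz⟩ := T.coyoneda_exact₂ hTU y ((h3 Y hY).elim _ _)
    exact ⟨z, hz.symm⟩

end Open

end Groth.Agent.Lib.DerComp.NilpTest
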