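import Groth.Agent.Lib.DerComp.NilpTest

/-!
# Tensoring an extension by zero of an object killed by generators
-/

set_option linter.style.haveILetI false

universe u

open CategoryTheory CategoryTheory.Limits Opposite HomologicalComplex
attribute [local instance] HasDerivedCategory.standard

namespace Groth.Agent.Lib.DerComp.ProjNilp

open Groth.Agent.Lib Groth.Agent.Lib.DerCat NilpTest

variable {C : Type u} [SmallCategory C] {J : GrothendieckTopology C} {O : Sheaf J CommRingCat.{u}} (U : C)

instance preservesFiniteColimits_EZ : PreservesFiniteColimits (ExtZero.ModSite.EZ O U) :=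
  haveI : PreservesColimitsOfSize.{u, u} (ExtZero.ModSite.EZ O U) :=
    (ExtZero.ModSite.adjEZ O U).leftAdjoint_preservesColimits
  PreservesColimitsOfSize.preservesFiniteColimits _

/-- Multiplication passes to tensor products of complexes. -/
theorem tensorCx_smul (s : _root_.DerComp.GSec O) (A L : CochainComplex (ModSite.Mod O) ℤ) :
    ((ModSite.tensorCx O).flip.obj L).map (s • 𝟙 A) = s • 𝟙 (((ModSite.tensorCx O).flip.obj L).obj A) := by
  refine HomologicalComplex.hom_ext _ _ fun n => ?_
  refine HomologicalComplex.mapBifunctor.hom_ext fun p q h => ?_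
  rw [RHomAway.smul_id_f]
  refine Eq.trans ?_ (_root_.DerComp.smulEnd_comm s _)
  change ιMapBifunctor A L (ModSite.tensorBi O) (.up ℤ) p q n h ≫
    (mapBifunctorMap (s • 𝟙 A) (𝟙 L) (ModSite.tensorBi O) (.up ℤ)).f n = _
  rw [ι_mapBifunctorMap, RHomAway.smul_id_f, RHomComplete.smulEnd_tensor_left, HomologicalComplex.id_f,
    CategoryTheory.Functor.map_id, Category.id_comp]
  rfl

/-- Tensoring a resolved complex killed in the derived category. -/
theorem tensor_eq_zero (A₀ L : CochainComplex (ModSite.Mod O) ℤ)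
    (g : (SiteKFlat.Basic.res O).obj A₀ ⟶ (SiteKFlat.Basic.res O).obj A₀) (hg : DerivedCategory.Q.map g = 0) :
    (ModSite.tensorCxQ L).map g = 0 := by
  let hψ := SiteExact.Derived.isAdapted_tensorCxQ (O := O) L
  let c := DerivedOX.LeftDerived.counit hψ DerivedCategory.Q
  let G := DerivedOX.LeftDerived.functor hψ DerivedCategory.Q
  haveI : IsIso (c.app ((SiteKFlat.Basic.res O).obj A₀)) :=
    DerivedOX.LeftDerived.isIso_counit_app_resolved hψ DerivedCategory.Q A₀
  have h1 := c.naturality g
  have h2 := c.naturality (0 : (SiteKFlat.Basic.res O).obj A₀ ⟶ (SiteKFlat.Basic.res O).obj A₀)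
  simp only [Functor.comp_map] at h1 h2
  rw [hg] at h1
  rw [Functor.map_zero] at h2
  have h0 : (ModSite.tensorCxQ L).map (0 : (SiteKFlat.Basic.res O).obj A₀ ⟶ (SiteKFlat.Basic.res O).obj A₀) = 0 :=
    (congrArg DerivedCategory.Q.map (Functor.map_zero ((ModSite.tensorCx O).flip.obj L) _ _)).trans
      (Functor.map_zero _ _ _)
  refine (cancel_epi (c.app ((SiteKFlat.Basic.res O).obj A₀))).1 ((h1.symm.trans h2).trans ?_)
  exact congrArg (c.app _ ≫ ·) h0

/-- `j_! Y ⊗^L P` is `j_!` of an object killed by whatever kills `Y`. -/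
theorem exists_iso (P : CochainComplex (ModSite.Mod O) ℤ) [ModSite.HasLTensorCx P]
    {ι : Type*} (s : ι → _root_.DerComp.GSec (O.over U)) (Y : DerivedCategory (ModSite.Mod (O.over U)))
    (hY : Nilp s Y) :
    ∃ Y' : DerivedCategory (ModSite.Mod (O.over U)), Nilp s Y' ∧
      Nonempty ((ModSite.LTensorCx P).obj ((ExtZero.ModSite.EZ O U).mapDerivedCategory.obj Y) ≅
        (ExtZero.ModSite.EZ O U).mapDerivedCategory.obj Y') := by
  let Y₀ := DerivedCategory.Q.objPreimage Y
  let A := (SiteKFlat.Basic.res (O.over U)).obj Y₀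
  haveI := SiteKFlat.Basic.quasiIso_aug (O := O.over U) Y₀
  let eA : DerivedCategory.Q.obj A ≅ Y :=
    asIso (DerivedCategory.Q.map ((SiteKFlat.Basic.aug (O.over U)).app Y₀)) ≪≫
      DerivedCategory.Q.objObjPreimageIso Y
  let PU := ((ModSite.restr O U).mapHomologicalComplex (.up ℤ)).obj P
  refine ⟨DerivedCategory.Q.obj (((ModSite.tensorCx (O.over U)).flip.obj PU).obj A), fun i => ?_, ?_⟩
  · obtain ⟨N, hN⟩ := (NilpTest.Kills.of_iso (hY i) eA.symm)
    refine ⟨N, ?_⟩
    rw [← CategoryTheory.Functor.map_id, ← Functor.map_smul, ← tensorCx_smul]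
    exact tensor_eq_zero Y₀ PU _ (by rw [Functor.map_smul, CategoryTheory.Functor.map_id]; exact hN)
  · let EZ := ExtZero.ModSite.EZ O U
    let B := (EZ.mapHomologicalComplex (.up ℤ)).obj A
    let e : ∀ L : CochainComplex (ModSite.Mod O) ℤ, ((ModSite.tensorCx O).obj B).obj L ≅
        (EZ.mapHomologicalComplex (.up ℤ)).obj (mapBifunctor A L (SiteKFlat.Restr.tensorRestr O U) (.up ℤ)) :=
      fun L => DerivedOX.BifunctorMap.totalIso (SiteKFlat.Restr.compEZ U) A L
    let e' : ∀ L : CochainComplex (ModSite.Mod O) ℤ,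
        ((ModSite.tensorCx (O.over U)).obj A).obj (((ModSite.restr O U).mapHomologicalComplex (.up ℤ)).obj L) ≅
        ((𝟭 (ModSite.Mod (O.over U))).mapHomologicalComplex (.up ℤ)).obj
          (mapBifunctor A L (SiteKFlat.Restr.tensorRestr O U) (.up ℤ)) :=
      fun L => DerivedOX.BifunctorMap.totalIso (SiteKFlat.Restr.compRestr U) A L
    have hB : ∀ L : CochainComplex (ModSite.Mod O) ℤ, L.Acyclic →
        (((ModSite.tensorCx O).obj B).obj L).Acyclic := fun L hL => by
      have hM : (mapBifunctor A L (SiteKFlat.Restr.tensorRestr O U) (.up ℤ)).Acyclic :=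
        SiteKFlat.Thms.acyclic_of_quasiIso' (e' L).hom
          (SiteExact.Derived.acyclic_res_tensor Y₀ (SiteKFlat.Basic.acyclic_map (ModSite.restr O U) hL))
      exact SiteKFlat.Thms.acyclic_of_quasiIso' (e L).inv (SiteKFlat.Basic.acyclic_map EZ hM)
    let W := HomologicalComplex.quasiIso (ModSite.Mod O) (ComplexShape.up ℤ)
    let α : DerivedCategory.Q ⋙ ModSite.LTensorCx P ⟶ ModSite.tensorCxQ P :=
      (ModSite.tensorCxQ P).totalLeftDerivedCounit DerivedCategory.Q W
    haveI : QuasiIso ((SiteKFlat.Basic.aug O).app B) := SiteKFlat.Basic.quasiIso_aug B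
    haveI : IsIso ((ModSite.tensorCxQ P).map ((SiteKFlat.Basic.aug O).app B)) :=
      Localization.inverts DerivedCategory.Q W _
        (SiteExact.Derived.quasiIso_map_app (fun _ => SiteExact.Derived.acyclic_res_tensor B) hB
          ((SiteKFlat.Basic.aug O).app B) P)
    haveI : IsIso (α.app B) :=
      DerivedOX.LeftDerived.isIso_counit_app (SiteExact.Derived.isAdapted_tensorCxQ P) DerivedCategory.Q
        (ModSite.LTensorCx P) α B
    exact ⟨(ModSite.LTensorCx P).mapIso (EZ.mapDerivedCategory.mapIso eA.symm ≪≫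
      EZ.mapDerivedCategoryFactors.app A) ≪≫ asIso (α.app B) ≪≫
      DerivedCategory.Q.mapIso (e P ≪≫ (EZ.mapHomologicalComplex (.up ℤ)).mapIso (e' P).symm) ≪≫
      (EZ.mapDerivedCategoryFactors.app _).symm⟩

end Groth.Agent.Lib.DerComp.ProjNilp
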