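import Groth.Agent.Lib.DerComp.Away
import Groth.Agent.Lib.DerCat.DerAdj
import Groth.Agent.Lib.DerCat.HProd
import Groth.Agent.Lib.DerCat.OrthLocal
import Groth.Agent.Lib.DerivedOX.Exists
import Mathlib.Algebra.Homology.DerivedCategory.ShortExact
import Mathlib.CategoryTheory.Functor.Derived.PointwiseLeftDerived

/-!
# `RHom(O_s, -)` as a derived limit
-/

set_option linter.style.haveILetI false

universe w u v u'

open CategoryTheory CategoryTheory.Limits Opposite MonoidalCategory HomologicalComplex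
attribute [local instance] HasDerivedCategory.standard

namespace Groth.Agent.Lib.DerComp.RHomAway

open Groth.Agent.Lib.DerCat Groth.Agent.Lib.DerComp.Away Groth.Agent.Lib.DerivedOX

noncomputable section

section General

variable {A : Type u'} [Category.{v} A] [Abelian A] [HasDerivedCategory.{w} A]
  {J : Type} [HasLimitsOfShape (Discrete J) A] (K : J → CochainComplex A ℤ) [∀ j, (K j).IsKInjective]

omit [HasLimitsOfShape (Discrete J) A] in
lemma exists_Q_map {X I : CochainComplex A ℤ} [I.IsKInjective]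
    (φ : DerivedCategory.Q.obj X ⟶ DerivedCategory.Q.obj I) :
    ∃ f : X ⟶ I, DerivedCategory.Q.map f = φ := by
  obtain ⟨g, hg⟩ := (CochainComplex.IsKInjective.Qh_map_bijective
    ((HomotopyCategory.quotient A (.up ℤ)).obj X) I).2
      ((DerivedCategory.quotientCompQhIso A).hom.app X ≫ φ ≫
        (DerivedCategory.quotientCompQhIso A).inv.app I)
  obtain ⟨f, rfl⟩ := (HomotopyCategory.quotient A (.up ℤ)).map_surjective g
  refine ⟨f, ?_⟩
  have h := (DerivedCategory.quotientCompQhIso A).hom.naturality f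
  dsimp at h hg
  rw [hg, Category.assoc, Category.assoc, Iso.inv_hom_id_app] at h
  simpa [cancel_epi] using h.symm

omit [HasLimitsOfShape (Discrete J) A] in
lemma homotopy_of_Q_map_eq {X I : CochainComplex A ℤ} [I.IsKInjective] (f g : X ⟶ I)
    (h : DerivedCategory.Q.map f = DerivedCategory.Q.map g) : Nonempty (Homotopy f g) := by
  refine ⟨HomotopyCategory.homotopyOfEq _ _ ((CochainComplex.IsKInjective.Qh_map_bijective
    ((HomotopyCategory.quotient A (.up ℤ)).obj X) I).1 ?_)⟩
  have hf := (DerivedCategory.quotientCompQhIso A).hom.naturality f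
  have hg := (DerivedCategory.quotientCompQhIso A).hom.naturality g
  dsimp at hf hg
  rw [← cancel_mono ((DerivedCategory.quotientCompQhIso A).hom.app I), hf, hg, h]

theorem isKInjective_pi : (∏ᶜ K).IsKInjective :=
  ⟨fun f hL => ⟨HProd.homotopyLift K f 0 fun j =>
    ((CochainComplex.IsKInjective.nonempty_homotopy_zero (f ≫ Pi.π K j) hL).some).trans
      (Homotopy.ofEq zero_comp.symm)⟩⟩

/-- Products of K-injective complexes are products in the derived category. -/
noncomputable def isLimitFanQ : IsLimit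
    (Fan.mk (DerivedCategory.Q.obj (∏ᶜ K)) fun j => DerivedCategory.Q.map (Pi.π K j)) :=
  haveI := isKInjective_pi K
  have hl : ∀ s : Fan (fun j => DerivedCategory.Q.obj (K j)), ∃ f : DerivedCategory.Q.objPreimage s.pt ⟶ ∏ᶜ K,
      ∀ j, DerivedCategory.Q.map (f ≫ Pi.π K j) =
        (DerivedCategory.Q.objObjPreimageIso s.pt).hom ≫ s.proj j := fun s => by
    choose f hf using fun j => exists_Q_map
      ((DerivedCategory.Q.objObjPreimageIso s.pt).hom ≫ s.proj j)
    exact ⟨Pi.lift f, fun j => by rw [Pi.lift_π]; exact hf j⟩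
  Fan.IsLimit.mk _
    (fun s => (DerivedCategory.Q.objObjPreimageIso s.pt).inv ≫ DerivedCategory.Q.map (hl s).choose)
    (fun s j => by
      refine (Category.assoc _ _ _).trans ?_
      refine (congrArg (_ ≫ ·) (DerivedCategory.Q.map_comp _ _).symm).trans ?_
      rw [(hl s).choose_spec j, Iso.inv_hom_id_assoc])
    (fun s m hm => by
      rw [Iso.eq_inv_comp]
      obtain ⟨m', hm'⟩ := exists_Q_map
        ((DerivedCategory.Q.objObjPreimageIso s.pt).hom ≫ m)
      rw [← hm']
      refine DerivedCategory.Q_map_eq_of_homotopy _ (HProd.homotopyLift K _ _ fun j =>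
        (homotopy_of_Q_map_eq _ _ ?_).some)
      rw [(hl s).choose_spec j, DerivedCategory.Q.map_comp, hm', Category.assoc]
      exact congrArg (_ ≫ ·) (hm j))

end General

variable {C : Type u} [SmallCategory C] {J : GrothendieckTopology C} {O : Sheaf J CommRingCat.{u}}
  (s : _root_.DerComp.GSec O)

instance hasSheafHom_away : ModSite.HasSheafHom (B s) := ModTensor.ModSite.hasSheafHom _

/-- Evaluation at the generators. -/
noncomputable def h (n : ℕ) : ModSite.sheafHom (B s) ⟶ 𝟭 (ModSite.Mod O) where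
  app I := (τ s n).app ((ModSite.sheafHom (B s)).obj I) ≫ (ModSite.sheafHomAdj (B s)).counit.app I
  naturality I I' φ := by
    have h₁ := (τ s n).naturality ((ModSite.sheafHom (B s)).map φ)
    have h₂ := (ModSite.sheafHomAdj (B s)).counit.naturality φ
    simp only [Functor.id_map, Functor.comp_map] at h₁ h₂
    simp only [Functor.id_map, Category.assoc]
    rw [← h₂, ← Category.assoc, ← Category.assoc]
    exact congrArg (· ≫ _) h₁

lemma comp_h (n : ℕ) {X I : ModSite.Mod O} (φ : X ⟶ (ModSite.sheafHom (B s)).obj I) :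
    φ ≫ (h s n).app I = (τ s n).app X ≫ ((ModSite.sheafHomAdj (B s)).homEquiv X I).symm φ := by
  rw [Adjunction.homEquiv_counit, ← Category.assoc, ← (τ s n).naturality, Category.assoc]
  rfl

lemma h_rel (n : ℕ) (I : ModSite.Mod O) :
    (h s n).app I = (h s (n + 1)).app I ≫ _root_.DerComp.smulEnd s I := by
  change (τ s n).app _ ≫ _ = ((τ s (n + 1)).app _ ≫ _) ≫ _
  rw [τ_rel, _root_.DerComp.smulEnd_comm, Category.assoc, Category.assoc,
    _root_.DerComp.smulEnd_comm]
  rfl

/-- The short exact sequence for an injective module. -/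
theorem shortExact_of_fan (I : ModSite.Mod O) [Injective I] (c : Fan fun _ : ℕ => I) (hc : IsLimit c)
    (a : (ModSite.sheafHom (B s)).obj I ⟶ c.pt) (g : c.pt ⟶ c.pt) (w : a ≫ g = 0)
    (ha : ∀ n, a ≫ c.proj n = (h s n).app I)
    (hg : ∀ n, g ≫ c.proj n = c.proj n - c.proj (n + 1) ≫ _root_.DerComp.smulEnd s I) :
    (ShortComplex.mk a g w).ShortExact := by
  haveI : HasExactColimitsOfShape ℕ (ModSite.Mod O) := inferInstance
  let adj := ModSite.sheafHomAdj (B s)
  have key : ∀ {X : ModSite.Mod O} (k : X ⟶ c.pt), k ≫ g = 0 → ∃ φ, φ ≫ a = k := by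
    intro X k hk
    obtain ⟨ψ, hψ, -⟩ := existsUnique_desc s X I (fun n => k ≫ c.proj n) (fun n => by
      have h₀ := hk =≫ c.proj n
      rw [zero_comp, Category.assoc, hg, Preadditive.comp_sub, sub_eq_zero] at h₀
      rw [h₀, _root_.DerComp.smulEnd_comm, Category.assoc])
    refine ⟨adj.homEquiv _ _ ψ, Fan.IsLimit.hom_ext hc _ _ fun n => ?_⟩
    rw [Category.assoc, ha, comp_h, Equiv.symm_apply_apply]
    exact hψ n
  haveI hmono : Mono a := ⟨fun {X} φ φ' e => by
    refine (adj.homEquiv _ _).symm.injective ?_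
    refine ExistsUnique.unique (existsUnique_desc s X I (fun n => (φ ≫ a) ≫ c.proj n) fun n => ?_) ?_ ?_
    · rw [Category.assoc, ha, h_rel, _root_.DerComp.smulEnd_comm, Category.assoc, Category.assoc,
        reassoc_of% ha]
    · intro n
      rw [Category.assoc, ha, comp_h]
    · intro n
      rw [e, Category.assoc, ha, comp_h]⟩
  let F : ℕ ⥤ ModSite.Mod O :=
    Functor.ofSequence (X := fun _ => c.pt) fun _ => _root_.DerComp.smulEnd s _
  obtain ⟨x, hx⟩ : ∃ x : c.pt ⟶ c.pt, x ≫ g = 𝟙 _ := by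
    let d : (∐ F.obj) ⟶ I := Sigma.desc fun n => c.proj n
    let z : (∐ F.obj) ⟶ I := Injective.factorThru d (𝟙 _ - SeqColim.sh F)
    refine ⟨Fan.IsLimit.lift hc fun n => Sigma.ι F.obj n ≫ z, Fan.IsLimit.hom_ext hc _ _ fun n => ?_⟩
    have hz : (𝟙 _ - SeqColim.sh F) ≫ z = d := Injective.comp_factorThru _ _
    have hn := Sigma.ι F.obj n ≫= hz
    rw [← Category.assoc, Preadditive.comp_sub, SeqColim.ι_sh, Category.comp_id,
      Preadditive.sub_comp, Category.assoc, Sigma.ι_desc, Functor.ofSequence_map_homOfLE_succ] at hn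
    rw [Category.assoc, hg, Preadditive.comp_sub, Category.id_comp, Fan.IsLimit.fac,
      ← Category.assoc, Fan.IsLimit.fac, ← _root_.DerComp.smulEnd_comm]
    exact hn
  haveI hepi : Epi g := by
    haveI : Epi (x ≫ g) := by rw [hx]; infer_instance
    exact epi_of_epi x g
  exact
    { exact := ShortComplex.exact_of_f_is_kernel _ (KernelFork.IsLimit.ofι' _ _ fun k hk =>
        ⟨(key k hk).choose, (key k hk).choose_spec⟩)
      mono_f := hmono
      epi_g := hepi }

/-- The evaluation maps on complexes. -/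
noncomputable def hC (n : ℕ) (K : CochainComplex (ModSite.Mod O) ℤ) :
    ((ModSite.sheafHom (B s)).mapHomologicalComplex (ComplexShape.up ℤ)).obj K ⟶ K where
  f p := (h s n).app (K.X p)
  comm' p q _ := ((h s n).naturality (K.d p q)).symm

/-- `1 - s` on a countable power of a complex. -/
noncomputable def gC (K : CochainComplex (ModSite.Mod O) ℤ) :
    (∏ᶜ fun _ : ℕ => K) ⟶ ∏ᶜ fun _ : ℕ => K :=
  Pi.lift fun n => Pi.π (fun _ : ℕ => K) n - Pi.π (fun _ : ℕ => K) (n + 1) ≫ (s • 𝟙 K)

lemma smul_id_f (K : CochainComplex (ModSite.Mod O) ℤ) (p : ℤ) :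
    (s • 𝟙 K : K ⟶ K).f p = _root_.DerComp.smulEnd s (K.X p) := by
  change _root_.DerComp.smulEnd s (K.X p) ≫ 𝟙 _ = _
  rw [Category.comp_id]

lemma liftC_gC (K : CochainComplex (ModSite.Mod O) ℤ) :
    Pi.lift (fun n => hC s n K) ≫ gC s K = 0 := by
  refine Pi.hom_ext _ _ fun n => ?_
  rw [gC, Category.assoc, Pi.lift_π, zero_comp, Preadditive.comp_sub, Pi.lift_π, ← Category.assoc,
    Pi.lift_π, sub_eq_zero]
  ext p : 1
  rw [HomologicalComplex.comp_f, smul_id_f]
  exact h_rel s n (K.X p)

/-- The short exact sequence of complexes. -/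
theorem shortExact_complex (K : CochainComplex (ModSite.Mod O) ℤ) (hK : ∀ p : ℤ, Injective (K.X p)) :
    (ShortComplex.mk _ _ (liftC_gC s K)).ShortExact := by
  refine (HomologicalComplex.shortExact_iff_degreewise_shortExact _).2 fun p => ?_
  haveI := hK p
  let Kf := fun _ : ℕ => K
  let c : Fan fun _ : ℕ => K.X p := Fan.mk ((∏ᶜ Kf).X p) fun n => (Pi.π Kf n).f p
  have hc : IsLimit c :=
    isLimitFanMkObjOfIsLimit (HomologicalComplex.eval _ _ p) _ _ (productIsProduct Kf)
  refine shortExact_of_fan s (K.X p) c hc _ _ _ (fun n => ?_) (fun n => ?_)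
  · exact congrArg (fun q => q.f p) (Pi.lift_π (fun n => hC s n K) n)
  · refine (congrArg (fun q => q.f p) (Pi.lift_π (fun n => Pi.π (fun _ : ℕ => K) n -
      Pi.π (fun _ : ℕ => K) (n + 1) ≫ (s • 𝟙 K)) n)).trans ?_
    rw [HomologicalComplex.sub_f_apply, HomologicalComplex.comp_f, smul_id_f]
    rfl

/-- `X ⊗ O_s[0] ≅ X ⊗ O_s` termwise. -/
noncomputable def singleIso :
    ((ModSite.tensorBi O).flip.obj (B s)).mapHomologicalComplex (ComplexShape.up ℤ) ≅
      (ModSite.tensorCx O).flip.obj ((single (ModSite.Mod O) (.up ℤ) 0).obj (B s)) :=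
  NatIso.ofComponents (fun K => HomologicalComplex.Hom.isoOfComponents
      (fun p =>
        @asIso _ _ _ _ (Bifunctor.singleHom₂ (ModSite.tensorBi O) K 0 (B s) p p (add_zero p))
          (Bifunctor.isIso_singleHom₂ (ModSite.tensorBi O) K 0 (B s) p p (add_zero p)))
      (fun p q hpq =>
        Bifunctor.singleHom₂_d (ModSite.tensorBi O) K 0 (B s) p q p q (add_zero p) (add_zero q) hpq))
    (fun {K L} φ => by
      ext p : 1
      change ((ModSite.tensorBi O).map (φ.f p)).app (B s) ≫
          Bifunctor.singleHom₂ (ModSite.tensorBi O) L 0 (B s) p p (add_zero p) =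
        Bifunctor.singleHom₂ (ModSite.tensorBi O) K 0 (B s) p p (add_zero p) ≫
          (mapBifunctorMap φ (𝟙 ((single (ModSite.Mod O) (.up ℤ) 0).obj (B s)))
            (ModSite.tensorBi O) (.up ℤ)).f p
      simp only [Bifunctor.singleHom₂, Category.assoc, ι_mapBifunctorMap, HomologicalComplex.id_f,
        CategoryTheory.Functor.map_id, Category.id_comp]
      rw [← NatTrans.naturality_assoc])

variable [ModSite.HasLTensorCx ((CochainComplex.singleFunctor (ModSite.Mod O) 0).obj (B s))]

/-- `- ⊗^L O_s` is induced by `- ⊗ O_s`. -/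
theorem exists_ltensorIso [PreservesFiniteLimits ((ModSite.tensorBi O).flip.obj (B s))]
    [PreservesFiniteColimits ((ModSite.tensorBi O).flip.obj (B s))]
    [((ModSite.tensorBi O).flip.obj (B s)).Additive] :
    Nonempty (((ModSite.tensorBi O).flip.obj (B s)).mapDerivedCategory ≅
      ModSite.LTensorCx ((CochainComplex.singleFunctor (ModSite.Mod O) 0).obj (B s))) := by
  let P := (CochainComplex.singleFunctor (ModSite.Mod O) 0).obj (B s)
  let W := HomologicalComplex.quasiIso (ModSite.Mod O) (ComplexShape.up ℤ)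
  have hP : ModSite.IsKFlat P := SiteKFlat.Thms.isKFlat_single (isFlat_away s) 0
  have hW : W.IsInvertedBy (ModSite.tensorCxQ P) := fun F F' φ hφ => by
    haveI : QuasiIso φ := (HomologicalComplex.mem_quasiIso_iff _).1 hφ
    exact Localization.inverts DerivedCategory.Q W _
      ((HomologicalComplex.mem_quasiIso_iff _).2 (SiteKFlat.Thms.quasiIso_tensor_of_isKFlat hP φ))
  let α := (ModSite.tensorCxQ P).totalLeftDerivedCounit DerivedCategory.Q W
  haveI : IsIso α := Functor.isIso_of_isLeftDerivedFunctor_of_inverts _ α hW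
  letI : Localization.Lifting DerivedCategory.Q W (ModSite.tensorCxQ P) (ModSite.LTensorCx P) :=
    ⟨asIso α⟩
  exact ⟨Localization.liftNatIso DerivedCategory.Q W
    (((ModSite.tensorBi O).flip.obj (B s)).mapHomologicalComplex _ ⋙ DerivedCategory.Q)
    (ModSite.tensorCxQ P) _ _ (Functor.isoWhiskerRight (singleIso s) _)⟩

/-- `RHom(O_s, K)` is a derived limit. -/
theorem isT_rhom
    [_root_.DerComp.HasRHom ((CochainComplex.singleFunctor (ModSite.Mod O) 0).obj (B s))]
    (K : DerivedCategory (ModSite.Mod O)) [HasProduct fun _ : ℕ => K] :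
    _root_.DerComp.IsT s K
      ((_root_.DerComp.RHom ((CochainComplex.singleFunctor (ModSite.Mod O) 0).obj (B s))).obj K) := by
  haveI : (DerivedCategory.Qh (C := ModSite.Mod O)).IsLeftAdjoint := inferInstance
  haveI := (isFlat_away s).1
  haveI := (isFlat_away s).2
  haveI := ModTensor.FlatMono.additive_flip (B s)
  let H := ModSite.sheafHom (B s)
  haveI : H.Additive := (ModSite.sheafHomAdj (B s)).right_adjoint_additive
  obtain ⟨eL⟩ := exists_ltensorIso s
  let adj' := DerAdj.derivedAdj (ModSite.sheafHomAdj (B s))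
  let eR := Adjunction.rightAdjointUniq
    ((_root_.DerComp.RHomAdj ((CochainComplex.singleFunctor (ModSite.Mod O) 0).obj (B s))).ofNatIsoLeft eL.symm)
    adj'
  -- a K-injective representative with injective terms
  let M := DerivedCategory.Q.objPreimage K
  obtain ⟨hI, hinj⟩ := KInjFunctor.kinj_R M
  haveI := KInjFunctor.quasiIso_j M
  let I := (KInjFunctor.R (ModSite.Mod O)).obj M
  haveI : I.IsKInjective := hI
  let eI : DerivedCategory.Q.obj I ≅ K :=
    (asIso (DerivedCategory.Q.map ((KInjFunctor.j (ModSite.Mod O)).app M))).symm ≪≫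
      DerivedCategory.Q.objObjPreimageIso K
  let q := HomotopyCategory.quotient (ModSite.Mod O) (ComplexShape.up ℤ)
  let eq : DerivedCategory.Qh.obj (q.obj I) ≅ K :=
    (DerivedCategory.quotientCompQhIso _).app I ≪≫ eI
  haveI := RightDerived.isIso_unit_of_isKInjective I
  let eres : q.obj I ≅ (RightDerived.resFunctor (ModSite.Mod O)).obj K :=
    asIso ((RightDerived.resAdj (ModSite.Mod O)).unit.app (q.obj I)) ≪≫
      (RightDerived.resFunctor (ModSite.Mod O)).mapIso eq
  let r : (_root_.DerComp.RHom ((CochainComplex.singleFunctor (ModSite.Mod O) 0).obj (B s))).obj K ≅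
      DerivedCategory.Q.obj ((H.mapHomologicalComplex (ComplexShape.up ℤ)).obj I) :=
    eR.app K ≪≫ DerivedCategory.Qh.mapIso ((H.mapHomotopyCategory (.up ℤ)).mapIso eres.symm) ≪≫
      DerivedCategory.Qh.mapIso ((H.mapHomotopyCategoryFactors (.up ℤ)).app I) ≪≫
      (DerivedCategory.quotientCompQhIso _).app _
  -- the product
  let cK : Fan fun _ : ℕ => K :=
    Fan.mk (DerivedCategory.Q.obj (∏ᶜ fun _ : ℕ => I))
      fun n => DerivedCategory.Q.map (Pi.π (fun _ : ℕ => I) n) ≫ eI.hom
  have hcK : IsLimit cK := by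
    refine Fan.IsLimit.mk _ (fun t => Fan.IsLimit.lift (isLimitFanQ fun _ : ℕ => I) fun n => t.proj n ≫ eI.inv)
      (fun t n => ?_) (fun t m hm => Fan.IsLimit.hom_ext (isLimitFanQ fun _ : ℕ => I) _ _ fun n => ?_)
    · refine (Category.assoc _ _ _).symm.trans ?_
      refine (congrArg (· ≫ eI.hom) (Fan.IsLimit.fac (isLimitFanQ fun _ : ℕ => I) _ n)).trans ?_
      rw [Category.assoc, Iso.inv_hom_id]
      exact Category.comp_id _
    · rw [Fan.IsLimit.fac, ← cancel_mono eI.hom, Category.assoc, Category.assoc, Iso.inv_hom_id,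
        Category.comp_id]
      exact hm n
  let φ : (∏ᶜ fun _ : ℕ => K) ≅ DerivedCategory.Q.obj (∏ᶜ fun _ : ℕ => I) :=
    (productIsProduct _).conePointUniqueUpToIso hcK
  have hφ : ∀ n, φ.hom ≫ DerivedCategory.Q.map (Pi.π (fun _ : ℕ => I) n) ≫ eI.hom =
      Pi.π (fun _ : ℕ => K) n := fun n =>
    (productIsProduct (fun _ : ℕ => K)).conePointUniqueUpToIso_hom_comp hcK ⟨n⟩
  have hS := shortExact_complex s I hinj
  have hT := DerivedCategory.triangleOfSES_distinguished hS
  have hsmul : DerivedCategory.Q.map (s • 𝟙 I) ≫ eI.hom = eI.hom ≫ (s • 𝟙 K) := by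
    rw [Functor.map_smul, DerivedCategory.Q.map_id, Linear.smul_comp, Category.id_comp,
      Linear.comp_smul, Category.comp_id]
  refine ⟨r.hom ≫ DerivedCategory.Q.map (Pi.lift fun n => hC s n I) ≫ φ.inv,
    φ.hom ≫ DerivedCategory.triangleOfSESδ hS ≫ (shiftFunctor _ (1 : ℤ)).map r.inv,
    Pretriangulated.isomorphic_distinguished _ hT _ ?_⟩
  refine Pretriangulated.Triangle.isoMk _ _ r φ φ ?_ ?_ ?_
  · change (r.hom ≫ DerivedCategory.Q.map _ ≫ φ.inv) ≫ φ.hom = r.hom ≫ DerivedCategory.Q.map _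
    simp only [Category.assoc, Iso.inv_hom_id, Category.comp_id]
    rfl
  · change Pi.lift _ ≫ φ.hom = φ.hom ≫ DerivedCategory.Q.map (gC s I)
    rw [← Iso.eq_comp_inv]
    refine Pi.hom_ext _ _ fun n => ?_
    have hinv : φ.inv ≫ Pi.π (fun _ : ℕ => K) n =
        DerivedCategory.Q.map (Pi.π (fun _ : ℕ => I) n) ≫ eI.hom := by
      rw [Iso.inv_comp_eq, hφ]
    rw [Pi.lift_π, Category.assoc, Category.assoc, hinv, ← DerivedCategory.Q.map_comp_assoc, gC,
      Pi.lift_π, Functor.map_sub, Preadditive.sub_comp, Preadditive.comp_sub, hφ,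
      DerivedCategory.Q.map_comp, Category.assoc, hsmul, ← Category.assoc, ← Category.assoc]
    congr 2
    exact ((Category.assoc _ _ _).trans (hφ (n + 1))).symm
  · change (φ.hom ≫ _ ≫ _) ≫ (shiftFunctor _ (1 : ℤ)).map r.hom = φ.hom ≫ DerivedCategory.triangleOfSESδ hS
    rw [Category.assoc, Category.assoc, ← Functor.map_comp, Iso.inv_hom_id,
      CategoryTheory.Functor.map_id]
    exact congrArg (φ.hom ≫ ·) (Category.comp_id _)

end

end Groth.Agent.Lib.DerComp.RHomAway
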