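import Groth.Agent.Lib.DerComp.Local
import Groth.Agent.Lib.DerComp.RHomAway
import Groth.Agent.Lib.SiteExact.Derived
import Groth.Agent.Lib.SiteKFlat.Restr
import Mathlib.Algebra.Homology.BifunctorShift

/-!
# `RHom(P, L)` is derived complete for derived complete `L`
-/

set_option linter.style.haveILetI false

universe u

open CategoryTheory CategoryTheory.Limits Opposite
attribute [local instance] HasDerivedCategory.standard

namespace Groth.Agent.Lib.DerComp.RHomComplete

open Groth.Agent.Lib Groth.Agent.Lib.DerCat Crit Local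

variable {C : Type u} [SmallCategory C] {J : GrothendieckTopology C} {O : Sheaf J CommRingCat.{u}}

set_option backward.isDefEq.respectTransparency false in
/-- Multiplication by `s` passes to tensor products, in the first variable. -/
lemma smulEnd_tensor_left (s : _root_.DerComp.GSec O) (X Y : ModSite.Mod O) :
    ((ModSite.tensorBi O).map (_root_.DerComp.smulEnd s X)).app Y =
      _root_.DerComp.smulEnd s (((ModSite.tensorBi O).obj X).obj Y) := by
  let adj := PresheafOfModules.sheafificationAdjunction.{u} (𝟙 (ModSite.ringSh O).obj)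
  apply (adj.homEquiv _ _).injective
  rw [Adjunction.homEquiv_unit, Adjunction.homEquiv_unit]
  refine (adj.unit.naturality _).symm.trans ?_
  refine PresheafOfModules.hom_ext fun U => ModuleCat.hom_ext (LinearMap.ext fun x => ?_)
  refine ((congrArg _ ?_).trans
    (((adj.unit.app _).app U).hom.map_smul (_root_.DerComp.GSec.val' s U) x)).trans ?_
  rotate_left
  · rfl
  · letI : Module (O.obj.obj U) (X.val.obj U) := inferInstanceAs (Module ((O.obj ⋙ forget₂ CommRingCat RingCat).obj U) (X.val.obj U))
    letI : Module (O.obj.obj U) (Y.val.obj U) := inferInstanceAs (Module ((O.obj ⋙ forget₂ CommRingCat RingCat).obj U) (Y.val.obj U))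
    induction x using TensorProduct.induction_on with
    | zero => exact (map_zero _).trans (smul_zero (A := TensorProduct (O.obj.obj U) (X.val.obj U) (Y.val.obj U)) (show O.obj.obj U from s.1 U.unop)).symm
    | tmul a b => exact (TensorProduct.smul_tmul' (R := O.obj.obj U) (show O.obj.obj U from s.1 U.unop) a b).symm
    | add a b ha hb => exact (map_add _ a b).trans ((congrArg₂ (· + ·) ha hb).trans (smul_add (A := TensorProduct (O.obj.obj U) (X.val.obj U) (Y.val.obj U)) (show O.obj.obj U from s.1 U.unop) a b).symm)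

/-- The action on the free module, after tensoring. -/
lemma ρ_freeOnTensorIso (U : C) (f : O.obj.obj (op U)) (N : ModSite.Mod O) :
    ((ModSite.tensorBi O).map (ρ O U f)).app N ≫ (ExtZero.ModSite.freeOnTensorIso O U).hom.app N =
      (ExtZero.ModSite.freeOnTensorIso O U).hom.app N ≫ (ModSite.extZero O U).map
        (_root_.DerComp.smulEnd (_root_.DerComp.GSec.ofSect O U f) ((ModSite.restr O U).obj N)) := by
  let s := _root_.DerComp.GSec.ofSect O U f
  let E := ExtZero.ModSite.EZ O U
  let e := ExtZero.ModSite.extZeroIso O U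
  let u₀ := ModSite.unit (O.over U)
  let M := (ModSite.restr O U).obj N
  let v := (ModTensor.ModSite.tensorBiObjIso u₀ ≪≫
    ModTensor.Monoidal.tenLeftUnitIso.{u, u, u} (O := O.over U)).hom.app M
  have h₁ : ρ O U f ≫ e.inv.app u₀ = e.inv.app u₀ ≫ E.map (_root_.DerComp.smulEnd s u₀) :=
    e.inv.naturality (_root_.DerComp.smulEnd s u₀)
  have h₂ : ((ModSite.tensorBi O).map (E.map (_root_.DerComp.smulEnd s u₀))).app N ≫
        (ExtZero.ModSite.projLeft O U u₀).hom.app N =
      (ExtZero.ModSite.projLeft O U u₀).hom.app N ≫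
        E.map (((ModSite.tensorBi (O.over U)).map (_root_.DerComp.smulEnd s u₀)).app M) := by
    rw [← SiteKFlat.Restr.projRight_eq_projLeft]
    exact (ExtZero.ModSite.projRight O U N).inv.naturality (_root_.DerComp.smulEnd s u₀)
  have h₃ : E.map (((ModSite.tensorBi (O.over U)).map (_root_.DerComp.smulEnd s u₀)).app M) ≫ E.map v =
      E.map v ≫ E.map (_root_.DerComp.smulEnd s M) := by
    rw [← E.map_comp, ← E.map_comp]
    exact congrArg E.map ((congrArg (· ≫ v) (smulEnd_tensor_left s u₀ M)).trans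
      (_root_.DerComp.smulEnd_comm s v))
  have h₄ : E.map (_root_.DerComp.smulEnd s M) ≫ e.hom.app M =
      e.hom.app M ≫ (ModSite.extZero O U).map (_root_.DerComp.smulEnd s M) :=
    e.hom.naturality _
  have hfac : (ExtZero.ModSite.freeOnTensorIso O U).hom.app N =
      ((ModSite.tensorBi O).map (e.inv.app u₀)).app N ≫
        (ExtZero.ModSite.projLeft O U u₀).hom.app N ≫ E.map v ≫ e.hom.app M := by
    simp [ExtZero.ModSite.freeOnTensorIso, v, E, e, M, u₀]
  rw [hfac, ← NatTrans.comp_app_assoc, ← (ModSite.tensorBi O).map_comp, h₁, (ModSite.tensorBi O).map_comp,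
    NatTrans.comp_app_assoc, reassoc_of% h₂, reassoc_of% h₃, h₄]
  simp only [Category.assoc]
  rfl

variable (K : DerivedCategory (ModSite.Mod O))

/-- Derived completeness kills the telescope on all objects over `U`. -/
theorem bijective_of_good {U : C} {f : O.obj.obj (op U)}
    (h : ∀ ⦃V : C⦄ (g : V ⟶ U), Good O K V ((O.obj.map g.op).hom f))
    (X : DerivedCategory (ModSite.Mod (O.over U))) :
    Function.Bijective (fun (x : ℕ → (X ⟶ (R U).obj K)) k =>
      x k - _root_.DerComp.GSec.ofSect O U f • x (k + 1)) := by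
  let Y := (R U).obj K
  let s := _root_.DerComp.GSec.ofSect O U f
  haveI : (DerivedCategory.Qh (C := ModSite.Mod (O.over U))).IsLeftAdjoint := inferInstance
  haveI : HasLimitsOfShape (Discrete ℕ) (DerivedCategory (ModSite.Mod (O.over U))) :=
    HProd.hasLimitsOfShape_derivedCategory
  let P := ∏ᶜ fun _ : ℕ => Y
  let d : P ⟶ P := Pi.lift fun k => Pi.π (fun _ : ℕ => Y) k - Pi.π (fun _ : ℕ => Y) (k + 1) ≫ (s • 𝟙 Y)
  have hP : ∀ (X : DerivedCategory (ModSite.Mod (O.over U))) (m : ℤ),
      Function.Bijective (fun (χ : X ⟶ P⟦m⟧) (k : ℕ) => χ ≫ (Pi.π (fun _ : ℕ => Y) k)⟦m⟧') := by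
    intro X m
    let hl := isLimitFanMkObjOfIsLimit (shiftFunctor (DerivedCategory (ModSite.Mod (O.over U))) m)
      (fun _ : ℕ => Y) _ (productIsProduct fun _ : ℕ => Y)
    exact ⟨fun a b e => Fan.IsLimit.hom_ext hl _ _ fun k => congrFun e k,
      fun y => ⟨Fan.IsLimit.lift hl y, funext fun k => Fan.IsLimit.fac hl y k⟩⟩
  have key : ∀ (X : DerivedCategory (ModSite.Mod (O.over U))) (m : ℤ),
      Function.Bijective (fun χ : X ⟶ P⟦m⟧ => χ ≫ d⟦m⟧') ↔
        Function.Bijective (fun (x : ℕ → (X ⟶ Y⟦m⟧)) k => x k - s • x (k + 1)) := by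
    intro X m
    let E := Equiv.ofBijective _ (hP X m)
    rw [← Equiv.comp_bijective (e := E), ← Equiv.bijective_comp E
      (fun (x : ℕ → (X ⟶ Y⟦m⟧)) k => x k - s • x (k + 1))]
    refine Iff.of_eq (congrArg Function.Bijective (funext fun χ => funext fun k => ?_))
    change (χ ≫ d⟦m⟧') ≫ (Pi.π (fun _ : ℕ => Y) k)⟦m⟧' =
      χ ≫ (Pi.π (fun _ : ℕ => Y) k)⟦m⟧' - s • (χ ≫ (Pi.π (fun _ : ℕ => Y) (k + 1))⟦m⟧')
    rw [Category.assoc, ← Functor.map_comp, Pi.lift_π, Functor.map_sub, Preadditive.comp_sub,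
      Linear.comp_smul, Category.comp_id, Functor.map_smul, Linear.comp_smul]
  obtain ⟨L, a, c, hT⟩ := Pretriangulated.distinguished_cocone_triangle₁ d
  let G : {W : Over U // W ∈ (Set.univ : Set (Over U))} → ModSite.Mod (O.over U) := fun W =>
    ModSite.freeOn (O.over U) W.1
  have hG : ObjectProperty.IsSeparating (ObjectProperty.ofObj G) := by
    refine ExtZero.Restr.isSeparating_freeOn (C := Over U) (O := O.over U) Set.univ fun X => ?_
    refine ⟨PUnit, fun _ => X, fun _ => 𝟙 X, ?_, fun _ => Set.mem_univ _⟩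
    refine (J.over U).superset_covering (fun Z k _ => ?_) ((J.over U).top_mem X)
    exact (Sieve.mem_ofArrows_iff _ _ _).2 ⟨PUnit.unit, k, by simp⟩
  have hL : IsZero L := TriVan.isZero_of_separating G hG L fun W m =>
    TriVan.subsingleton_fibre hT _ (fun m => (key _ m).2 ((good_iff W.1.hom K f m).1 (h W.1.hom m))) m
  haveI : IsIso d := (Pretriangulated.Triangle.isZero₁_iff_isIso₂ _ hT).1 hL
  have h0 := (key X 0).1 ⟨fun a b e => (cancel_mono (d⟦(0 : ℤ)⟧')).1 e, fun χ => ⟨χ ≫ inv (d⟦(0 : ℤ)⟧'), by simp⟩⟩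
  let z := (shiftFunctorZero (DerivedCategory (ModSite.Mod (O.over U))) ℤ).app Y
  let e : (ℕ → (X ⟶ Y⟦(0 : ℤ)⟧)) ≃ (ℕ → (X ⟶ Y)) := Equiv.piCongrRight fun _ => Iso.homCongr (Iso.refl X) z
  have hh : Function.Bijective (fun (x : ℕ → (X ⟶ Y)) k => x k - s • x (k + 1)) := by
    rw [← Equiv.bijective_comp e]
    have : (fun (x : ℕ → (X ⟶ Y)) k => x k - s • x (k + 1)) ∘ e =
        e ∘ fun (x : ℕ → (X ⟶ Y⟦(0 : ℤ)⟧)) k => x k - s • x (k + 1) := by
      funext x k
      simp [e, Preadditive.sub_comp, Linear.smul_comp]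
    rw [this, Equiv.comp_bijective]
    exact h0
  exact hh

/-- Isomorphic objects with commuting endomorphisms. -/
structure EIso {D : Type*} [Category D] {X X' : D} (a : X ⟶ X) (b : X' ⟶ X') where
  /-- the isomorphism -/
  iso : X ≅ X'
  comm : a ≫ iso.hom = iso.hom ≫ b

namespace EIso

variable {D : Type*} [Category D] {X X' X'' : D} {a : X ⟶ X} {b : X' ⟶ X'} {c : X'' ⟶ X''}

/-- Composition. -/
def trans (e : EIso a b) (e' : EIso b c) : EIso a c :=
  ⟨e.iso ≪≫ e'.iso, by simp only [Iso.trans_hom, ← Category.assoc, e.comm]; simp only [Category.assoc, e'.comm]⟩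

/-- Inverse. -/
def symm (e : EIso a b) : EIso b a :=
  ⟨e.iso.symm, by rw [Iso.symm_hom, Iso.eq_inv_comp, ← Category.assoc, Iso.comp_inv_eq]; exact e.comm.symm⟩

/-- Image under a functor. -/
def map {D' : Type*} [Category D'] (F : D ⥤ D') (e : EIso a b) : EIso (F.map a) (F.map b) :=
  ⟨F.mapIso e.iso, by rw [Functor.mapIso_hom, ← F.map_comp, e.comm, F.map_comp]⟩

/-- From a natural isomorphism. -/
def ofNatIso {D' : Type*} [Category D'] {F G : D ⥤ D'} (η : F ≅ G) (a : X ⟶ X) :
    EIso (F.map a) (G.map a) :=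
  ⟨η.app X, η.hom.naturality a⟩

end EIso

variable (U : C) (f : O.obj.obj (op U)) (P : CochainComplex (ModSite.Mod O) ℤ)

/-- Termwise, the free module tensor a complex is the extension by zero of the restriction. -/
noncomputable def eisoFP :
    EIso ((SiteExact.Derived.FP P).map (ρ O U f))
      (((ModSite.extZero O U).mapHomologicalComplex (ComplexShape.up ℤ)).map
        (_root_.DerComp.GSec.ofSect O U f •
          𝟙 (((ModSite.restr O U).mapHomologicalComplex (ComplexShape.up ℤ)).obj P))) where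
  iso := HomologicalComplex.Hom.isoOfComponents
    (fun i => (ExtZero.ModSite.freeOnTensorIso O U).app (P.X i))
    (fun i j _ => ((ExtZero.ModSite.freeOnTensorIso O U).hom.naturality (P.d i j)).symm)
  comm := by
    refine HomologicalComplex.hom_ext _ _ fun i => ?_
    refine (ρ_freeOnTensorIso U f (P.X i)).trans ?_
    refine congrArg ((ExtZero.ModSite.freeOnTensorIso O U).hom.app (P.X i) ≫ ·) ?_
    exact congrArg (ModSite.extZero O U).map
      (RHomAway.smul_id_f (_root_.DerComp.GSec.ofSect O U f)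
        (((ModSite.restr O U).mapHomologicalComplex (ComplexShape.up ℤ)).obj P) i).symm

/-- The translation of a one-term complex tensor `P`. -/
noncomputable def eisoShift (m : ℤ) :
    EIso (((ModSite.tensorCx O).flip.obj P).map
        (((HomologicalComplex.single (ModSite.Mod O) (ComplexShape.up ℤ) 0).map (ρ O U f))⟦m⟧'))
      ((((ModSite.tensorCx O).flip.obj P).map
        ((HomologicalComplex.single (ModSite.Mod O) (ComplexShape.up ℤ) 0).map (ρ O U f)))⟦m⟧') where
  iso := CochainComplex.mapBifunctorShift₁Iso _ P (ModSite.tensorBi O) m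
  comm := CochainComplex.mapBifunctorShift₁Iso_hom_naturality₁ _ P (ModSite.tensorBi O) m

variable [ModSite.HasLTensorCx P]

/-- The comparison of the derived and the termwise tensor product. -/
noncomputable def eisoα (m : ℤ) :
    EIso ((ModSite.LTensorCx P).map (DerivedCategory.Q.map
        (((HomologicalComplex.single (ModSite.Mod O) (ComplexShape.up ℤ) 0).map (ρ O U f))⟦m⟧')))
      (DerivedCategory.Q.map (((ModSite.tensorCx O).flip.obj P).map
        (((HomologicalComplex.single (ModSite.Mod O) (ComplexShape.up ℤ) 0).map (ρ O U f))⟦m⟧'))) :=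
  let Q := DerivedCategory.Q (C := ModSite.Mod O)
  let W := HomologicalComplex.quasiIso (ModSite.Mod O) (ComplexShape.up ℤ)
  let α : Q ⋙ ModSite.LTensorCx P ⟶ ModSite.tensorCxQ P :=
    (ModSite.tensorCxQ P).totalLeftDerivedCounit Q W
  let A : CochainComplex (ModSite.Mod O) ℤ :=
    ((HomologicalComplex.single (ModSite.Mod O) (ComplexShape.up ℤ) 0).obj (ModSite.freeOn O U))⟦m⟧
  have hA : ∀ L : CochainComplex (ModSite.Mod O) ℤ, L.Acyclic →
      (((ModSite.tensorCx O).obj A).obj L).Acyclic := fun L hL => by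
    let B := (HomologicalComplex.single (ModSite.Mod O) (ComplexShape.up ℤ) (-m)).obj (ModSite.freeOn O U)
    let eAB : A ≅ B :=
      ((CochainComplex.singleFunctors (ModSite.Mod O)).shiftIso m (-m) 0 (by lia)).app _
    haveI := ExtZero.ModSite.preservesFiniteLimits_extZero O U
    haveI : (ModSite.extZero O U).IsLeftAdjoint := (ModSite.extZeroAdj O U).isLeftAdjoint
    haveI : PreservesFiniteColimits (ModSite.extZero O U) :=
      PreservesColimitsOfSize.preservesFiniteColimits.{0, 0} _
    haveI : PreservesFiniteLimits ((ModSite.tensorBi O).obj (ModSite.freeOn O U)) :=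
      preservesFiniteLimits_of_natIso (ExtZero.ModSite.freeOnTensorIso O U).symm
    haveI : PreservesFiniteColimits ((ModSite.tensorBi O).obj (ModSite.freeOn O U)) :=
      preservesFiniteColimits_of_natIso (ExtZero.ModSite.freeOnTensorIso O U).symm
    exact SiteKFlat.Thms.acyclic_of_quasiIso' (((ModSite.tensorCx O).map eAB.inv).app L)
      (DerivedOX.Bifunctor.acyclic_single_obj (ModSite.tensorBi O) (ModSite.freeOn O U) (-m) L
        (SiteKFlat.Basic.acyclic_map ((ModSite.tensorBi O).obj (ModSite.freeOn O U)) hL))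
  haveI : QuasiIso ((SiteKFlat.Basic.aug O).app A) := SiteKFlat.Basic.quasiIso_aug A
  haveI : IsIso ((ModSite.tensorCxQ P).map ((SiteKFlat.Basic.aug O).app A)) :=
    Localization.inverts Q W _
      (SiteExact.Derived.quasiIso_map_app (fun _ => SiteExact.Derived.acyclic_res_tensor A) hA
        ((SiteKFlat.Basic.aug O).app A) P)
  haveI : IsIso (α.app A) :=
    DerivedOX.LeftDerived.isIso_counit_app (SiteExact.Derived.isAdapted_tensorCxQ P) Q
      (ModSite.LTensorCx P) α A
  ⟨asIso (α.app A), α.naturality _⟩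

/-- `RHom(P, L)` is derived complete if `L` is. -/
theorem isDerComp_rhom (I : _root_.DerComp.IdealSh O) [_root_.DerComp.HasRHom P]
    {L : DerivedCategory (ModSite.Mod O)} (hL : _root_.DerComp.IsDerComp O I L) :
    _root_.DerComp.IsDerComp O I ((_root_.DerComp.RHom P).obj L) := by
  intro U f hf
  refine (van_iff_good O _ U f).2 fun n => ?_
  have hgood : ∀ ⦃V : C⦄ (g : V ⟶ U), Good O L V ((O.obj.map g.op).hom f) := fun V g =>
    (van_iff_good O L V _).1 (hL V _ (I.map_mem g hf))
  let s := _root_.DerComp.GSec.ofSect O U f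
  let RP := _root_.DerComp.RHom P
  let T := ModSite.LTensorCx P
  let adj : T ⊣ RP := _root_.DerComp.RHomAdj P
  let Q := DerivedCategory.Q (C := ModSite.Mod O)
  let j := ModSite.extZero O U
  haveI : j.Additive := inferInstance
  let adjU := adjD (ModSite.extZeroAdj O U)
  let FS := DerivedCategory.singleFunctor (ModSite.Mod O) 0
  let r := ρ O U f
  let S := HomologicalComplex.single (ModSite.Mod O) (ComplexShape.up ℤ) 0
  let Y₀ : CochainComplex (ModSite.Mod (O.over U)) ℤ :=
    (((ModSite.restr O U).mapHomologicalComplex (ComplexShape.up ℤ)).obj P)⟦(-n)⟧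
  let Y := DerivedCategory.Q.obj Y₀
  -- the endomorphism of `freeOn U[-n] ⊗^L P` is multiplication by `f` on `j_!` of a restriction
  let e₁ : EIso ((FS.map r)⟦(-n)⟧') (Q.map ((S.map r)⟦(-n)⟧')) :=
    ((EIso.ofNatIso (DerivedCategory.singleFunctorIsoCompQ (ModSite.Mod O) 0) r).map
      (shiftFunctor (DerivedCategory (ModSite.Mod O)) (-n))).trans
      ((EIso.ofNatIso (Q.commShiftIso (-n)) (S.map r)).symm)
  let e₂ : EIso (((ModSite.tensorCx O).flip.obj P).map (S.map r))
      ((j.mapHomologicalComplex (ComplexShape.up ℤ)).map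
        (s • 𝟙 (((ModSite.restr O U).mapHomologicalComplex (ComplexShape.up ℤ)).obj P))) :=
    (EIso.ofNatIso (SiteExact.Derived.singleIso P) r).symm.trans (eisoFP U f P)
  let e₃ : EIso (T.map ((FS.map r)⟦(-n)⟧')) (j.mapDerivedCategory.map (DerivedCategory.Q.map
      ((s • 𝟙 (((ModSite.restr O U).mapHomologicalComplex (ComplexShape.up ℤ)).obj P))⟦(-n)⟧'))) :=
    (e₁.map T).trans ((eisoα U f P (-n)).trans (((eisoShift U f P (-n)).map Q).trans
      (((e₂.map (shiftFunctor _ (-n))).trans
        (EIso.ofNatIso ((j.mapHomologicalComplex (ComplexShape.up ℤ)).commShiftIso (-n))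
          (s • 𝟙 (((ModSite.restr O U).mapHomologicalComplex (ComplexShape.up ℤ)).obj P))).symm).map Q
        |>.trans (EIso.ofNatIso j.mapDerivedCategoryFactors
          ((s • 𝟙 (((ModSite.restr O U).mapHomologicalComplex (ComplexShape.up ℤ)).obj P))⟦(-n)⟧')).symm)))
  have hs : DerivedCategory.Q.map
      ((s • 𝟙 (((ModSite.restr O U).mapHomologicalComplex (ComplexShape.up ℤ)).obj P))⟦(-n)⟧') = s • 𝟙 Y := by
    rw [Functor.map_smul, CategoryTheory.Functor.map_id, Functor.map_smul, CategoryTheory.Functor.map_id]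
  let A := SiteCmp.inD O (ModSite.freeOn O U)
  -- the bijection
  let c := (shiftFunctorCompIsoId (DerivedCategory (ModSite.Mod O)) n (-n) (by lia)).app (RP.obj L)
  let E : (A ⟶ (RP.obj L)⟦n⟧) → (Y ⟶ (R U).obj L) := fun x =>
    adjU.homEquiv Y L (e₃.iso.inv ≫ (adj.homEquiv _ L).symm (x⟦(-n)⟧' ≫ c.hom))
  have hEb : Function.Bijective E := by
    refine (adjU.homEquiv Y L).bijective.comp ((e₃.iso.homFromEquiv).bijective.comp
      ((adj.homEquiv _ L).symm.bijective.comp ((c.homToEquiv).bijective.comp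
        ((Functor.FullyFaithful.ofFullyFaithful
          (shiftFunctor (DerivedCategory (ModSite.Mod O)) (-n))).homEquiv.bijective))))
  have hadd : ∀ x y, E (x - y) = E x - E y := fun x y => by
    haveI : T.IsLeftAdjoint := adj.isLeftAdjoint
    haveI := preservesBinaryBiproducts_of_preservesBinaryCoproducts T
    haveI : T.Additive := Functor.additive_of_preservesBinaryBiproducts T
    simp only [E, Functor.map_sub, Preadditive.sub_comp]
    rw [show ∀ a b, (adj.homEquiv _ L).symm (a - b) = (adj.homEquiv _ L).symm a - (adj.homEquiv _ L).symm b from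
      fun a b => by simp only [Adjunction.homEquiv_counit, Functor.map_sub, Preadditive.sub_comp],
      Preadditive.comp_sub]
    haveI : (R (O := O) U).Additive := adjU.right_adjoint_additive
    simp only [Adjunction.homEquiv_unit, Functor.map_sub, Preadditive.comp_sub]
  have hact : ∀ x, E (act O (RP.obj L) U f n x) = s • E x := fun x => by
    change adjU.homEquiv Y L (e₃.iso.inv ≫ (adj.homEquiv _ L).symm ((FS.map r ≫ x)⟦(-n)⟧' ≫ c.hom)) = _
    rw [Functor.map_comp, Category.assoc, Adjunction.homEquiv_naturality_left_symm, ← Category.assoc,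
      show e₃.iso.inv ≫ T.map ((FS.map r)⟦(-n)⟧') = j.mapDerivedCategory.map (s • 𝟙 Y) ≫ e₃.iso.inv from by
        rw [← hs, Iso.inv_comp_eq, ← Category.assoc, Iso.eq_comp_inv]; exact e₃.comm,
      Category.assoc, Adjunction.homEquiv_naturality_left, Linear.smul_comp, Category.id_comp]
  let E' := Equiv.piCongrRight fun _ : ℕ => Equiv.ofBijective E hEb
  have hb := bijective_of_good L hgood Y
  rw [← Equiv.comp_bijective (e := E')]
  have : E' ∘ (Tele.Φ (act O (RP.obj L) U f n)) =
      (fun (x : ℕ → (Y ⟶ (R U).obj L)) k => x k - s • x (k + 1)) ∘ E' := by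
    funext x k
    change E (x k - act O (RP.obj L) U f n (x (k + 1))) = E (x k) - s • E (x (k + 1))
    rw [hadd, hact]
  rw [this, Equiv.bijective_comp]
  exact hb

end Groth.Agent.Lib.DerComp.RHomComplete
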