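import Groth.Agent.Lib.DerComp.DCHom
import Groth.Agent.Lib.DR.DComp.Module
import Groth.Agent.Lib.DR.DComp.Crit
import Groth.Agent.Lib.DerComp.AffineFinite
import Groth.Agent.Lib.RightAdjTensor.Scalar
import Groth.Agent.Lib.BettiExact.LTensorTri
import Groth.Agent.Lib.DerComp.RHomComplete
import Groth.Agent.Lib.DerivedOX.UnitTensor
import Groth.Agent.Lib.DerivedOX.PullPushAdj
import Groth.Agent.Lib.DerivedOX.QCohLocal
import Groth.Agent.Lib.DerivedOX.DualHomExists
import Groth.Agent.Lib.SchColim29.CohPush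
import Groth.Agent.S1116

/-!
# Morphism groups of coherent objects on a scheme proper over a complete Noetherian ring are complete
-/

set_option linter.style.haveILetI false
set_option linter.unusedSectionVars false

universe u

open CategoryTheory CategoryTheory.Limits Opposite Pretriangulated AlgebraicGeometry
attribute [local instance] HasDerivedCategory.standard

namespace Groth.Agent.Lib.DerComp.ProperHom

open Groth.Agent.Lib DR.DComp

variable {X : Scheme.{u}}

/-- A global function as a compatible family. -/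
noncomputable def gsec (r : Γ(X, ⊤)) : _root_.DerComp.GSec X.sheaf :=
  ⟨fun U => TwSh.resTop X U r, fun U V g => by
    change (X.presheaf.map g.op).hom ((X.presheaf.map _).hom r) = _
    rw [← CommRingCat.comp_apply, ← Functor.map_comp]
    rfl⟩

/-- Global functions as compatible families, as a ring map. -/
noncomputable def gsecHom (X : Scheme.{u}) : Γ(X, ⊤) →+* _root_.DerComp.GSec X.sheaf where
  toFun := gsec
  map_one' := Subtype.ext (funext fun U => map_one (TwSh.resTop X U))
  map_mul' a b := Subtype.ext (funext fun U => map_mul (TwSh.resTop X U) a b)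
  map_zero' := Subtype.ext (funext fun U => map_zero (TwSh.resTop X U))
  map_add' a b := Subtype.ext (funext fun U => map_add (TwSh.resTop X U) a b)

lemma smulEnd_gsec (r : Γ(X, ⊤)) (M : X.Modules) :
    _root_.DerComp.smulEnd (gsec r) (show ModSite.Mod X.sheaf from M) = TwSh.scalarEnd M r := rfl

section Site

variable {C : Type u} [SmallCategory C] {J : GrothendieckTopology C} {O : Sheaf J CommRingCat.{u}}
  (g : _root_.DerComp.GSec O)

lemma Q_map_smul_id (E : CochainComplex (ModSite.Mod O) ℤ) :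
    DerivedCategory.Q.map (g • 𝟙 E) = g • 𝟙 (DerivedCategory.Q.obj E) := by
  rw [Functor.map_smul, CategoryTheory.Functor.map_id]

lemma smul_id_comm {x y : DerivedCategory (ModSite.Mod O)} (f : x ⟶ y) :
    (g • 𝟙 x) ≫ f = f ≫ (g • 𝟙 y) := by
  rw [Linear.smul_comp, Category.id_comp, Linear.comp_smul, Category.comp_id]

end Site

/-- `sD` is the action of the compatible family. -/
lemma sD_eq_smul (r : Γ(X, ⊤)) (K : DerivedCategory (ModSite.Mod X.sheaf)) :
    ((RightAdjTensor.Scalar.sD r).app K : K ⟶ K) = gsec r • 𝟙 K := by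
  let E : CochainComplex (ModSite.Mod X.sheaf) ℤ := DerivedCategory.Q.objPreimage K
  let e : DerivedCategory.Q.obj E ≅ K := DerivedCategory.Q.objObjPreimageIso K
  have hs : ((RightAdjTensor.Scalar.sC r).app E : E ⟶ E) = gsec r • 𝟙 E :=
    HomologicalComplex.hom_ext _ _ fun i => by
      change TwSh.scalarEnd _ r = _root_.DerComp.smulEnd (gsec r) _ ≫ 𝟙 _
      rw [Category.comp_id, smulEnd_gsec]
  have h0 : ((RightAdjTensor.Scalar.sD r).app (DerivedCategory.Q.obj E) :
      DerivedCategory.Q.obj E ⟶ DerivedCategory.Q.obj E) = gsec r • 𝟙 (DerivedCategory.Q.obj E) := by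
    refine (RightAdjTensor.Scalar.sD_app_Q r E).trans ?_
    exact (congrArg DerivedCategory.Q.map hs).trans (Q_map_smul_id (gsec r) E)
  have hn : e.hom ≫ ((RightAdjTensor.Scalar.sD r).app K : K ⟶ K) =
      ((RightAdjTensor.Scalar.sD r).app (DerivedCategory.Q.obj E) :
        DerivedCategory.Q.obj E ⟶ DerivedCategory.Q.obj E) ≫ e.hom :=
    (RightAdjTensor.Scalar.sD r).naturality e.hom
  exact (cancel_epi e.hom).1 ((hn.trans (congrArg (· ≫ e.hom) h0)).trans (smul_id_comm (gsec r) e.hom))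

variable (P : CochainComplex X.Modules ℤ) [DCoh.HasLTensorCx P]

/-- `- ⊗^L P` commutes with multiplication by global functions. -/
lemma LTensorCx_sD (hP : DCoh.IsKFlat P) (r : Γ(X, ⊤)) (K : DCoh.D X) :
    (DCoh.LTensorCx P).map ((RightAdjTensor.Scalar.sD r).app K) =
      (RightAdjTensor.Scalar.sD r).app ((DCoh.LTensorCx P).obj K) := by
  obtain ⟨e⟩ := BettiExact.LTensorTri.nonempty_iso_tensorCxQ P (𝟙 P) hP
  let ε := DerivedCategory.Q.objObjPreimageIso K
  let E := DerivedCategory.Q.objPreimage K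
  let i : (DCoh.LTensorCx P).obj K ≅ DerivedCategory.Q.obj ((DCoh.tensorCx.obj E).obj P) :=
    (DCoh.LTensorCx P).mapIso ε.symm ≪≫ e.app E
  have h1 : (RightAdjTensor.Scalar.sD r).app K ≫ ε.inv =
      ε.inv ≫ DerivedCategory.Q.map ((RightAdjTensor.Scalar.sC r).app E) :=
    ((RightAdjTensor.Scalar.sD r).naturality ε.inv).symm.trans
      (congrArg (ε.inv ≫ ·) (RightAdjTensor.Scalar.sD_app_Q r E))
  have h2 : (DCoh.tensorCx.map ((RightAdjTensor.Scalar.sC r).app E)).app P =
      (RightAdjTensor.Scalar.sC r).app ((DCoh.tensorCx.obj E).obj P) :=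
    HomologicalComplex.hom_ext _ _ fun n => HomologicalComplex.mapBifunctor.hom_ext (fun p q hpq => by
      refine (HomologicalComplex.ι_mapBifunctorMap _ _ _ _ p q n hpq).trans ?_
      refine Eq.trans ?_ (RightAdjTensor.Scalar.scalarEnd_natural _ r).symm
      rw [HomologicalComplex.id_f, CategoryTheory.Functor.map_id, Category.id_comp]
      exact congrArg (· ≫ _)
        (RHomComplete.smulEnd_tensor_left (gsec r) (show ModSite.Mod X.sheaf from E.X p)
          (show ModSite.Mod X.sheaf from P.X q)))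
  refine (cancel_mono i.hom).1 ?_
  have hn := e.hom.naturality ((RightAdjTensor.Scalar.sC r).app E)
  have e1 : (DCoh.LTensorCx P).map ((RightAdjTensor.Scalar.sD r).app K) ≫ i.hom =
      i.hom ≫ DerivedCategory.Q.map ((RightAdjTensor.Scalar.sC r).app ((DCoh.tensorCx.obj E).obj P)) := by
    simp only [i, Iso.trans_hom, Functor.mapIso_hom, Iso.symm_hom, Iso.app_hom, Category.assoc]
    rw [← Functor.map_comp_assoc, h1, Functor.map_comp_assoc]
    refine congrArg (_ ≫ ·) (hn.trans (congrArg (e.hom.app E ≫ ·) ?_))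
    exact congrArg DerivedCategory.Q.map h2
  rw [e1, ← RightAdjTensor.Scalar.sD_app_Q]
  exact (RightAdjTensor.Scalar.sD r).naturality i.hom

/-- Additive bijections intertwining a multiplication transport completeness. -/
theorem dc_of_equiv {A B M N : Type*} [CommRing A] [CommRing B] [AddCommGroup M] [Module A M]
    [AddCommGroup N] [Module B N] (a : A) (b : B) (E : M ≃+ N) (h : ∀ x, E (a • x) = b • E x)
    (hN : DC b N) : DC a M := by
  let E' := Equiv.piCongrRight fun _ : ℕ => E.toEquiv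
  have e : ⇑E' ∘ ⇑(phi (LinearMap.lsmul A M a)) = ⇑(phi (LinearMap.lsmul B N b)) ∘ ⇑E' := by
    refine funext fun x => funext fun k => ?_
    change E (x k - a • x (k + 1)) = E (x k) - b • E (x (k + 1))
    rw [map_sub, h]
  exact (Equiv.comp_bijective _ E').1 (e ▸ hN.comp E'.bijective)

/-- Finite modules over a ring complete along a multiplication are complete. -/
theorem dc_of_finite.{v} {A : Type u} [CommRing A] [IsNoetherianRing A] {f : A} (hA : DC f A) (M : Type v)
    [AddCommGroup M] [Module A M] [Module.Finite A M] : DC f M := by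
  obtain ⟨n, π, hπ⟩ := Module.Finite.exists_fin' A M
  obtain ⟨m, σ, hσ⟩ := Module.Finite.exists_fin' A (LinearMap.ker π)
  have hr : LinearMap.range ((LinearMap.ker π).subtype ∘ₗ σ) = LinearMap.ker π := by
    rw [LinearMap.range_comp, LinearMap.range_eq_top.2 hσ, Submodule.map_top, Submodule.range_subtype]
  exact (DC.coker (dc_pi fun _ => hA) ((LinearMap.ker π).subtype ∘ₗ σ) (dc_pi fun _ => hA).2).congr
    ((Submodule.quotEquivOfEq _ _ hr).trans (π.quotKerEquivOfSurjective hπ))

/-- Degree zero hypercohomology of a coherent object on an affine Noetherian scheme is finite. -/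
theorem finite_hom (S : Scheme.{u}) [IsAffine S] [IsNoetherian S] (L : DCoh.D S) (hL : DCoh.IsCohD L) :
    Module.Finite (AffineG.A S) (AffineCompl.O₀ S ⟶ (show DerivedCategory (ModSite.Mod S.sheaf) from L)) := by
  haveI := AffineG.isNoetherianRing S
  haveI : IsNoetherianRing (AffineG.R S) := AffineG.isNoetherianRing S
  obtain ⟨M, ⟨eK⟩, hH⟩ := AffineFinite.exists_model S L fun i => (hL i).1
  obtain ⟨eH⟩ := hH 0
  have hM : Module.Finite (AffineG.A S) (Dual.HD (AffineG.A S) M 0) := by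
    have hc' : Coh.IsCoh ((Scheme.Modules.restrictFunctor (AffineG.e S).inv).obj (DCoh.HD L 0)) := by
      haveI := (hL 0).1
      haveI : Coh.IsQCoh ((DCoh.HD L 0).restrict (AffineG.e S).inv) := inferInstance
      refine CohBasics.Closure.isCoh_of_finite_sections fun V hV => ?_
      exact (TensorMod.TensorQCoh.finite_restrict_iff (AffineG.e S).inv _ V).2
        (CohBasics.Closure.finite_sections (hL 0) (hV.image_of_isOpenImmersion (AffineG.e S).inv))
    exact Perfect.TildeFT.finite_of_isFT _ (CohBasics.Closure.isCoh_of_iso eH hc').2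
  obtain ⟨θ, hθ⟩ := AffineFinite.exists_surjection S eK 0
  haveI := Module.Finite.of_surjective θ hθ
  exact Module.Finite.equiv (Linear.homCongr (AffineG.A S) (Iso.refl (AffineCompl.O₀ S))
    ((shiftFunctorZero (DerivedCategory (ModSite.Mod S.sheaf)) ℤ).app L))

/-- The derived pullback of the structure sheaf. -/
theorem nonempty_Lpull_O₀ {S : Scheme.{u}} (f : X ⟶ S) [DCoh.HasLpull f] :
    Nonempty ((DCoh.Lpull f).obj (DerivedCategory.Q.obj (DerivedOX.UnitTensor.one S 0)) ≅
      DerivedCategory.Q.obj (DerivedOX.UnitTensor.one X 0)) := by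
  obtain ⟨e⟩ := DerivedOX.QCohLocal.nonempty_Lpull_iso f (BettiExact.TorProduct.isKFlat_unitCx S)
  exact ⟨e ≪≫ DerivedCategory.Q.mapIso (DerivedOX.UnitTensor.pullOneIso f 0)⟩

/-- `O ⊗^L P ≅ P`. -/
theorem nonempty_tensor_O₀ (hP : DCoh.IsKFlat P) :
    Nonempty ((DCoh.LTensorCx P).obj (DerivedCategory.Q.obj (DerivedOX.UnitTensor.one X 0)) ≅
      DerivedCategory.Q.obj P) := by
  obtain ⟨e⟩ := BettiExact.LTensorTri.nonempty_iso_tensorCxQ P (𝟙 P) hP
  exact ⟨e.app _ ≪≫ DerivedCategory.Q.mapIso (DerivedOX.UnitTensor.unitShiftIso 0 P ≪≫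
    (shiftFunctorZero' (CochainComplex X.Modules ℤ) (-(0 : ℤ)) neg_zero).app P)⟩

/-- The degree zero structure object, in both presentations. -/
noncomputable def oneIso (S : Scheme.{u}) :
    DerivedCategory.Q.obj (DerivedOX.UnitTensor.one S 0) ≅
      (show DCoh.D S from AffineCompl.O₀ S) :=
  (((SingleFunctors.evaluation _ _ 0).mapIso
    (DerivedCategory.singleFunctorsPostcompQIso S.Modules)).app _).symm

/-- Two adjunctions transport morphism groups, compatibly with natural endomorphisms. -/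
theorem exists_equiv_adj {C₁ : Type*} [Category C₁] [Preadditive C₁] {C₂ : Type*} [Category C₂]
    [Preadditive C₂] {L R : C₁ ⥤ C₁} (adj₁ : L ⊣ R) [L.Additive] {L' : C₂ ⥤ C₁} {R' : C₁ ⥤ C₂}
    (adj₂ : L' ⊣ R') [L'.Additive] {O₁ F : C₁} {O₂ O₂' : C₂} (eu : L.obj O₁ ≅ F) (v : L'.obj O₂ ≅ O₁)
    (w : O₂ ≅ O₂') (G : C₁) :
    ∃ E : (F ⟶ G) ≃+ (O₂' ⟶ R'.obj (R.obj G)),
      ∀ (s : 𝟭 C₁ ⟶ 𝟭 C₁) (t : 𝟭 C₂ ⟶ 𝟭 C₂), (∀ K, L.map (s.app K) = s.app (L.obj K)) →
        (∀ K, R'.map (s.app K) = t.app (R'.obj K)) → ∀ z : F ⟶ G, E (z ≫ s.app G) = E z ≫ t.app _ := by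
  let E : (F ⟶ G) ≃+ (O₂' ⟶ R'.obj (R.obj G)) :=
    { toFun := fun z => w.inv ≫ adj₂.homEquiv _ _ (v.hom ≫ adj₁.homEquiv _ _ (eu.hom ≫ z))
      invFun := fun z => eu.inv ≫ (adj₁.homEquiv _ _).symm (v.inv ≫ (adj₂.homEquiv _ _).symm (w.hom ≫ z))
      left_inv := fun z => by simp
      right_inv := fun z => by simp
      map_add' := fun z z' => by
        simp only [Preadditive.comp_add, ← Adjunction.homAddEquiv_apply, map_add] }
  refine ⟨E, fun s t hs ht z => ?_⟩
  change w.inv ≫ adj₂.homEquiv _ _ (v.hom ≫ adj₁.homEquiv _ _ (eu.hom ≫ z ≫ s.app G)) =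
    (w.inv ≫ adj₂.homEquiv _ _ (v.hom ≫ adj₁.homEquiv _ _ (eu.hom ≫ z))) ≫ t.app _
  have h1 : eu.hom ≫ z ≫ s.app G = L.map (s.app O₁) ≫ eu.hom ≫ z := by
    rw [hs]
    simpa using s.naturality (eu.hom ≫ z)
  have h2 : v.hom ≫ s.app O₁ ≫ adj₁.homEquiv _ _ (eu.hom ≫ z) =
      (v.hom ≫ adj₁.homEquiv _ _ (eu.hom ≫ z)) ≫ s.app (R.obj G) := by
    rw [Category.assoc]
    exact congrArg (v.hom ≫ ·) (s.naturality (adj₁.homEquiv _ _ (eu.hom ≫ z))).symm
  refine (congrArg (fun q => w.inv ≫ adj₂.homEquiv O₂ (R.obj G) (v.hom ≫ adj₁.homEquiv O₁ G q)) h1).trans ?_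
  refine (congrArg (fun q => w.inv ≫ adj₂.homEquiv O₂ (R.obj G) (v.hom ≫ q))
    (adj₁.homEquiv_naturality_left (s.app O₁) (eu.hom ≫ z))).trans ?_
  refine (congrArg (fun q => w.inv ≫ adj₂.homEquiv O₂ (R.obj G) q) h2).trans ?_
  refine (congrArg (w.inv ≫ ·) (adj₂.homEquiv_naturality_right _ (s.app (R.obj G)))).trans ?_
  refine (congrArg (fun q => w.inv ≫ adj₂.homEquiv O₂ (R.obj G) (v.hom ≫ adj₁.homEquiv O₁ G (eu.hom ≫ z)) ≫ q)
    (ht (R.obj G))).trans ?_
  exact (Category.assoc _ _ _).symm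

/-- Morphism groups computed on the base, compatibly with global functions. -/
theorem exists_equiv {S : Scheme.{u}} (f : X ⟶ S) [DCoh.HasRpush f] [DCoh.HasLpull f] (hP : DCoh.IsKFlat P)
    [DCoh.HasRSheafHom P] {F : DCoh.D X} (eP : DerivedCategory.Q.obj P ≅ F) (G : DCoh.D X) :
    ∃ E : (F ⟶ G) ≃+ ((show DCoh.D S from AffineCompl.O₀ S) ⟶ (DCoh.Rpush f).obj ((DCoh.RSheafHom P).obj G)),
      ∀ (r : Γ(S, ⊤)) (z : F ⟶ G), E (z ≫ (RightAdjTensor.Scalar.sD (f.appTop.hom r)).app G) =
        E z ≫ (RightAdjTensor.Scalar.sD r).app _ := by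
  obtain ⟨u⟩ := nonempty_tensor_O₀ P hP
  obtain ⟨v⟩ := nonempty_Lpull_O₀ (X := X) f
  let adj₂ := DerivedOX.PullPushAdj.derivedAdjunction f
  haveI : (DCoh.LTensorCx P).Additive := inferInstance
  haveI : (DCoh.Rpush f).Additive := inferInstance
  haveI : (DCoh.Lpull f).Additive := adj₂.left_adjoint_additive
  obtain ⟨E, hE⟩ := exists_equiv_adj (DCoh.RSheafHomAdj P) adj₂ (u ≪≫ eP) v (oneIso S) G
  exact ⟨E, fun r z => hE (RightAdjTensor.Scalar.sD (f.appTop.hom r)) (RightAdjTensor.Scalar.sD r)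
    (fun K => LTensorCx_sD P hP _ K) (fun K => RightAdjTensor.Scalar.Rpush_sD f r K) z⟩

/-- Morphism groups between coherent objects over a complete base are complete. -/
theorem dc_hom_coh {A : Type u} [CommRing A] [IsNoetherianRing A] (I : Ideal A) [IsAdicComplete I A]
    (f : X ⟶ Spec (CommRingCat.of A)) [IsProper f]
    (F : DerivedCategory (ModSite.Mod X.sheaf)) (G : DerivedCategory (ModSite.Mod X.sheaf))
    (hF : DCoh.IsCohD (X := X) F) (hG : DCoh.IsCohD (X := X) G) (a b : ℤ) [F.IsLE a] [G.IsGE b]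
    (x : A) (hx : x ∈ I) :
    DC (gsec (f.appTop.hom ((Scheme.ΓSpecIso (CommRingCat.of A)).inv.hom x))) (F ⟶ G) := by
  let S := Spec (CommRingCat.of A)
  let r : Γ(S, ⊤) := (Scheme.ΓSpecIso (CommRingCat.of A)).inv.hom x
  haveI : IsNoetherian X := by
    haveI : LocallyOfFiniteType f := inferInstance
    haveI : IsLocallyNoetherian X := LocallyOfFiniteType.isLocallyNoetherian f
    haveI : CompactSpace X := QuasiCompact.compactSpace_of_compactSpace f
    exact {}
  obtain ⟨P, hP, ⟨eP⟩⟩ := DerivedOX.QCohLocal.exists_kflat (X := X) F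
  haveI := DerivedOX.LeftExists.hasLTensorCx P
  haveI := DerivedOX.DualHomExists.hasRSheafHom P
  haveI := DerivedOX.Exists.hasRpush f
  haveI := DerivedOX.LeftExists.hasLpull f
  haveI : (DCoh.toD X P).IsLE a := DerivedCategory.TStructure.t.isLE_of_iso eP.symm a
  have hPc : DCoh.IsCohD (DCoh.toD X P) := fun i => CohBasics.Closure.isCoh_of_iso
    ((DerivedCategory.homologyFunctor X.Modules i).mapIso eP.symm) (hF i)
  haveI : (show DCoh.D X from G).IsGE b := ‹G.IsGE b›
  obtain ⟨hR, a', hR'⟩ := Groth.Agent.S1116.result X P a hPc G b hG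
  let R := (DCoh.RSheafHom P).obj G
  haveI : R.IsGE a' := hR'
  let L := (DCoh.Rpush f).obj R
  have hsupp : ∀ i, ClSub.IsProperOver f (CohB1.support (DCoh.HD R i)) := fun i => by
    haveI := (hR i).2
    exact ⟨Modules.Support.isClosed_support _, inferInstance⟩
  have hL : DCoh.IsCohD L := SchColim29.CohPush.isCohD_Rpush f R (fun i => ⟨hR i, hsupp i⟩) a'
  haveI := finite_hom S L hL
  let N := AffineCompl.O₀ S ⟶ (show DerivedCategory (ModSite.Mod S.sheaf) from L)
  have hN : DC (gsec r) N := by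
    let ψ : A →+* _root_.DerComp.GSec S.sheaf :=
      (gsecHom S).comp (Scheme.ΓSpecIso (CommRingCat.of A)).inv.hom
    letI : Module A N := Module.compHom N ψ
    letI : SMul A N := inferInstance
    have hψ : Function.Surjective ψ := fun s => by
      refine ⟨(Scheme.ΓSpecIso (CommRingCat.of A)).hom.hom (s.1 ⊤), Subtype.ext (funext fun U => ?_)⟩
      change TwSh.resTop S U ((Scheme.ΓSpecIso (CommRingCat.of A)).inv.hom
        ((Scheme.ΓSpecIso (CommRingCat.of A)).hom.hom (s.1 ⊤))) = s.1 U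
      exact (congrArg (TwSh.resTop S U)
        ((Scheme.ΓSpecIso (CommRingCat.of A)).commRingCatIsoToRingEquiv.symm_apply_apply (s.1 ⊤))).trans
          (s.2 (homOfLE (le_top : U ≤ ⊤)))
    letI : Algebra A (_root_.DerComp.GSec S.sheaf) := ψ.toAlgebra
    haveI : IsScalarTower A (_root_.DerComp.GSec S.sheaf) N :=
      ⟨fun p q z => show (ψ p * q) • z = ψ p • q • z from mul_smul _ _ _⟩
    haveI : Module.Finite A (_root_.DerComp.GSec S.sheaf) :=
      Module.Finite.of_surjective (Algebra.linearMap A _) hψ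
    haveI : Module.Finite A N := Module.Finite.trans (_root_.DerComp.GSec S.sheaf) N
    have hNA : DC x N := dc_of_finite (DR.DComp.dc_of_isAdicComplete (I := I) hx) N
    exact dc_of_equiv (gsec r) x (AddEquiv.refl N) (fun _ => rfl) hNA
  obtain ⟨E, hE⟩ := exists_equiv P f hP eP G
  refine dc_of_equiv _ (gsec r) (show (F ⟶ G) ≃+ N from E) (fun z => ?_) hN
  have h1 : gsec (f.appTop.hom r) • z =
      z ≫ ((RightAdjTensor.Scalar.sD (f.appTop.hom r)).app G : G ⟶ G) :=
    ((congrArg (z ≫ ·) (sD_eq_smul (f.appTop.hom r) G)).trans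
      ((Linear.comp_smul _ _ _ _ _ _).trans (congrArg _ (Category.comp_id z)))).symm
  refine (congrArg (show (F ⟶ G) ≃+ N from E) h1).trans ((hE r z).trans ?_)
  exact (congrArg ((show (F ⟶ G) ≃+ N from E) z ≫ ·) (sD_eq_smul r _)).trans
    ((Linear.comp_smul _ _ _ _ _ _).trans (congrArg _ (Category.comp_id _)))

end Groth.Agent.Lib.DerComp.ProperHom
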