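import Groth.Agent.Lib.DerComp.TorsUnit
import Groth.Agent.Lib.DerComp.KosPush

/-!
# The derived unit of extension of scalars is invisible to the test objects
-/

set_option linter.style.haveILetI false

universe u

open CategoryTheory CategoryTheory.Limits Opposite Pretriangulated
attribute [local instance] HasDerivedCategory.standard

namespace Groth.Agent.Lib.DerComp.ResUnit

open Groth.Agent.Lib Groth.Agent.Lib.DerCat ExtScalar TorsUnit NilpTest Kos KosTest Local

section

variable {C : Type u} [SmallCategory C] {J : GrothendieckTopology C} {O : Sheaf J CommRingCat.{u}}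

/-- Post-composition with `v` is bijective out of all objects killed by the family. -/
def TestIso {ι : Type*} (s : ι → _root_.DerComp.GSec O) {A B : DerivedCategory (ModSite.Mod O)}
    (v : A ⟶ B) : Prop :=
  ∀ Y, Nilp s Y → Function.Bijective (fun x : Y ⟶ A => x ≫ v)

theorem testIso_shift {ι : Type*} {s : ι → _root_.DerComp.GSec O}
    {A B : DerivedCategory (ModSite.Mod O)} {v : A ⟶ B} (h : TestIso s v) (n : ℤ) :
    TestIso s (v⟦n⟧') := fun Y hY => by
  let F := shiftFunctor (DerivedCategory (ModSite.Mod O)) n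
  let c := (shiftFunctorCompIsoId (DerivedCategory (ModSite.Mod O)) (-n) n (by omega)).app Y
  have hY' : Nilp s (Y⟦-n⟧) := fun i => (hY i).shift (-n)
  refine ⟨fun p q hpq => ?_, fun y => ?_⟩
  · obtain ⟨p', hp'⟩ := F.map_surjective (c.hom ≫ p)
    obtain ⟨q', hq'⟩ := F.map_surjective (c.hom ≫ q)
    have e : p' ≫ v = q' ≫ v := F.map_injective (by
      rw [Functor.map_comp, Functor.map_comp, hp', hq', Category.assoc, Category.assoc]
      exact congrArg (c.hom ≫ ·) hpq)
    rw [← cancel_epi c.hom, ← hp', ← hq', (h _ hY').1 e]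
  · obtain ⟨y', hy'⟩ := F.map_surjective (c.hom ≫ y)
    obtain ⟨x, hx⟩ := (h _ hY').2 y'
    refine ⟨c.inv ≫ F.map x, ?_⟩
    change (c.inv ≫ F.map x) ≫ F.map v = y
    rw [Category.assoc, ← Functor.map_comp, show x ≫ v = y' from hx, hy']
    exact c.inv_hom_id_assoc y

theorem testIso_comp_iso {ι : Type*} {s : ι → _root_.DerComp.GSec O}
    {A B A' B' : DerivedCategory (ModSite.Mod O)} {v : A ⟶ B} (a : A' ≅ A) (b : B ≅ B')
    (h : TestIso s v) : TestIso s (a.hom ≫ v ≫ b.hom) := fun Y hY => by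
  have e : (fun x : Y ⟶ A' => x ≫ a.hom ≫ v ≫ b.hom) =
      b.homToEquiv ∘ (fun x => x ≫ v) ∘ a.homToEquiv := by
    funext x
    simp [Iso.homToEquiv]
  rw [e]
  exact b.homToEquiv.bijective.comp ((h Y hY).comp a.homToEquiv.bijective)

variable (T : ModSite.Mod O ⥤ ModSite.Mod O) [T.Additive] (η : 𝟭 (ModSite.Mod O) ⟶ T)

/-- The natural map on complexes. -/
noncomputable abbrev ηc (X : CochainComplex (ModSite.Mod O) ℤ) :
    X ⟶ (T.mapHomologicalComplex (ComplexShape.up ℤ)).obj X :=
  { f := fun n => η.app (X.X n)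
    comm' := fun p q _ => (η.naturality (X.d p q)).symm }

lemma ηc_naturality {X Y : CochainComplex (ModSite.Mod O) ℤ} (φ : X ⟶ Y) :
    φ ≫ ηc T η Y = ηc T η X ≫ (T.mapHomologicalComplex (ComplexShape.up ℤ)).map φ := by
  refine HomologicalComplex.hom_ext _ _ fun n => ?_
  exact η.naturality (φ.f n)

lemma ηc_cone {X Y : CochainComplex (ModSite.Mod O) ℤ} (φ : X ⟶ Y) :
    ηc T η (CochainComplex.mappingCone φ) ≫
        (CochainComplex.mappingCone.mapHomologicalComplexIso φ T).hom =
      CochainComplex.mappingCone.map φ _ (ηc T η X) (ηc T η Y) (ηc_naturality T η φ) := by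
  refine HomologicalComplex.hom_ext _ _ fun n => ?_
  have h1 := η.naturality ((CochainComplex.mappingCone.fst φ).1.v n (n + 1) rfl)
  have h2 := η.naturality ((CochainComplex.mappingCone.snd φ).v n n (add_zero n))
  simp only [Functor.id_map] at h1 h2
  change η.app _ ≫ (CochainComplex.mappingCone.mapHomologicalComplexXIso φ T n).hom =
    (CochainComplex.mappingCone.map φ _ (ηc T η X) (ηc T η Y) (ηc_naturality T η φ)).f n
  simp only [CochainComplex.mappingCone.mapHomologicalComplexXIso_eq φ T n (n + 1) rfl,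
    CochainComplex.mappingCone.mapHomologicalComplexXIso'_hom, CochainComplex.mappingCone.map,
    CochainComplex.mappingCone.desc_f _ _ _ _ n (n + 1) rfl, Preadditive.comp_add,
    CochainComplex.HomComplex.Cochain.zero_cochain_comp_v,
    CochainComplex.HomComplex.Cochain.ofHom_v, HomologicalComplex.comp_f]
  exact congrArg₂ (· + ·) ((reassoc_of% h1) _).symm ((reassoc_of% h2) _).symm

/-- The induction step: from the cones to the objects. -/
theorem testIso_step {ι : Type*} {s : ι → _root_.DerComp.GSec O} (g : ι)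
    {A A' B B' : DerivedCategory (ModSite.Mod O)} {a : A ⟶ A'} {δ : A' ⟶ A⟦(1 : ℤ)⟧}
    {a' : B ⟶ B'} {δ' : B' ⟶ B⟦(1 : ℤ)⟧} (hT₁ : Triangle.mk (s g • 𝟙 A) a δ ∈ distinguishedTriangles)
    (hT₂ : Triangle.mk (s g • 𝟙 B) a' δ' ∈ distinguishedTriangles) (α : A ⟶ B) (αc : A' ⟶ B')
    (h₂ : a ≫ αc = α ≫ a') (h₃ : δ ≫ α⟦(1 : ℤ)⟧' = αc ≫ δ') (hc : TestIso s αc) : TestIso s α := by
  let S := shiftFunctor (DerivedCategory (ModSite.Mod O)) (1 : ℤ)
  have sm : ∀ {P R : DerivedCategory (ModSite.Mod O)} (x : P ⟶ R), x ≫ (s g • 𝟙 R) = s g • x :=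
    fun x => by rw [Linear.comp_smul, Category.comp_id]
  have hgδ : s g • δ = 0 := by
    have := comp_distTriang_mor_zero₃₁ _ hT₁
    calc s g • δ = δ ≫ (s g • 𝟙 A)⟦(1 : ℤ)⟧' := by
          rw [Functor.map_smul, CategoryTheory.Functor.map_id, Linear.comp_smul, Category.comp_id]
      _ = 0 := this
  have hdiv : ∀ Y, Nilp s Y → ∀ x : Y ⟶ A, x ≫ α = 0 → ∃ y, y ≫ α = 0 ∧ s g • y = x := by
    intro Y hY x hx
    have hxa : x ≫ a = 0 := (hc Y hY).1 (show (x ≫ a) ≫ αc = (0 : Y ⟶ A') ≫ αc by
      rw [Category.assoc, h₂, reassoc_of% hx, zero_comp, zero_comp])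
    obtain ⟨y, hy⟩ : ∃ y : Y ⟶ A, x = y ≫ (s g • 𝟙 A) :=
      (Triangle.mk (s g • 𝟙 A) a δ).coyoneda_exact₂ hT₁ x hxa
    have hxy : s g • y = x := (hy.trans (sm y)).symm
    have hy0 : (y ≫ α) ≫ (s g • 𝟙 B) = 0 := by rw [sm, ← Linear.smul_comp, hxy, hx]
    obtain ⟨z', hz'⟩ : ∃ z' : Y⟦(1 : ℤ)⟧ ⟶ B', S.map (y ≫ α) = z' ≫ δ' :=
      (Triangle.mk (s g • 𝟙 B) a' δ').coyoneda_exact₁ hT₂ (S.map (y ≫ α))
        (show S.map (y ≫ α) ≫ S.map (s g • 𝟙 B) = 0 by rw [← Functor.map_comp, hy0, Functor.map_zero])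
    obtain ⟨z, hz⟩ := (hc _ fun i => (hY i).shift 1).2 z'
    obtain ⟨w, hw⟩ := S.map_surjective (S.map y - z ≫ δ)
    refine ⟨w, S.map_injective ?_, S.map_injective ?_⟩
    · rw [Functor.map_comp, hw, Functor.map_zero, Preadditive.sub_comp, ← Functor.map_comp, hz',
        sub_eq_zero, Category.assoc, h₃, ← Category.assoc, show z ≫ αc = z' from hz]
    · rw [Functor.map_smul, hw, smul_sub, ← Linear.comp_smul, hgδ, comp_zero, sub_zero,
        ← Functor.map_smul, hxy]
  have hinj : ∀ Y, Nilp s Y → ∀ x : Y ⟶ A, x ≫ α = 0 → x = 0 := by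
    intro Y hY x hx
    obtain ⟨N, hN⟩ := hY g
    have hpow : ∀ (m : ℕ) (x : Y ⟶ A), x ≫ α = 0 → ∃ y, s g ^ m • y = x := fun m => by
      induction m with
      | zero => exact fun x _ => ⟨x, by rw [pow_zero, one_smul]⟩
      | succ m ih =>
        intro x hx
        obtain ⟨y, hy0, rfl⟩ := hdiv Y hY x hx
        obtain ⟨z, rfl⟩ := ih y hy0
        exact ⟨z, by rw [pow_succ', mul_smul]⟩
    obtain ⟨y, rfl⟩ := hpow N x hx
    calc s g ^ N • y = (s g ^ N • 𝟙 Y) ≫ y := by rw [Linear.smul_comp, Category.id_comp]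
      _ = 0 := by rw [hN, zero_comp]
  intro Y hY
  refine ⟨fun p q hpq => sub_eq_zero.1 (hinj Y hY _ ?_), ?_⟩
  · rw [Preadditive.sub_comp, sub_eq_zero]
    exact hpq
  have hdiv2 : ∀ y : Y ⟶ B, ∃ (x : Y ⟶ A) (y' : Y ⟶ B), y = x ≫ α + s g • y' := by
    intro y
    obtain ⟨z, hz⟩ := (hc Y hY).2 (y ≫ a')
    change z ≫ αc = y ≫ a' at hz
    have hz3 : z ≫ δ = 0 := by
      let c := (shiftFunctorCompIsoId (DerivedCategory (ModSite.Mod O)) (-1 : ℤ) 1 (by omega)).app Y
      obtain ⟨w, hw⟩ := S.map_surjective (c.hom ≫ z ≫ δ)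
      have hw0 : w = 0 := hinj _ (fun i => (hY i).shift (-1)) w (S.map_injective (by
        rw [Functor.map_comp, hw, Functor.map_zero, Category.assoc, Category.assoc, h₃,
          reassoc_of% hz, show a' ≫ δ' = 0 from comp_distTriang_mor_zero₂₃ _ hT₂, comp_zero,
          comp_zero]))
      rw [← cancel_epi c.hom, ← hw, hw0, Functor.map_zero, comp_zero]
    obtain ⟨x, hx⟩ : ∃ x : Y ⟶ A, z = x ≫ a :=
      (Triangle.mk (s g • 𝟙 A) a δ).coyoneda_exact₃ hT₁ z hz3
    obtain ⟨y', hy'⟩ : ∃ y' : Y ⟶ B, y - x ≫ α = y' ≫ (s g • 𝟙 B) :=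
      (Triangle.mk (s g • 𝟙 B) a' δ').coyoneda_exact₂ hT₂ (y - x ≫ α)
        (show (y - x ≫ α) ≫ a' = 0 by
          rw [Preadditive.sub_comp, sub_eq_zero, ← hz, hx, Category.assoc, Category.assoc, h₂])
    exact ⟨x, y', (sub_eq_iff_eq_add'.1 hy').trans (congrArg (x ≫ α + ·) (sm y'))⟩
  intro y
  obtain ⟨N, hN⟩ := hY g
  have hm : ∀ (m : ℕ) (y : Y ⟶ B), ∃ (x : Y ⟶ A) (y' : Y ⟶ B), y = x ≫ α + s g ^ m • y' := fun m => by
    induction m with
    | zero => exact fun y => ⟨0, y, by rw [pow_zero, one_smul, zero_comp, zero_add]⟩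
    | succ m ih =>
      intro y
      obtain ⟨x, y', rfl⟩ := hdiv2 y
      obtain ⟨x', y'', rfl⟩ := ih y'
      exact ⟨x + s g • x', y'', by
        rw [Preadditive.add_comp, Linear.smul_comp, smul_add, ← mul_smul, ← pow_succ', add_assoc]⟩
  obtain ⟨x, y', rfl⟩ := hm N y
  refine ⟨x, ?_⟩
  change x ≫ α = x ≫ α + s g ^ N • y'
  rw [show s g ^ N • y' = (s g ^ N • 𝟙 Y) ≫ y' by rw [Linear.smul_comp, Category.id_comp], hN,
    zero_comp, add_zero]

/-- A natural map which is invertible on the iterated cone is seen as invertible by the objects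
killed by the family. -/
theorem testIso_of_kos {ι : Type*} (s : ι → _root_.DerComp.GSec O)
    (hTs : ∀ (t : _root_.DerComp.GSec O) (M : ModSite.Mod O),
      T.map (_root_.DerComp.smulEnd t M) = _root_.DerComp.smulEnd t (T.obj M)) :
    ∀ (l : List ι) (X : CochainComplex (ModSite.Mod O) ℤ),
      IsIso (DerivedCategory.Q.map (ηc T η (kos s l X))) →
      TestIso s (DerivedCategory.Q.map (ηc T η X))
  | [], X, h => fun Y _ => by
    haveI : IsIso (DerivedCategory.Q.map (ηc T η X)) := h
    exact ⟨fun a b e => (cancel_mono (DerivedCategory.Q.map (ηc T η X))).1 e,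
      fun y => ⟨y ≫ inv (DerivedCategory.Q.map (ηc T η X)), by simp⟩⟩
  | g :: l, X, h => by
    let φ := s g • 𝟙 X
    let FT := T.mapHomologicalComplex (ComplexShape.up ℤ)
    have hFT : FT.map φ = s g • 𝟙 (FT.obj X) := by
      refine HomologicalComplex.hom_ext _ _ fun n => ?_
      rw [RHomAway.smul_id_f]
      change T.map ((s g • 𝟙 X).f n) = _
      rw [RHomAway.smul_id_f, hTs]
      rfl
    let T₁ := DerivedCategory.Q.mapTriangle.obj (CochainComplex.mappingCone.triangle φ)
    let T₂ := DerivedCategory.Q.mapTriangle.obj (CochainComplex.mappingCone.triangle (FT.map φ))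
    let τ : T₁ ⟶ T₂ := DerivedCategory.Q.mapTriangle.map
      (CochainComplex.mappingCone.triangleMap φ (FT.map φ) (ηc T η X) (ηc T η X) (ηc_naturality T η φ))
    have hT₁ : T₁ ∈ distinguishedTriangles := DerivedCategory.mappingCone_triangle_distinguished _
    have hT₂ : T₂ ∈ distinguishedTriangles := DerivedCategory.mappingCone_triangle_distinguished _
    have e₁ : DerivedCategory.Q.map φ = s g • 𝟙 (DerivedCategory.Q.obj X) := by
      rw [Functor.map_smul, CategoryTheory.Functor.map_id]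
    have e₂ : DerivedCategory.Q.map (FT.map φ) = s g • 𝟙 (DerivedCategory.Q.obj (FT.obj X)) := by
      rw [hFT, Functor.map_smul, CategoryTheory.Functor.map_id]
    have hT₁' : Triangle.mk (s g • 𝟙 (DerivedCategory.Q.obj X)) T₁.mor₂ T₁.mor₃ ∈ distinguishedTriangles := by
      rw [← e₁]; exact hT₁
    have hT₂' : Triangle.mk (s g • 𝟙 (DerivedCategory.Q.obj (FT.obj X))) T₂.mor₂ T₂.mor₃ ∈
        distinguishedTriangles := by
      rw [← e₂]; exact hT₂
    refine testIso_step g hT₁' hT₂' (DerivedCategory.Q.map (ηc T η X)) τ.hom₃ τ.comm₂ τ.comm₃ ?_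
    have e : τ.hom₃ = (Iso.refl _).hom ≫ DerivedCategory.Q.map (ηc T η (CochainComplex.mappingCone φ)) ≫
        (DerivedCategory.Q.mapIso (CochainComplex.mappingCone.mapHomologicalComplexIso φ T)).hom := by
      rw [Iso.refl_hom, Category.id_comp, Functor.mapIso_hom, ← Functor.map_comp, ηc_cone]
      rfl
    rw [e]
    exact testIso_comp_iso _ _ (testIso_of_kos s hTs l _ h)

/-- The cone of a map seen as invertible by the test objects is invisible to them. -/
theorem subsingleton_of_testIso {U : C} {ι : Type*} {s : ι → _root_.DerComp.GSec (O.over U)}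
    {K K' N : DerivedCategory (ModSite.Mod O)} {v : K ⟶ K'} {m₂ : K' ⟶ N} {m₃ : N ⟶ K⟦(1 : ℤ)⟧}
    (hT : Triangle.mk v m₂ m₃ ∈ distinguishedTriangles) (h : TestIso s ((R U).map v))
    (Y : DerivedCategory (ModSite.Mod (O.over U))) (hY : Nilp s Y) (n : ℤ) :
    Subsingleton (Y ⟶ (R U).obj (N⟦n⟧)) := by
  let T := (R U).mapTriangle.obj (Triangle.mk v m₂ m₃)
  have hTU : T ∈ distinguishedTriangles := (R U).map_distinguished _ hT
  let Y' := Y⟦-n⟧
  have hY' : Nilp s Y' := fun i => (hY i).shift (-n)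
  let S := shiftFunctor (DerivedCategory (ModSite.Mod (O.over U))) (1 : ℤ)
  have hsub : Subsingleton (Y' ⟶ T.obj₃) := by
    refine subsingleton_of_forall_eq 0 fun x => ?_
    have hx : x ≫ T.mor₃ = 0 := by
      let c := (shiftFunctorCompIsoId (DerivedCategory (ModSite.Mod (O.over U))) (-1 : ℤ) 1 (by omega)).app Y'
      obtain ⟨w, hw⟩ := S.map_surjective (c.hom ≫ x ≫ T.mor₃)
      have h0 : w ≫ T.mor₁ = 0 := S.map_injective (by
        rw [Functor.map_comp, hw, Functor.map_zero, Category.assoc, Category.assoc]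
        erw [comp_distTriang_mor_zero₃₁ _ hTU]
        simp)
      have hw0 : w = 0 := (h _ fun i => (hY' i).shift (-1)).1 (h0.trans zero_comp.symm)
      rw [← cancel_epi c.hom, ← hw, hw0, Functor.map_zero, comp_zero]
    obtain ⟨y, rfl⟩ := T.coyoneda_exact₃ hTU x hx
    obtain ⟨z, rfl⟩ := (h Y' hY').2 y
    change (z ≫ T.mor₁) ≫ T.mor₂ = 0
    exact (Category.assoc _ _ _).trans ((congrArg (z ≫ ·) (comp_distTriang_mor_zero₁₂ _ hTU)).trans comp_zero)
  refine ⟨fun p q => ?_⟩
  apply (shiftFunctor (DerivedCategory (ModSite.Mod (O.over U))) (-n)).map_injective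
  exact (cancel_mono (((R U).commShiftIso (-n)).inv.app (N⟦n⟧) ≫
    (R U).map ((shiftFunctorCompIsoId _ n (-n) (by omega)).hom.app N))).1 (hsub.elim _ _)

end

section Site

variable {C : Type u} [SmallCategory C] {J : GrothendieckTopology C} {O O' : Sheaf J CommRingCat.{u}}
  (φ : O ⟶ O')

instance additive_pullRS : (idMor φ).pull.Additive := (adjRS φ).left_adjoint_additive

instance preservesFiniteColimits_pullRS : PreservesFiniteColimits (idMor φ).pull :=
  haveI : (idMor φ).pull.IsLeftAdjoint := (idMor φ).adj.isLeftAdjoint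
  PreservesColimitsOfSize.preservesFiniteColimits.{0, 0} _

variable {U : C} {r : ℕ} (a : Fin r → O.obj.obj (op U))

set_option maxHeartbeats 800000 in
/-- The derived unit, restricted, is seen as invertible by the objects killed by the sections. -/
theorem testIso_unit (hflat : ModSite.IsFlat (E φ)) [IsIso (bar (S a) (oneU φ U))]
    [PreservesFiniteLimits (idMor φ).pull] [PreservesFiniteLimits (RS φ)]
    [PreservesFiniteColimits (RS φ)] (K : DerivedCategory (ModSite.Mod O)) :
    TestIso (S a) ((R U).map ((adjD (adjRS φ)).unit.app K)) := by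
  let P := DerivedCategory.Q.objPreimage K
  let e := DerivedCategory.Q.objObjPreimageIso K
  suffices h : TestIso (S a) ((R U).map ((adjD (adjRS φ)).unit.app (DerivedCategory.Q.obj P))) by
    have hn := (adjD (adjRS φ)).unit.naturality e.hom
    simp only [Functor.id_map] at hn
    have : (R U).map ((adjD (adjRS φ)).unit.app K) = ((R U).mapIso e.symm).hom ≫
        (R U).map ((adjD (adjRS φ)).unit.app (DerivedCategory.Q.obj P)) ≫
          ((R U).mapIso (((idMor φ).pull.mapDerivedCategory ⋙ (RS φ).mapDerivedCategory).mapIso e)).hom := by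
      rw [Functor.mapIso_hom, Functor.mapIso_hom, ← Functor.map_comp, ← Functor.map_comp]
      refine congrArg _ ?_
      rw [Iso.symm_hom, Iso.eq_inv_comp]
      exact hn
    rw [this]
    exact testIso_comp_iso _ _ h
  let T := (ModSite.tensorBi (O.over U)).flip.obj ((ModSite.restr O U).obj (E φ))
  have hF := ExtZero.ModSite.isFlat_restr O U (E φ) hflat
  haveI : PreservesFiniteLimits T := hF.1
  haveI : PreservesFiniteColimits T := hF.2
  haveI : T.Additive := Functor.additive_of_preserves_binary_products _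
  let η := ηT (oneU φ U)
  let PU := ((ModSite.restr O U).mapHomologicalComplex (ComplexShape.up ℤ)).obj P
  have hTs : ∀ (t : _root_.DerComp.GSec (O.over U)) (M : ModSite.Mod (O.over U)),
      T.map (_root_.DerComp.smulEnd t M) = _root_.DerComp.smulEnd t (T.obj M) := fun t M =>
    RHomComplete.smulEnd_tensor_left t M _
  have hq : IsIso (DerivedCategory.Q.map (ηc T η (kos (S a) (List.finRange r) PU))) := by
    haveI := quasiIso_kos φ a hflat (kos (S a) (List.finRange r) PU)
      (nilp_kos _ _ _ fun i hi => absurd (List.mem_finRange i) hi)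
    haveI : QuasiIso (ηc T η (kos (S a) (List.finRange r) PU)) :=
      inferInstanceAs (QuasiIso ((NatTrans.mapHomologicalComplex (ηT (oneU φ U))
        (ComplexShape.up ℤ)).app (kos (S a) (List.finRange r) PU)))
    infer_instance
  have h1 := testIso_of_kos T η (S a) hTs (List.finRange r) PU hq
  let u : P ⟶ (((idMor φ).pull ⋙ RS φ).mapHomologicalComplex (ComplexShape.up ℤ)).obj P :=
    { f := fun n => (adjRS φ).unit.app (P.X n)
      comm' := fun p q _ => ((adjRS φ).unit.naturality (P.d p q)).symm }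
  let Θ : (T.mapHomologicalComplex (ComplexShape.up ℤ)).obj PU ≅
      ((ModSite.restr O U).mapHomologicalComplex (ComplexShape.up ℤ)).obj
        ((((idMor φ).pull ⋙ RS φ).mapHomologicalComplex (ComplexShape.up ℤ)).obj P) :=
    HomologicalComplex.Hom.isoOfComponents (fun n => θU φ (P.X n) U) fun p q _ => θU_naturality φ U (P.d p q)
  have hΘ : ηc T η PU ≫ Θ.hom = ((ModSite.restr O U).mapHomologicalComplex (ComplexShape.up ℤ)).map u :=
    HomologicalComplex.hom_ext _ _ fun n => ηT_θU φ (P.X n) U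
  have h2 : TestIso (S a) ((R U).map (DerivedCategory.Q.map u)) := by
    have hn := (ModSite.restr O U).mapDerivedCategoryFactors.hom.naturality u
    simp only [Functor.comp_map] at hn
    have : (R U).map (DerivedCategory.Q.map u) =
        ((ModSite.restr O U).mapDerivedCategoryFactors.app P).hom ≫
          DerivedCategory.Q.map (ηc T η PU) ≫
            (DerivedCategory.Q.mapIso Θ ≪≫ ((ModSite.restr O U).mapDerivedCategoryFactors.app _).symm).hom := by
      rw [Iso.trans_hom, Functor.mapIso_hom, ← Functor.map_comp_assoc, hΘ, Iso.app_hom, Iso.symm_hom,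
        Iso.app_inv, ← Category.assoc, ← hn, Category.assoc, Iso.hom_inv_id_app]
      exact (Category.comp_id _).symm
    rw [this]
    exact testIso_comp_iso _ _ h1
  let ι : DerivedCategory.Q.obj ((((idMor φ).pull ⋙ RS φ).mapHomologicalComplex (ComplexShape.up ℤ)).obj P) ≅
      ((idMor φ).pull.mapDerivedCategory ⋙ (RS φ).mapDerivedCategory).obj (DerivedCategory.Q.obj P) :=
    (RS φ).mapDerivedCategoryFactors.symm.app (((idMor φ).pull.mapHomologicalComplex _).obj P) ≪≫
      (RS φ).mapDerivedCategory.mapIso ((idMor φ).pull.mapDerivedCategoryFactors.app P).symm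
  have key : (adjD (adjRS φ)).unit.app (DerivedCategory.Q.obj P) = DerivedCategory.Q.map u ≫ ι.hom := by
    simp only [adjD, Adjunction.localization_unit_app]
    rfl
  have h3 := testIso_comp_iso (Iso.refl _) ((R U).mapIso ι) h2
  rw [Iso.refl_hom, Category.id_comp, Functor.mapIso_hom] at h3
  rw [key]
  exact ((R U).map_comp (DerivedCategory.Q.map u) ι.hom).symm ▸ h3

end Site

end Groth.Agent.Lib.DerComp.ResUnit
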