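import Groth.Prelude.Def_DerComp
import Groth.Agent.Lib.RMorLocal.Basic

/-!
# Sheaves of ideals locally contained in a span
-/

set_option linter.style.haveILetI false

universe u

open CategoryTheory CategoryTheory.Limits Opposite

namespace Groth.Agent.Lib.DerComp.SpanLocal

variable {C : Type u} [SmallCategory C] {J : GrothendieckTopology C} (O : Sheaf J CommRingCat.{u})
  {U : C} {ι : Type*} (a : ι → O.obj.obj (op U))

/-- The ideal spanned over `Z ⟶ U`. -/
def spanAt {Z : C} (p : Z ⟶ U) : Ideal (O.obj.obj (op Z)) :=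
  Ideal.span (Set.range fun i => (O.obj.map p.op).hom (a i))

variable {O a}

lemma map_comp_apply {X Y Z : C} (g : Y ⟶ X) (h : Z ⟶ Y) (x : O.obj.obj (op X)) :
    (O.obj.map h.op).hom ((O.obj.map g.op).hom x) = (O.obj.map (h ≫ g).op).hom x := by
  rw [op_comp, Functor.map_comp, CommRingCat.comp_apply]

lemma spanAt_map {Z Z' : C} (p : Z ⟶ U) (q : Z' ⟶ Z) {h : O.obj.obj (op Z)}
    (hh : h ∈ spanAt O a p) : (O.obj.map q.op).hom h ∈ spanAt O a (q ≫ p) := by
  have := Ideal.mem_map_of_mem (O.obj.map q.op).hom hh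
  rw [spanAt, Ideal.map_span, ← Set.range_comp] at this
  rw [spanAt]
  convert this using 3
  funext i
  exact (map_comp_apply p q (a i)).symm

variable (O a) in
/-- Where a section lies in the span. -/
def spanSieve {Z : C} (p : Z ⟶ U) (h : O.obj.obj (op Z)) : Sieve Z where
  arrows Z' q := (O.obj.map q.op).hom h ∈ spanAt O a (q ≫ p)
  downward_closed {Z' Z''} {q} hq r := by
    have := spanAt_map (q ≫ p) r hq
    rwa [map_comp_apply, ← Category.assoc] at this

variable (O a) in
/-- The sections lying locally in the span. -/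
def locSpan {Z : C} (p : Z ⟶ U) : Ideal (O.obj.obj (op Z)) where
  carrier := {h | spanSieve O a p h ∈ J Z}
  add_mem' {x y} hx hy := J.superset_covering (fun W q hq => by
    change (O.obj.map q.op).hom (x + y) ∈ spanAt O a (q ≫ p)
    rw [map_add]
    exact Ideal.add_mem _ hq.1 hq.2) (J.intersection_covering hx hy)
  zero_mem' := J.superset_covering (fun W q _ => by
    change (O.obj.map q.op).hom 0 ∈ spanAt O a (q ≫ p)
    rw [map_zero]
    exact Ideal.zero_mem _) (J.top_mem _)
  smul_mem' b x hx := J.superset_covering (fun W q hq => by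
    change (O.obj.map q.op).hom (b * x) ∈ spanAt O a (q ≫ p)
    rw [map_mul]
    exact Ideal.mul_mem_left _ _ hq) hx

lemma locSpan_map {Z Z' : C} (p : Z ⟶ U) (g : Z' ⟶ Z) {h : O.obj.obj (op Z)}
    (hh : h ∈ locSpan O a p) : (O.obj.map g.op).hom h ∈ locSpan O a (g ≫ p) :=
  J.superset_covering (fun W q (hq : spanSieve O a p h (q ≫ g)) => by
    change (O.obj.map q.op).hom ((O.obj.map g.op).hom h) ∈ spanAt O a (q ≫ g ≫ p)
    rw [map_comp_apply]
    change _ ∈ spanAt O a ((q ≫ g) ≫ p) at hq
    rwa [Category.assoc] at hq) (J.pullback_stable g hh)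

lemma mem_locSpan_of_cover {Z : C} (p : Z ⟶ U) {h : O.obj.obj (op Z)} (S : Sieve Z) (hS : S ∈ J Z)
    (H : ∀ ⦃Z' : C⦄ (q : Z' ⟶ Z), S q → (O.obj.map q.op).hom h ∈ locSpan O a (q ≫ p)) :
    h ∈ locSpan O a p :=
  J.transitive hS _ fun Z' q hq => J.superset_covering (fun W r hr => by
    change (O.obj.map (r ≫ q).op).hom h ∈ spanAt O a ((r ≫ q) ≫ p)
    rw [← map_comp_apply, Category.assoc]
    exact hr) (H q hq)

lemma spanAt_le_locSpan {Z : C} (p : Z ⟶ U) : spanAt O a p ≤ locSpan O a p := fun _ hx =>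
  J.superset_covering (fun _ q _ => spanAt_map p q hx) (J.top_mem _)

variable (O a) in
/-- The family `a` spans `I` locally over `U`. -/
def SL (I : _root_.DerComp.IdealSh O) : Prop :=
  ∀ ⦃Z : C⦄ (p : Z ⟶ U), I.ideal Z ≤ locSpan O a p

/-- Generators span locally. -/
theorem sl_of_isGenBy {I : _root_.DerComp.IdealSh O}
    (h : (I.over U).IsGenBy fun i => _root_.DerComp.GSec.ofSect O U (a i)) : SL O a I := by
  let I₀ : _root_.DerComp.IdealSh (O.over U) :=
    { ideal := fun W => locSpan O a W.hom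
      map_mem := fun {W W'} g x hx => by
        have := locSpan_map (W.hom : W.left ⟶ U) g.left hx
        rwa [Over.w g] at this
      glue := fun {W x} S hS H => mem_locSpan_of_cover _ _
        ((GrothendieckTopology.mem_over_iff _ _).1 hS) fun Z' q hq =>
          H (Over.homMk q : Over.mk (q ≫ W.hom) ⟶ W) ((Sieve.overEquiv_iff S q).1 hq) }
  have hle : I.over U ≤ I₀ := h.2 I₀ fun i W =>
    spanAt_le_locSpan _ (Ideal.subset_span ⟨i, rfl⟩)
  exact fun Z p x hx => hle (Over.mk p) hx

variable {D : Type u} [SmallCategory D] {K : GrothendieckTopology D} {O_D : Sheaf K CommRingCat.{u}}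

/-- Images of generators span the ideal generated by the image. -/
theorem sl_ext (f : _root_.ModSite.RMor O O_D) {I : _root_.DerComp.IdealSh O_D}
    {I' : _root_.DerComp.IdealSh O} (hI' : _root_.DerComp.RIsIdealExt f I I') {V : D}
    {b : ι → O_D.obj.obj (op V)} (hb : SL O_D b I) :
    SL O (U := f.fn.obj V)
      (fun i => show O.obj.obj (op (f.fn.obj V)) from (f.sharp.hom.app (op V)).hom (b i)) I' := by
  haveI := f.isContinuous
  haveI := f.exact
  let b' : ι → O.obj.obj (op (f.fn.obj V)) := fun i =>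
    show O.obj.obj (op (f.fn.obj V)) from (f.sharp.hom.app (op V)).hom (b i)
  let sh : ∀ d : D, O_D.obj.obj (op d) →+* O.obj.obj (op (f.fn.obj d)) := fun d =>
    (f.sharp.hom.app (op d)).hom
  have hsh : ∀ {d d' : D} (r : d' ⟶ d) (x : O_D.obj.obj (op d)),
      sh d' ((O_D.obj.map r.op).hom x) = (O.obj.map (f.fn.map r).op).hom (sh d x) := fun r x =>
    congrArg (fun z => z.hom x) (f.sharp.hom.naturality r.op)
  let I'' : _root_.DerComp.IdealSh O :=
    { ideal := fun W => ⨅ (Z : C) (k : Z ⟶ W) (p : Z ⟶ f.fn.obj V),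
        Ideal.comap (O.obj.map k.op).hom (locSpan O b' p)
      map_mem := fun {W W'} g x hx => by
        simp only [Submodule.mem_iInf, Ideal.mem_comap] at hx ⊢
        intro Z k p
        rw [map_comp_apply]
        exact hx Z (k ≫ g) p
      glue := fun {W x} S hS H => by
        simp only [Submodule.mem_iInf, Ideal.mem_comap] at H ⊢
        intro Z k p
        refine mem_locSpan_of_cover p _ (J.pullback_stable k hS) fun Z' q hq => ?_
        rw [map_comp_apply]
        have := H (q ≫ k) hq Z' (𝟙 Z') (q ≫ p)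
        rwa [map_comp_apply, Category.id_comp] at this }
  have hle : I' ≤ I'' := hI'.2 I'' fun W g hg => by
    change sh W g ∈ I''.ideal (f.fn.obj W)
    simp only [I'', Submodule.mem_iInf, Ideal.mem_comap]
    intro Z k p
    obtain ⟨S, hS, hS'⟩ := RMorLocal.Basic.exists_cover_prod (J := J) (K := K) f.fn k p
    refine mem_locSpan_of_cover p S hS fun c' q hq => ?_
    obtain ⟨d, a₀, b₀, ψ, h1, h2⟩ := hS' q hq
    obtain ⟨S₂, hS₂, hS₂'⟩ := RMorLocal.Basic.exists_cover_lift (J := J) (K := K) f.fn ψ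
      (hb b₀ (I.map_mem a₀ hg))
    refine mem_locSpan_of_cover _ S₂ hS₂ fun c'' q₂ hq₂ => spanAt_le_locSpan _ ?_
    obtain ⟨d', r, ψ', hr, h3⟩ := hS₂' q₂ hq₂
    let Φ : O_D.obj.obj (op d') →+* O.obj.obj (op c'') := (O.obj.map ψ'.op).hom.comp (sh d')
    have hΦ : ∀ {d₀ : D} (t : d' ⟶ d₀) (x : O_D.obj.obj (op d₀)),
        Φ ((O_D.obj.map t.op).hom x) = (O.obj.map (ψ' ≫ f.fn.map t).op).hom (sh d₀ x) :=
      fun t x => by
        change (O.obj.map ψ'.op).hom (sh d' ((O_D.obj.map t.op).hom x)) = _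
        rw [hsh, map_comp_apply]
    have hmem := Ideal.mem_map_of_mem Φ hr
    rw [spanAt, Ideal.map_span, ← Set.range_comp] at hmem
    have hg' : Φ ((O_D.obj.map r.op).hom ((O_D.obj.map a₀.op).hom g)) =
        (O.obj.map q₂.op).hom ((O.obj.map q.op).hom ((O.obj.map k.op).hom (sh W g))) := by
      rw [map_comp_apply, map_comp_apply, map_comp_apply, hΦ, Functor.map_comp, ← Category.assoc,
        h3, Category.assoc, h1, Category.assoc]
    rw [← hg', spanAt]
    convert hmem using 3
    funext i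
    change (O.obj.map (q₂ ≫ q ≫ p).op).hom (sh V (b i)) = Φ ((O_D.obj.map (r ≫ b₀).op).hom (b i))
    rw [hΦ, Functor.map_comp, reassoc_of% h3, h2]
  intro Z p x hx
  have := hle Z hx
  simp only [I'', Submodule.mem_iInf, Ideal.mem_comap] at this
  simpa [b'] using this Z (𝟙 Z) p

end Groth.Agent.Lib.DerComp.SpanLocal
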