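import Groth.Agent.Lib.DerComp.KosTest
import Groth.Agent.Lib.DerComp.SpanLocal
import Groth.Agent.Lib.DerComp.Away
import Groth.Agent.Lib.EtMod.SubSheaf
import Groth.Agent.Lib.DerivedOX.LeftRes
import Mathlib.Algebra.Homology.ShortComplex.Linear

/-!
# Objects with no maps to derived complete objects, seen from the test objects
-/

set_option linter.style.haveILetI false

universe u

open CategoryTheory CategoryTheory.Limits Opposite Pretriangulated
attribute [local instance] HasDerivedCategory.standard

namespace Groth.Agent.Lib.DerComp.SiteOrth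

open Groth.Agent.Lib Groth.Agent.Lib.DerCat Crit Local NilpTest Kos KosTest SpanLocal

variable {C : Type u} [SmallCategory C] {J : GrothendieckTopology C} {O : Sheaf J CommRingCat.{u}}

instance module' (M : ModSite.Mod O) (X : Cᵒᵖ) : Module (O.obj.obj X) (M.val.obj X) :=
  inferInstanceAs (Module ((ModSite.ringSh O).obj.obj X) (M.val.obj X))

/-- Restriction of a section. -/
noncomputable def rmap (M : ModSite.Mod O) {X Y : C} (q : Y ⟶ X) (m : M.val.obj (op X)) : M.val.obj (op Y) :=
  M.val.map q.op m

variable {M N : ModSite.Mod O} {X Y Z : C}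

lemma rmap_add (q : Y ⟶ X) (m m' : M.val.obj (op X)) :
    rmap M q (m + m') = rmap M q m + rmap M q m' :=
  map_add (M.val.map q.op).hom m m'

lemma rmap_zero (q : Y ⟶ X) : rmap M q (0 : M.val.obj (op X)) = 0 :=
  map_zero (M.val.map q.op).hom

lemma rmap_smul (q : Y ⟶ X) (r : O.obj.obj (op X)) (m : M.val.obj (op X)) :
    rmap M q (r • m) = (O.obj.map q.op).hom r • rmap M q m :=
  PresheafOfModules.map_smul M.val q.op r m

lemma rmap_comp (q : Y ⟶ X) (p : Z ⟶ Y) (m : M.val.obj (op X)) :
    rmap M p (rmap M q m) = rmap M (p ≫ q) m :=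
  (PresheafOfModules.map_comp_apply M.val q.op p.op m).symm

lemma app_rmap (φ : M ⟶ N) (q : Y ⟶ X) (m : M.val.obj (op X)) :
    φ.val.app (op Y) (rmap M q m) = rmap N q (φ.val.app (op X) m) :=
  PresheafOfModules.naturality_apply φ.val q.op m

lemma app_smul (φ : M ⟶ N) (r : O.obj.obj (op X)) (m : M.val.obj (op X)) :
    φ.val.app (op X) (r • m) = r • (show N.val.obj (op X) from φ.val.app (op X) m) :=
  (φ.val.app (op X)).hom.map_smul r m

/-- The tensor product with a localisation of a module killed locally by powers vanishes. -/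
theorem isZero_away (t : _root_.DerComp.GSec O) (M : ModSite.Mod O)
    (h : ∀ (Z : C) (m : M.val.obj (op Z)), ∃ T ∈ J Z, ∀ ⦃Z' : C⦄ (q : Z' ⟶ Z), T q →
      ∃ N : ℕ, (t.1 Z') ^ N • rmap M q m = 0) :
    IsZero (((ModSite.tensorBi O).obj (Away.B t)).obj M) := by
  refine IsZero.of_iso ?_ ((ModTensor.ModSite.flipObjIso (Away.B t)).symm.app M)
  let P := ((ModSite.tensorBi O).flip.obj (Away.B t)).obj M
  have hrel : ∀ n k, (Away.τ t n).app M =
      _root_.DerComp.smulEnd (t ^ k) M ≫ (Away.τ t (n + k)).app M := fun n k => by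
    induction k with
    | zero => rw [pow_zero, _root_.DerComp.smulEnd_one]; exact (Category.id_comp _).symm
    | succ k ih =>
      rw [ih, Away.τ_rel t (n + k) M, ← Category.assoc, _root_.DerComp.smulEnd_comp, ← pow_succ,
        add_assoc]
  have hτ : ∀ n, (Away.τ t n).app M = 0 := fun n => by
    refine SheafOfModules.hom_ext (PresheafOfModules.hom_ext fun X =>
      ModuleCat.hom_ext (LinearMap.ext fun m => ?_))
    obtain ⟨T, hT, hT'⟩ := h X.unop m
    refine EtMod.SubSheaf.sections_ext P hT fun Z' q hq => ?_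
    obtain ⟨N, hN⟩ := hT' q hq
    refine Eq.trans ?_ (rmap_zero (M := P) q).symm
    refine (app_rmap ((Away.τ t n).app M) q m).symm.trans ?_
    have e := congrArg (fun z => z.val.app (op Z') (rmap M q m)) (hrel n N)
    refine e.trans ?_
    refine (EtMod.SubSheaf.app_comp_apply _ _ _ _).trans ?_
    refine Eq.trans (congrArg _ ?_) (map_zero _)
    exact hN
  obtain ⟨ψ, -, huniq⟩ := Away.existsUnique_desc t M P (fun _ => 0) fun _ => comp_zero.symm
  rw [IsZero.iff_id_eq_zero]
  exact (huniq (𝟙 P) fun n => by rw [hτ]; exact zero_comp).trans (huniq 0 fun _ => comp_zero).symm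

section

variable {U : C} {ι : Type*} {a : ι → O.obj.obj (op U)} {I : _root_.DerComp.IdealSh O}

set_option maxHeartbeats 800000 in
/-- Extensions by zero of modules killed by powers of spanning sections. -/
theorem locally_killed (hSL : SL O a I) (H : ModSite.Mod (O.over U))
    (hH : ∀ (W : Over U) (m : H.val.obj (op W)) (i : ι),
      ∃ N : ℕ, ((S a i).1 W) ^ N • m = 0)
    (Z : C) (m : ((ExtZero.ModSite.EZ O U).obj H).val.obj (op Z)) (h : O.obj.obj (op Z))
    (hh : h ∈ I.ideal Z) :
    ∃ T ∈ J Z, ∀ ⦃Z' : C⦄ (q : Z' ⟶ Z), T q → ∃ N : ℕ,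
      ((O.obj.map q.op).hom h) ^ N • rmap _ q m = 0 := by
  let M := (ExtZero.ModSite.EZ O U).obj H
  let killSieve : ∀ {X : C}, O.obj.obj (op X) → M.val.obj (op X) → Sieve X := fun {X} r x =>
    { arrows := fun Y q => ∃ N : ℕ, ((O.obj.map q.op).hom r) ^ N • rmap M q x = 0
      downward_closed := fun {Y Y'} {q} ⟨N, hN⟩ p => ⟨N, by
        rw [← map_comp_apply, ← map_pow, ← rmap_comp, ← rmap_smul, hN, rmap_zero]⟩ }
  let P : M.val.Submodule :=
    { obj := fun X =>
        { carrier := {x | ∀ ⦃Y : C⦄ (k : Y ⟶ X.unop) (r : O.obj.obj (op Y)), r ∈ I.ideal Y →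
            killSieve r (rmap M k x) ∈ J Y}
          add_mem' := fun {x y} hx hy Y k r hr => J.superset_covering (fun Y' q hq => by
            obtain ⟨⟨N₁, h₁⟩, ⟨N₂, h₂⟩⟩ := hq
            refine ⟨N₁ + N₂, ?_⟩
            rw [rmap_add, rmap_add, smul_add, pow_add, mul_smul, mul_smul, h₂, smul_zero, add_zero,
              smul_comm, h₁, smul_zero])
            (J.intersection_covering (hx k r hr) (hy k r hr))
          zero_mem' := fun Y k r _ => J.superset_covering (fun Y' q _ => ⟨0, by
            rw [rmap_zero, rmap_zero, smul_zero]⟩) (J.top_mem _)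
          smul_mem' := fun c x hx Y k r hr => J.superset_covering (fun Y' q hq => by
            obtain ⟨N, hN⟩ := hq
            refine ⟨N, ?_⟩
            have e : rmap M q (rmap M k (c • x)) = (O.obj.map q.op).hom
                ((O.obj.map k.op).hom (show O.obj.obj (op X.unop) from c)) •
                rmap M q (rmap M k x) :=
              (congrArg (rmap M q) (rmap_smul k (show O.obj.obj (op X.unop) from c) x)).trans
                (rmap_smul q _ _)
            rw [e, smul_comm, hN, smul_zero]) (hx k r hr) }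
      map := fun {X X'} g x hx Y k r hr => by
        have e := rmap_comp (M := M) g.unop k x
        exact e ▸ hx (k ≫ g.unop) r hr }
  let η := (ExtZero.ModSite.adjEZ O U).unit.app H
  let η' : ∀ (W : Over U), H.val.obj (op W) → M.val.obj (op W.left) := fun W x =>
    η.val.app (op W) x
  have hη : ∀ (W : Over U) (x : H.val.obj (op W)), η' W x ∈ P.obj (op W.left) := by
    intro W x Y k r hr
    refine J.superset_covering (fun Y' q hq => ?_) (hSL (k ≫ W.hom) hr)
    let y : M.val.obj (op Y') := rmap M q (rmap M k (η' W x))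
    let Ann : Ideal (O.obj.obj (op Y')) := LinearMap.ker (LinearMap.toSpanSingleton _ _ y)
    suffices (O.obj.map q.op).hom r ∈ Ann.radical by
      obtain ⟨N, hN⟩ := this
      exact ⟨N, hN⟩
    refine (Ideal.span_le.2 ?_) hq
    rintro _ ⟨i, rfl⟩
    let W' : Over U := Over.mk (q ≫ k ≫ W.hom)
    let l : W' ⟶ W := Over.homMk (q ≫ k) (Category.assoc _ _ _)
    obtain ⟨N, hN⟩ := hH W' (rmap H l x) i
    refine ⟨N, ?_⟩
    change ((O.obj.map (q ≫ k ≫ W.hom).op).hom (a i)) ^ N • y = 0
    have e : y = η.val.app (op W') (rmap H l x) := by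
      refine Eq.trans ?_ (app_rmap η l x).symm
      exact rmap_comp _ _ _
    rw [e]
    refine Eq.trans ?_ ((congrArg _ hN).trans (map_zero (η.val.app (op W')).hom))
    exact (app_smul η (((S a i).1 W') ^ N) (rmap H l x)).symm
  let ψ₀ : H ⟶ (ModSite.restr O U).obj (EtMod.SubSheaf.closureSheaf P) :=
    ⟨PresheafOfModules.homMk
      { app := fun W => AddCommGrpCat.ofHom
          { toFun := fun x => ⟨η.val.app W x, EtMod.SubSheaf.le_closure P _ (hη W.unop x)⟩
            map_zero' := Subtype.ext (map_zero (η.val.app W).hom)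
            map_add' := fun x y => Subtype.ext (map_add (η.val.app W).hom x y) }
        naturality := fun W W' g => by
          ext x
          exact Subtype.ext (PresheafOfModules.naturality_apply η.val g x) }
      (fun W r x => Subtype.ext (map_smul (η.val.app W).hom r x))⟩
  have hm := EtMod.SubSheaf.mem_closure_of_epi (𝟙 M) P
    (((ExtZero.ModSite.adjEZ O U).homEquiv H _).symm ψ₀) (by
      apply ((ExtZero.ModSite.adjEZ O U).homEquiv H M).injective
      rw [Adjunction.homEquiv_naturality_right, Equiv.apply_symm_apply, Adjunction.homEquiv_id]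
      refine SheafOfModules.hom_ext (PresheafOfModules.hom_ext fun W => ?_)
      ext x
      rfl) m
  refine ⟨killSieve h m, J.transitive hm _ fun Y f hf => ?_, fun Z' q hq => hq⟩
  have hk := hf (𝟙 Y) ((O.obj.map f.op).hom h) (I.map_mem f hh)
  refine J.superset_covering (fun Y' q hq => ?_) hk
  obtain ⟨N, hN⟩ := hq
  refine ⟨N, ?_⟩
  change ((O.obj.map q.op).hom ((O.obj.map f.op).hom h)) ^ N •
    rmap M q (rmap M (𝟙 Y) (rmap M f m)) = 0 at hN
  rw [rmap_comp, rmap_comp, map_comp_apply] at hN
  rw [Category.comp_id] at hN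
  exact hN

end

variable {U : C} {r : ℕ} {a : Fin r → O.obj.obj (op U)} {I : _root_.DerComp.IdealSh O}

/-- Homology of the test complex is killed by powers of the sections. -/
theorem smul_homology_eq_zero (n : ℤ) (W : Over U)
    (m : ((kos (S a) (List.finRange r) (u₀ (O.over U))).homology n).val.obj (op W)) (i : Fin r) :
    ∃ N : ℕ, ((S a i).1 W) ^ N • m = 0 := by
  let P := kos (S a) (List.finRange r) (u₀ (O.over U))
  obtain ⟨N, hN⟩ := nilp_KU a i
  refine ⟨N, ?_⟩
  let φ : P ⟶ P := (S a i) ^ N • 𝟙 P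
  have h0 : DerivedCategory.Q.map φ = 0 := by
    rw [Functor.map_smul, CategoryTheory.Functor.map_id]
    exact hN
  have h1 : HomologicalComplex.homologyMap φ n = 0 := by
    have e := DerivedCategory.homologyFunctorFactors_hom_naturality φ n
    rw [h0, Functor.map_zero, zero_comp] at e
    exact (cancel_epi ((DerivedCategory.homologyFunctorFactors _ n).hom.app P)).1
      (e.symm.trans comp_zero.symm)
  have h2 : (HomologicalComplex.shortComplexFunctor (ModSite.Mod (O.over U)) (ComplexShape.up ℤ) n).map φ =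
      (S a i) ^ N • 𝟙 (P.sc n) := by
    ext <;> rfl
  have h3 : _root_.DerComp.smulEnd ((S a i) ^ N) (P.homology n) = 0 := by
    rw [← h1]
    change _ = ShortComplex.homologyMap ((HomologicalComplex.shortComplexFunctor _ _ n).map φ)
    rw [h2, ShortComplex.homologyMap_smul, ShortComplex.homologyMap_id, _root_.DerComp.smul_def]
    exact (Category.comp_id _).symm
  exact congrArg (fun z => z.val.app (op W) m) h3

set_option maxHeartbeats 800000 in
/-- Restrictions of the localised generators have vanishing iterated cones. -/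
theorem isZero_kos_gen (hSL : SL O a I) (W : C) {g : O.obj.obj (op W)} (hg : g ∈ I.ideal W) :
    IsZero (DerivedCategory.Q.obj (kos (S a) (List.finRange r)
      ((CochainComplex.singleFunctor (ModSite.Mod (O.over U)) 0).obj
        ((ModSite.restr O U).obj ((ExtZero.ModSite.EZ O W).obj (_root_.DerComp.awayOver O W g)))))) := by
  let B := _root_.DerComp.awayOver O W g
  let jB := (ExtZero.ModSite.EZ O W).obj B
  let G := (ModSite.restr O U).obj jB
  let F := (ModSite.tensorBi (O.over U)).obj G
  haveI : F.Additive := inferInstance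
  let e₁ : F.obj (ModSite.unit (O.over U)) ≅ G :=
    (ModTensor.ModSite.flipUnitIso (O := O.over U)).app G
  let e : (F.mapHomologicalComplex (.up ℤ)).obj (u₀ (O.over U)) ≅
      ((𝟭 (ModSite.Mod (O.over U))).mapHomologicalComplex (.up ℤ)).obj
        ((CochainComplex.singleFunctor (ModSite.Mod (O.over U)) 0).obj G) :=
    (HomologicalComplex.singleMapHomologicalComplex F (.up ℤ) 0).app _ ≪≫
      (HomologicalComplex.single _ (.up ℤ) 0).mapIso e₁ ≪≫
        ((HomologicalComplex.singleMapHomologicalComplex (𝟭 _) (.up ℤ) 0).app G).symm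
  have he : ∀ i, (F.mapHomologicalComplex (.up ℤ)).map (S a i • 𝟙 (u₀ (O.over U))) ≫ e.hom =
      e.hom ≫ ((𝟭 (ModSite.Mod (O.over U))).mapHomologicalComplex (.up ℤ)).map
        (S a i • 𝟙 ((CochainComplex.singleFunctor (ModSite.Mod (O.over U)) 0).obj G)) := fun i => by
    refine HomologicalComplex.hom_ext _ _ fun n => ?_
    change F.map ((S a i • 𝟙 (u₀ (O.over U))).f n) ≫ e.hom.f n = e.hom.f n ≫ _
    rw [RHomAway.smul_id_f, Away.smulEnd_tensor, Functor.mapHomologicalComplex_map_f,
      RHomAway.smul_id_f]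
    exact _root_.DerComp.smulEnd_comm _ _
  obtain ⟨eT⟩ := nonempty_transport F (𝟭 (ModSite.Mod (O.over U))) (S a) (S a) (List.finRange r)
    (u₀ (O.over U)) _ e he
  let P := kos (S a) (List.finRange r) (u₀ (O.over U))
  let T := (ModSite.tensorBi (O.over W)).obj B
  haveI hB := Away.isFlat_away (_root_.DerComp.GSec.ofSect O W g)
  haveI : PreservesFiniteLimits T :=
    haveI := hB.1
    preservesFiniteLimits_of_natIso (ModTensor.ModSite.flipObjIso B)
  haveI : PreservesFiniteColimits T :=
    haveI := hB.2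
    preservesFiniteColimits_of_natIso (ModTensor.ModSite.flipObjIso B)
  let E := ExtZero.ModSite.EZ O U
  haveI : PreservesFiniteColimits (ExtZero.ModSite.EZ O U) :=
    haveI : PreservesColimitsOfSize.{u, u} (ExtZero.ModSite.EZ O U) :=
      (ExtZero.ModSite.adjEZ O U).leftAdjoint_preservesColimits
    PreservesColimitsOfSize.preservesFiniteColimits _
  haveI : PreservesFiniteLimits (ModSite.restr O W) :=
    haveI := (_root_.ModSite.extZeroAdj O W).rightAdjoint_preservesLimits
    PreservesLimitsOfSize.preservesFiniteLimits.{0, 0} _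
  let Φ := E ⋙ ModSite.restr O W ⋙ T
  haveI : Φ.Additive := inferInstance
  haveI : Φ.PreservesHomology := inferInstance
  let i₁ : F ⋙ E ≅ Φ ⋙ ExtZero.ModSite.EZ O W :=
    Functor.isoWhiskerRight (ModTensor.ModSite.flipObjIso G).symm E ≪≫
      ExtZero.ModSite.projRight O U jB ≪≫
        Functor.isoWhiskerLeft E (ModTensor.ModSite.flipObjIso jB ≪≫
          ExtZero.ModSite.projLeft O W B)
  have hΦ : ∀ n, IsZero (((Φ.mapHomologicalComplex (.up ℤ)).obj P).homology n) := fun n => by
    refine IsZero.of_iso ?_ ((P.sc n).mapHomologyIso Φ)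
    refine isZero_away _ _ fun Z m => ?_
    obtain ⟨T', hT', hk⟩ := locally_killed hSL (P.homology n) (smul_homology_eq_zero n) Z.left m
      ((O.obj.map Z.hom.op).hom g) (I.map_mem _ hg)
    refine ⟨(Sieve.overEquiv Z).symm T', (GrothendieckTopology.mem_over_iff _ _).2
      (((Sieve.overEquiv Z).apply_symm_apply T').symm ▸ hT'), fun Z' q hq => ?_⟩
    obtain ⟨N, hN⟩ := hk q.left hq
    refine ⟨N, ?_⟩
    rw [map_comp_apply, Over.w q] at hN
    exact hN
  have hac : ∀ n, IsZero (((F.mapHomologicalComplex (.up ℤ)).obj P).homology n) := fun n => by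
    refine (ShortComplex.exact_iff_isZero_homology _).1 ?_
    haveI : E.PreservesHomology := inferInstance
    refine (ShortComplex.exact_map_iff_of_faithful _ E).1 ?_
    change ((P.sc n).map (F ⋙ E)).Exact
    rw [ShortComplex.exact_iff_of_iso ((P.sc n).mapNatIso i₁)]
    change ((((Φ.mapHomologicalComplex (.up ℤ)).obj P).sc n).map (ExtZero.ModSite.EZ O W)).Exact
    haveI : PreservesFiniteColimits (ExtZero.ModSite.EZ O W) :=
      haveI : PreservesColimitsOfSize.{u, u} (ExtZero.ModSite.EZ O W) :=
        (ExtZero.ModSite.adjEZ O W).leftAdjoint_preservesColimits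
      PreservesColimitsOfSize.preservesFiniteColimits _
    exact ((ShortComplex.exact_iff_isZero_homology _).2 (hΦ n)).map _
  refine IsZero.of_iso ?_ (DerivedCategory.Q.mapIso eT.symm)
  haveI : QuasiIso (0 : (F.mapHomologicalComplex (.up ℤ)).obj P ⟶
      (F.mapHomologicalComplex (.up ℤ)).obj P) := ⟨fun n => by
    rw [quasiIsoAt_iff_isIso_homologyMap]
    exact ⟨0, (hac n).eq_of_src _ _, (hac n).eq_of_src _ _⟩⟩
  haveI : IsIso (DerivedCategory.Q.map (0 : (F.mapHomologicalComplex (.up ℤ)).obj P ⟶
      (F.mapHomologicalComplex (.up ℤ)).obj P)) := inferInstance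
  rw [IsZero.iff_id_eq_zero, ← cancel_mono (DerivedCategory.Q.map (0 :
      (F.mapHomologicalComplex (.up ℤ)).obj P ⟶ (F.mapHomologicalComplex (.up ℤ)).obj P))]
  simp

/-- The object with no maps to complete objects is invisible to the test objects. -/
theorem subsingleton_test (hSL : SL O a I) {Cn : DerivedCategory (ModSite.Mod O)}
    (hC : ∀ E, _root_.DerComp.IsDerComp O I E → Subsingleton (Cn ⟶ E)) (n : ℤ) :
    Subsingleton (KU a ⟶ (R U).obj (Cn⟦n⟧)) := by
  refine subsingleton_hom_of_nilp' (S a) (List.finRange r) _ (fun E hE => ?_)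
    (fun i hi => absurd (List.mem_finRange i) hi) _ (nilp_KU a)
  haveI := DerivedOX.LeftRes.isLeftAdjoint_of_preservesColimits (_root_.ModSite.restr O U)
  haveI : (DerivedCategory.Qh (C := ModSite.Mod (O.over U))).IsLeftAdjoint := inferInstance
  let adj₀ := Adjunction.ofIsLeftAdjoint (_root_.ModSite.restr O U)
  haveI := adj₀.right_adjoint_additive
  let adj := DerCat.DerAdj.derivedAdj adj₀
  let G' := DerivedOX.RightDerived.resFunctor (ModSite.Mod (O.over U)) ⋙
    (_root_.ModSite.restr O U).rightAdjoint.mapHomotopyCategory (ComplexShape.up ℤ) ⋙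
      DerivedCategory.Qh
  have hΨ : _root_.DerComp.IsDerComp O I (G'.obj E) := fun W g hg m => by
    let X := SiteCmp.inD O ((_root_.ModSite.extZero O W).obj (_root_.DerComp.awayOver O W g))
    have hX : ∀ k : ℤ, Subsingleton (((R U).obj X)⟦k⟧ ⟶ E) := fun k => by
      let e : ((R U).obj X)⟦k⟧ ≅ (DerivedCategory.Q.obj
          ((CochainComplex.singleFunctor (ModSite.Mod (O.over U)) 0).obj
            ((ModSite.restr O U).obj ((ExtZero.ModSite.EZ O W).obj
              (_root_.DerComp.awayOver O W g)))))⟦k⟧ :=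
        (shiftFunctor _ k).mapIso (((_root_.ModSite.restr O U).mapDerivedCategorySingleFunctor 0).app _ ≪≫
          (DerivedCategory.singleFunctor _ 0).mapIso ((_root_.ModSite.restr O U).mapIso
            ((ExtZero.ModSite.extZeroIso O W).app _).symm) ≪≫
          ((SingleFunctors.evaluation _ _ 0).mapIso
            (DerivedCategory.singleFunctorsPostcompQIso (ModSite.Mod (O.over U)))).app _)
      have h0 := subsingleton_of_kos (S a) (List.finRange r) _ (isZero_kos_gen hSL W hg) _
        (fun i => (hE i).shift (-k))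
      refine ⟨fun p q => (cancel_epi e.inv).1 ?_⟩
      apply (shiftFunctor (DerivedCategory (ModSite.Mod (O.over U))) (-k)).map_injective
      exact (cancel_epi ((shiftFunctorCompIsoId _ k (-k) (by omega)).inv.app _)).1 (h0.elim _ _)
    haveI := hX (-m)
    refine ⟨fun p q => (shiftFunctor (DerivedCategory (ModSite.Mod O)) (-m)).map_injective ?_⟩
    rw [← cancel_mono ((shiftFunctorCompIsoId _ m (-m) (by omega)).hom.app (G'.obj E))]
    apply (adj.homEquiv (X⟦-m⟧) E).symm.injective
    rw [← cancel_epi (((R U).commShiftIso (-m)).inv.app X)]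
    exact Subsingleton.elim (α := ((R U).obj X)⟦-m⟧ ⟶ E) _ _
  haveI := hC _ (NilpTest.isDerComp_shift hΨ (-n))
  haveI : Subsingleton (Cn⟦n⟧ ⟶ G'.obj E) := ⟨fun p q => by
    apply (shiftFunctor (DerivedCategory (ModSite.Mod O)) (-n)).map_injective
    exact (cancel_epi ((shiftFunctorCompIsoId _ n (-n) (by omega)).inv.app Cn)).1
      (Subsingleton.elim (α := Cn ⟶ (G'.obj E)⟦-n⟧) _ _)⟩
  exact ⟨fun p q => (adj.homEquiv (Cn⟦n⟧) E).injective (Subsingleton.elim _ _)⟩

end Groth.Agent.Lib.DerComp.SiteOrth
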