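import Groth.Agent.Lib.DerComp.ExtScalar
import Groth.Agent.Lib.DerComp.SiteOrth

/-!
# The unit of extension of scalars on modules killed by powers of sections
-/

set_option linter.style.haveILetI false

universe u

open CategoryTheory CategoryTheory.Limits Opposite
attribute [local instance] HasDerivedCategory.standard
attribute [local instance] Abelian.hasFiniteBiproducts

namespace Groth.Agent.Lib.DerComp.TorsUnit

open Groth.Agent.Lib Groth.Agent.Lib.DerCat ExtScalar NilpTest Kos KosTest SiteOrth SpanLocal

section Abstract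

variable {C : Type u} [SmallCategory C] {J : GrothendieckTopology C} {O : Sheaf J CommRingCat.{u}}
  {r : ℕ} (s : Fin r → _root_.DerComp.GSec O)

/-- `(x i) ↦ ∑ s i • x i`. -/
noncomputable def d (X : ModSite.Mod O) : (⨁ fun _ : Fin r => X) ⟶ X :=
  ∑ i, biproduct.π (fun _ : Fin r => X) i ≫ _root_.DerComp.smulEnd (s i) X

lemma ι_d (X : ModSite.Mod O) (i : Fin r) :
    biproduct.ι (fun _ : Fin r => X) i ≫ d s X = _root_.DerComp.smulEnd (s i) X := by
  rw [d, Preadditive.comp_sum, Finset.sum_eq_single i]
  · rw [biproduct.ι_π_self_assoc]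
  · intro j _ hj
    rw [biproduct.ι_π_ne_assoc _ (Ne.symm hj), zero_comp]
  · exact fun h => absurd (Finset.mem_univ i) h

lemma d_comm {X Y : ModSite.Mod O} (e : X ⟶ Y) :
    d s X ≫ e = biproduct.map (fun _ : Fin r => e) ≫ d s Y := by
  rw [d, d, Preadditive.sum_comp, Preadditive.comp_sum]
  exact Finset.sum_congr rfl fun i _ => by
    rw [biproduct.map_π_assoc, Category.assoc, _root_.DerComp.smulEnd_comm]

/-- The map of cokernels. -/
noncomputable def bar {F : ModSite.Mod O} (e : ModSite.unit O ⟶ F) :
    cokernel (d s (ModSite.unit O)) ⟶ cokernel (d s F) :=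
  cokernel.map _ _ (biproduct.map fun _ : Fin r => e) e (d_comm s e)

/-- The map of cokernels is invertible when it is so on sections. -/
theorem isIso_bar {F : ModSite.Mod O} (e : ModSite.unit O ⟶ F)
    (hA : ∀ (W : C) (a : O.obj.obj (op W)),
      (cokernel.π (d s F)).val.app (op W) (e.val.app (op W) a) = 0 →
        (cokernel.π (d s (ModSite.unit O))).val.app (op W) a = 0)
    (hB : ∀ (W : C) (y : F.val.obj (op W)), ∃ T ∈ J W, ∀ ⦃W' : C⦄ (q : W' ⟶ W), T q →
      ∃ a : O.obj.obj (op W'), (cokernel.π (d s F)).val.app (op W') (rmap F q y) =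
        (cokernel.π (d s F)).val.app (op W') (e.val.app (op W') a)) :
    IsIso (bar s e) := by
  let πu := cokernel.π (d s (ModSite.unit O))
  let πF := cokernel.π (d s F)
  have hπ : πu ≫ bar s e = e ≫ πF := cokernel.π_desc _ _ _
  have hπ' : ∀ (W : C) (a : O.obj.obj (op W)),
      (bar s e).val.app (op W) (πu.val.app (op W) a) = πF.val.app (op W) (e.val.app (op W) a) :=
    fun W a => congrArg (fun z => z.val.app (op W) a) hπ
  haveI : Mono (bar s e) := Preadditive.mono_of_cancel_zero _ fun {Z} h hh =>
    SheafOfModules.hom_ext (PresheafOfModules.hom_ext fun X =>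
      ModuleCat.hom_ext (LinearMap.ext fun z => by
        obtain ⟨T, hT, hz⟩ := EtMod.SubSheaf.exists_local_preimage πu (h.val.app X z)
        refine EtMod.SubSheaf.sections_ext _ hT fun W' q hq => ?_
        obtain ⟨a, ha⟩ := hz q hq
        refine Eq.trans ?_ (rmap_zero (M := cokernel (d s (ModSite.unit O))) q).symm
        refine ha.symm.trans (hA W' a ?_)
        refine ((hπ' W' a).symm.trans (congrArg ((bar s e).val.app (op W')).hom ha)).trans ?_
        refine (app_rmap (bar s e) q (h.val.app X z)).trans ?_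
        refine Eq.trans ?_ (rmap_zero (M := cokernel (d s F)) q)
        exact congrArg (rmap _ q) (congrArg (fun k => k.val.app X z) hh)))
  haveI : Epi (bar s e) := Preadditive.epi_of_cancel_zero _ fun {Z} h hh => by
    have hp : πF ≫ h = 0 := SheafOfModules.hom_ext (PresheafOfModules.hom_ext fun X =>
      ModuleCat.hom_ext (LinearMap.ext fun y => by
        obtain ⟨T, hT, hy⟩ := hB X.unop y
        refine EtMod.SubSheaf.sections_ext _ hT fun W' q hq => ?_
        obtain ⟨a, ha⟩ := hy q hq
        refine Eq.trans ?_ (rmap_zero (M := Z) q).symm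
        refine (app_rmap (πF ≫ h) q y).symm.trans ?_
        change h.val.app (op W') (πF.val.app (op W') (rmap F q y)) = 0
        rw [ha, ← hπ']
        exact congrArg (fun k => k.val.app (op W') (πu.val.app (op W') a)) hh))
    exact (cancel_epi πF).1 (hp.trans comp_zero.symm)
  exact isIso_of_mono_of_epi _

/-- An exact functor killing the relations sees `e` as invertible. -/
theorem isIso_map_of_bar {B : Type*} [Category B] [Abelian B] (T : ModSite.Mod O ⥤ B) [T.Additive]
    [PreservesFiniteColimits T] (hT : ∀ X i, T.map (_root_.DerComp.smulEnd (s i) X) = 0)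
    {F : ModSite.Mod O} (e : ModSite.unit O ⟶ F) [IsIso (bar s e)] : IsIso (T.map e) := by
  have hd : ∀ X, T.map (d s X) = 0 := fun X => by
    rw [d, Functor.map_sum]
    exact Finset.sum_eq_zero fun i _ => by rw [Functor.map_comp, hT, comp_zero]
  have hπ : ∀ X, IsIso (T.map (cokernel.π (d s X))) := fun X => by
    let S := ShortComplex.mk (d s X) (cokernel.π (d s X)) (cokernel.condition _)
    obtain ⟨hex, hepi⟩ := (Functor.preservesFiniteColimits_iff_forall_exact_map_and_epi T).1
      inferInstance |> fun H => (⟨((S.map T).exact_iff_of_iso (Iso.refl _)).1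
        ((S.exact_of_g_is_cokernel (cokernelIsCokernel _)).map_of_epi_of_preservesCokernel T
          inferInstance inferInstance), inferInstance⟩ :
        (S.map T).Exact ∧ Epi (T.map (cokernel.π (d s X))))
    haveI := hepi
    haveI : Mono (T.map (cokernel.π (d s X))) := hex.mono_g (hd X)
    exact isIso_of_mono_of_epi _
  haveI := hπ (ModSite.unit O)
  haveI := hπ F
  have h : T.map e ≫ T.map (cokernel.π (d s F)) =
      T.map (cokernel.π (d s (ModSite.unit O))) ≫ T.map (bar s e) := by
    rw [← T.map_comp, ← T.map_comp, bar, cokernel.π_desc]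
  haveI : IsIso (T.map e ≫ T.map (cokernel.π (d s F))) := h ▸ inferInstance
  exact IsIso.of_isIso_comp_right (T.map e) (T.map (cokernel.π (d s F)))

variable {F : ModSite.Mod O} (e : ModSite.unit O ⟶ F)

/-- The unit is invertible on modules killed by powers of the sections. -/
theorem isIso_ηT_of_killed (hF : ModSite.IsFlat F) [IsIso (bar s e)] :
    ∀ (n : ℕ) (N : Fin r → ℕ), ∑ i, N i = n → ∀ M : ModSite.Mod O,
      (∀ i, _root_.DerComp.smulEnd (s i ^ N i) M = 0) → IsIso ((ηT e).app M) := by
  intro n
  induction n using Nat.strong_induction_on with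
  | _ n ih =>
    intro N hN M hM
    haveI := hF.1
    haveI := hF.2
    haveI : ((ModSite.tensorBi O).flip.obj F).Additive :=
      Functor.additive_of_preserves_binary_products _
    by_cases hz : ∃ i, N i = 0
    · obtain ⟨i, hi⟩ := hz
      have h0 := hM i
      rw [hi, pow_zero, _root_.DerComp.smulEnd_one] at h0
      have hMz : IsZero M := (IsZero.iff_id_eq_zero M).2 h0
      exact ⟨0, hMz.eq_of_src _ _, (((ModSite.tensorBi O).flip.obj F).map_isZero hMz).eq_of_src _ _⟩
    by_cases hb : ∃ g, 2 ≤ N g
    · obtain ⟨g, hg⟩ := hb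
      let t := _root_.DerComp.smulEnd (s g) M
      let ι := kernel.ι t
      let p := cokernel.π ι
      let S := ShortComplex.mk ι p (cokernel.condition _)
      have hS : S.ShortExact :=
        { exact := S.exact_of_g_is_cokernel (cokernelIsCokernel _) }
      have hK : ∀ i, _root_.DerComp.smulEnd (s i ^ Function.update N g 1 i) (kernel t) = 0 := fun i => by
        rw [← cancel_mono ι, zero_comp, _root_.DerComp.smulEnd_comm]
        by_cases hig : i = g
        · subst hig
          rw [Function.update_self, pow_one]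
          exact kernel.condition _
        · rw [Function.update_of_ne hig, hM i, comp_zero]
      have hQ : ∀ i, _root_.DerComp.smulEnd (s i ^ Function.update N g (N g - 1) i) (cokernel ι) = 0 :=
        fun i => by
        rw [← cancel_epi p, comp_zero, ← _root_.DerComp.smulEnd_comm]
        by_cases hig : i = g
        · subst hig
          rw [Function.update_self]
          have hl : _root_.DerComp.smulEnd (s i ^ (N i - 1)) M ≫ t = 0 := by
            rw [_root_.DerComp.smulEnd_comp, ← pow_succ, show N i - 1 + 1 = N i by omega, hM]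
          rw [← kernel.lift_ι t _ hl, Category.assoc, cokernel.condition, comp_zero]
        · rw [Function.update_of_ne hig, hM i, zero_comp]
      have hlt : ∀ m, m < N g → ∑ i, Function.update N g m i < n := fun m hm => by
        rw [← hN]
        refine Finset.sum_lt_sum (fun i _ => ?_) ⟨g, Finset.mem_univ g, by rw [Function.update_self]; exact hm⟩
        by_cases hig : i = g
        · subst hig; rw [Function.update_self]; omega
        · rw [Function.update_of_ne hig]
      haveI := ih _ (hlt 1 (by omega)) _ rfl _ hK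
      haveI := ih _ (hlt (N g - 1) (by omega)) _ rfl _ hQ
      let ψ : S.map (𝟭 _) ⟶ S.map ((ModSite.tensorBi O).flip.obj F) := S.mapNatTrans (ηT e)
      haveI : IsIso ψ.τ₁ := inferInstanceAs (IsIso ((ηT e).app (kernel t)))
      haveI : IsIso ψ.τ₃ := inferInstanceAs (IsIso ((ηT e).app (cokernel ι)))
      exact ShortComplex.isIso₂_of_shortExact_of_isIso₁₃' ψ (hS.map_of_exact (𝟭 _))
        (hS.map_of_exact _) inferInstance inferInstance
    · push Not at hz hb
      haveI : PreservesFiniteColimits ((ModSite.tensorBi O).obj M) :=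
        PreservesColimitsOfSize.preservesFiniteColimits.{u, u} _
      haveI : ((ModSite.tensorBi O).obj M).Additive := inferInstance
      haveI := isIso_map_of_bar s ((ModSite.tensorBi O).obj M) (fun X i => by
        have h1 : N i = 1 := by have := hz i; have := hb i; omega
        have h0 := hM i
        rw [h1, pow_one] at h0
        rw [Away.smulEnd_tensor, ← RHomComplete.smulEnd_tensor_left, h0]
        simp) e
      exact isIso_ηT_app e M

end Abstract

section Ring

variable {C : Type u} [SmallCategory C] {J : GrothendieckTopology C} {O O' : Sheaf J CommRingCat.{u}}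
  (φ : O ⟶ O') {U : C} {r : ℕ} (a : Fin r → O.obj.obj (op U))

/-- A sum of relations dies in the cokernel. -/
lemma π_sum {C : Type u} [SmallCategory C] {J : GrothendieckTopology C} {O : Sheaf J CommRingCat.{u}}
    {r : ℕ} (s : Fin r → _root_.DerComp.GSec O) (X : ModSite.Mod O) (W : C)
    (x : Fin r → X.val.obj (op W)) :
    (cokernel.π (d s X)).val.app (op W) (∑ i, (s i).1 W • x i) = 0 := by
  rw [map_sum]
  refine Finset.sum_eq_zero fun i _ => ?_
  have h : _root_.DerComp.smulEnd (s i) X ≫ cokernel.π (d s X) = 0 := by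
    rw [← ι_d s X i, Category.assoc, cokernel.condition, comp_zero]
  exact congrArg (fun z => z.val.app (op W) (x i)) h

/-- A section killed in the cokernel is locally a sum of relations. -/
lemma exists_cover_sum {C : Type u} [SmallCategory C] {J : GrothendieckTopology C}
    {O : Sheaf J CommRingCat.{u}} {r : ℕ} (s : Fin r → _root_.DerComp.GSec O) (X : ModSite.Mod O)
    (W : C) (y : X.val.obj (op W)) (hy : (cokernel.π (d s X)).val.app (op W) y = 0) :
    ∃ T ∈ J W, ∀ ⦃W' : C⦄ (q : W' ⟶ W), T q → ∃ x : Fin r → X.val.obj (op W'),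
      rmap X q y = ∑ i, (s i).1 W' • x i := by
  obtain ⟨k, hk⟩ := EtMod.SubSheaf.exists_kernel_lift _ y hy
  let S := ShortComplex.mk (d s X) (cokernel.π (d s X)) (cokernel.condition _)
  haveI : Epi (kernel.lift (cokernel.π (d s X)) (d s X) (cokernel.condition _)) :=
    S.exact_iff_epi_kernel_lift.1 (S.exact_of_g_is_cokernel (cokernelIsCokernel _))
  obtain ⟨T, hT, hz⟩ := EtMod.SubSheaf.exists_local_preimage
    (kernel.lift (cokernel.π (d s X)) (d s X) (cokernel.condition _)) k
  refine ⟨T, hT, fun W' q hq => ?_⟩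
  obtain ⟨z, hz⟩ := hz q hq
  refine ⟨fun i => (biproduct.π (fun _ : Fin r => X) i).val.app (op W') z, ?_⟩
  have h1 : (d s X).val.app (op W') z = rmap X q y := by
    rw [← kernel.lift_ι (cokernel.π (d s X)) (d s X) (cokernel.condition _),
      EtMod.SubSheaf.app_comp_apply, hz]
    exact (app_rmap (kernel.ι (cokernel.π (d s X))) q k).trans (congrArg (rmap X q) hk)
  rw [← h1]
  let ev : ((⨁ fun _ : Fin r => X) ⟶ X) →+ X.val.obj (op W') :=
    AddMonoidHom.mk' (fun f => f.val.app (op W') z) fun _ _ => rfl
  exact map_sum ev _ _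

variable {I : _root_.DerComp.IdealSh O} {I' : _root_.DerComp.IdealSh O'}

/-- The quotients agree. -/
theorem isIso_bar_oneU (hgen : (I.over U).IsGenBy (S a)) (hI' : _root_.DerComp.IsIdealExt φ I I')
    (hinj : ∀ (U : C) (f : O.obj.obj (op U)), (φ.hom.app (op U)).hom f ∈ I'.ideal U → f ∈ I.ideal U)
    (hsurj : ∀ (U : C) (f' : O'.obj.obj (op U)), ∃ S ∈ J U, ∀ ⦃V : C⦄ (g : V ⟶ U), S g →
      ∃ a : O.obj.obj (op V), (O'.obj.map g.op).hom f' - (φ.hom.app (op V)).hom a ∈ I'.ideal V) :
    IsIso (bar (S a) (oneU φ U)) := by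
  let b : Fin r → O'.obj.obj (op U) := fun i => (φ.hom.app (op U)).hom (a i)
  have hSL : SL O a I := sl_of_isGenBy hgen
  have hSL' : SL O' (U := U) b I' := sl_ext (idMor φ) (I := I) (I' := I') hI' hSL
  have hb : ∀ {Z : C} (p : Z ⟶ U) (i : Fin r), (O'.obj.map p.op).hom (b i) =
      (φ.hom.app (op Z)).hom ((O.obj.map p.op).hom (a i)) := fun p i =>
    (congrArg (fun z => z.hom (a i)) (φ.hom.naturality p.op)).symm
  have ha : ∀ i, a i ∈ I.ideal U := fun i => by
    have := hgen.1 i (Over.mk (𝟙 U))
    simp [_root_.DerComp.GSec.ofSect, _root_.DerComp.IdealSh.over, KosTest.S] at this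
    exact this
  refine isIso_bar (S a) (oneU φ U) (fun W c hc => ?_) (fun W y => ?_)
  · obtain ⟨T, hT, hx⟩ := exists_cover_sum (S a) _ W ((oneU φ U).val.app (op W) c) hc
    have hc' : c ∈ I.ideal W.left := by
      refine hinj _ _ (I'.glue (Sieve.overEquiv W T) ((GrothendieckTopology.mem_over_iff _ _).1 hT)
        fun Z q hq => ?_)
      obtain ⟨x, hx⟩ := hx (Over.homMk q : Over.mk (q ≫ W.hom) ⟶ W) ((Sieve.overEquiv_iff T q).1 hq)
      have hsum : (show O'.obj.obj (op Z) from (O'.obj.map q.op).hom ((φ.hom.app (op W.left)).hom c)) =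
          ∑ i, (φ.hom.app (op Z)).hom ((O.obj.map (q ≫ W.hom).op).hom (a i)) *
            (show O'.obj.obj (op Z) from eVal φ Z (x i)) :=
        (congrArg (eVal φ Z) hx).trans (map_sum (eVal φ Z) _ _)
      refine (congrArg (· ∈ I'.ideal Z) hsum).mpr ?_
      exact Ideal.sum_mem _ fun i _ => Ideal.mul_mem_right _ _
        (hI'.1 _ _ (I.map_mem _ (ha i)))
    refine EtMod.SubSheaf.sections_ext _ ((GrothendieckTopology.mem_over_iff _ _).2
      (show Sieve.overEquiv W ((Sieve.overEquiv W).symm (spanSieve O a W.hom c)) ∈ J W.left by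
        rw [OrderIso.apply_symm_apply]; exact hSL W.hom hc')) fun Z q hq => ?_
    refine Eq.trans ?_ (rmap_zero (M := cokernel (d (S a) _)) q).symm
    refine (app_rmap (cokernel.π (d (S a) (ModSite.unit (O.over U)))) q c).symm.trans ?_
    have hq' : (O.obj.map q.left.op).hom c ∈ spanAt O a (q.left ≫ W.hom) := hq
    rw [spanAt, Ideal.mem_span_range_iff_exists_fun] at hq'
    obtain ⟨k, hk⟩ := hq'
    refine (congrArg ((cokernel.π (d (S a) (ModSite.unit (O.over U)))).val.app (op Z)).hom
      (?_ : rmap (ModSite.unit (O.over U)) q c = _)).trans (π_sum (S a) _ Z k)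
    refine hk.symm.trans (Finset.sum_congr rfl fun i _ => ?_)
    rw [mul_comm, Over.w q]
    rfl
  · obtain ⟨T, hT, hy⟩ := hsurj W.left (eVal φ W.left y)
    let T' : Sieve W.left :=
      { arrows := fun Z q => ∃ c : O.obj.obj (op Z), (O'.obj.map q.op).hom (eVal φ W.left y) -
          (φ.hom.app (op Z)).hom c ∈ spanAt O' b (q ≫ W.hom)
        downward_closed := fun {Z Z'} {q} ⟨c, hc⟩ p => ⟨(O.obj.map p.op).hom c, by
          have := spanAt_map (q ≫ W.hom) p hc
          rw [map_sub, map_comp_apply] at this
          rw [Category.assoc]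
          convert this using 2
          exact (congrArg (fun z => z.hom c) (φ.hom.naturality p.op))⟩ }
    have hT' : T' ∈ J W.left := J.transitive hT _ fun Z q hq => by
      obtain ⟨c, hc⟩ := hy q hq
      refine J.superset_covering (fun Z' p hp => ⟨(O.obj.map p.op).hom c, ?_⟩) (hSL' (q ≫ W.hom) hc)
      have hp' : (O'.obj.map p.op).hom _ ∈ spanAt O' b (p ≫ q ≫ W.hom) := hp
      rw [map_sub, map_comp_apply] at hp'
      rw [Category.assoc]
      convert hp' using 2
      exact (congrArg (fun z => z.hom c) (φ.hom.naturality p.op))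
    refine ⟨(Sieve.overEquiv W).symm T', (GrothendieckTopology.mem_over_iff _ _).2
      (by rw [OrderIso.apply_symm_apply]; exact hT'), fun Z q hq => ?_⟩
    obtain ⟨c, hc⟩ := (show T' q.left from hq)
    refine ⟨c, ?_⟩
    rw [spanAt, Ideal.mem_span_range_iff_exists_fun] at hc
    obtain ⟨k, hk⟩ := hc
    refine sub_eq_zero.1 ((map_sub ((cokernel.π (d (S a) _)).val.app (op Z)).hom _ _).symm.trans ?_)
    refine (congrArg ((cokernel.π (d (S a) _)).val.app (op Z)).hom
      (?_ : _ = ∑ i, ((S a i).1 Z) • (show ((ModSite.restr O U).obj (E φ)).val.obj (op Z) from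
        eSec φ Z.left (k i)))).trans (π_sum (S a) _ Z _)
    refine hk.symm.trans (Finset.sum_congr rfl fun i _ => ?_)
    rw [mul_comm, hb, Over.w q]
    rfl

/-- The unit is a quasi-isomorphism on iterated cones. -/
theorem quasiIso_kos (hflat : ModSite.IsFlat (E φ)) [IsIso (bar (S a) (oneU φ U))]
    (X : CochainComplex (ModSite.Mod (O.over U)) ℤ) (hX : Nilp (S a) (DerivedCategory.Q.obj X))
    [((ModSite.tensorBi (O.over U)).flip.obj ((ModSite.restr O U).obj (E φ))).Additive] :
    QuasiIso ((NatTrans.mapHomologicalComplex (ηT (oneU φ U)) (ComplexShape.up ℤ)).app X) := by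
  have hF := ExtZero.ModSite.isFlat_restr O U (E φ) hflat
  refine ⟨fun n => ?_⟩
  rw [quasiIsoAt_iff_isIso_homologyMap]
  haveI := hF.1
  haveI := hF.2
  let T := (ModSite.tensorBi (O.over U)).flip.obj ((ModSite.restr O U).obj (E φ))
  haveI : T.PreservesHomology := inferInstance
  choose N hN using hX
  have hk : ∀ i, _root_.DerComp.smulEnd ((S a i) ^ N i) (X.homology n) = 0 := fun i => by
    let χ : X ⟶ X := (S a i) ^ N i • 𝟙 X
    have h0 : DerivedCategory.Q.map χ = 0 := by
      rw [Functor.map_smul, CategoryTheory.Functor.map_id]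
      exact hN i
    have h1 : HomologicalComplex.homologyMap χ n = 0 := by
      have e := DerivedCategory.homologyFunctorFactors_hom_naturality χ n
      rw [h0, Functor.map_zero, zero_comp] at e
      exact (cancel_epi ((DerivedCategory.homologyFunctorFactors _ n).hom.app X)).1
        (e.symm.trans comp_zero.symm)
    have h2 : (HomologicalComplex.shortComplexFunctor (ModSite.Mod (O.over U)) (ComplexShape.up ℤ) n).map χ =
        (S a i) ^ N i • 𝟙 (X.sc n) := by
      ext <;> rfl
    rw [← h1]
    change _ = ShortComplex.homologyMap ((HomologicalComplex.shortComplexFunctor _ _ n).map χ)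
    rw [h2, ShortComplex.homologyMap_smul, ShortComplex.homologyMap_id, _root_.DerComp.smul_def]
    exact (Category.comp_id _).symm
  haveI hη : IsIso ((ηT (oneU φ U)).app (X.sc n).homology) :=
    isIso_ηT_of_killed (S a) (oneU φ U) hF _ N rfl _ hk
  rw [NatTrans.app_homology] at hη
  change IsIso (ShortComplex.homologyMap ((X.sc n).mapNatTrans (ηT (oneU φ U))))
  haveI := hη
  haveI := IsIso.of_isIso_comp_left ((X.sc n).mapHomologyIso (𝟭 (ModSite.Mod (O.over U)))).inv
    (ShortComplex.homologyMap ((X.sc n).mapNatTrans (ηT (oneU φ U))) ≫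
      ((X.sc n).mapHomologyIso T).hom)
  exact IsIso.of_isIso_comp_right _ ((X.sc n).mapHomologyIso T).hom

end Ring

end Groth.Agent.Lib.DerComp.TorsUnit
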